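import Mathlib
import Cfsg.Prelude.Def_JComponents

/-!
# W4: the subgroup `W_K = [Ω₁(Z(O₂(K))), K]` has order at most 4 (statements of the pieces)

Setting: `T` a 2-group, `K = [K, J(T)]` with `|K : O₂(K)| = 3` and `W_K ≤ T`.  Then `|W_K| ≤ 4`
(and `= 4`, of exponent 2, when `W_K ≠ 1`).  This is the last clause of `IsJComponent` in the
existence of `J(T)`-components.

Route.  Take `A` elementary abelian of largest order in `T` not centralizing `K / O₂(K)`,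
`a ∈ A` and `x ∈ K` with `[a, x] ∉ O₂(K)`, `A0 := C_A(K / O₂(K))` (index 2), `U := W_K`.
On `U`: `x` acts fixed-point-freely with `x³ = 1`, `a` is an involution inverting `x`, `A0`
commutes with `x` and `a`.  For an `⟨x, a⟩`-invariant subgroup `U1 ≤ U`: `|C_{U1}(a)|² = |U1|`.
Maximality of `|A| = 2|A0|` against the elementary abelian groups `A0·C_U(A0)` and
`C_{A0}(U)·U` gives `|C_U(A0)| ≤ 4` and `|A0 : C_{A0}(U)| ≥ |U| / 4`; the counting lemma (CNT)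
applied to `A0` acting on `C_U(a)` gives `|A0 : C_{A0}(U)| ≤ |C_U(a)| / 2 = |U|^{1/2} / 2`.
-/

set_option autoImplicit false
open Cfsg

namespace Cfsg.Agent.H57.W4

universe u

/-- CNT: an abelian 2-group `E` acting (by conjugation) on an elementary abelian 2-group `U`
whose only possible nontrivial fixed point is `s` satisfies `2 |E| ≤ |U| · |C_E(U)|`. -/
def StCnt : Prop := ∀ {G : Type u} [Group G] [Finite G] (E U : Subgroup G) (s : G),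
  (∀ e ∈ E, ∀ f ∈ E, e * f = f * e) → IsPGroup 2 ↥E →
  (∀ u ∈ U, ∀ v ∈ U, u * v = v * u) → (∀ u ∈ U, u * u = 1) →
  (∀ e ∈ E, ∀ u ∈ U, e * u * e⁻¹ ∈ U) →
  s ∈ U → s ≠ 1 →
  (∀ u ∈ U, (∀ e ∈ E, e * u * e⁻¹ = u) → u = 1 ∨ u = s) →
  2 * Nat.card ↥E ≤ Nat.card ↥U * Nat.card ↥(E ⊓ Subgroup.centralizer (U : Set G))

/-- CORE: the abstract statement. -/
def StCore : Prop := ∀ {G : Type u} [Group G] [Finite G] (A0 U : Subgroup G) (x a : G),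
  (∀ u ∈ U, ∀ v ∈ U, u * v = v * u) → (∀ u ∈ U, u * u = 1) →
  (∀ u ∈ U, x * u * x⁻¹ ∈ U) → (∀ u ∈ U, x * u * x⁻¹ = u → u = 1) →
  (∀ u ∈ U, x * (x * (x * u * x⁻¹) * x⁻¹) * x⁻¹ = u) →
  (∀ u ∈ U, a * u * a⁻¹ ∈ U) → (∀ u ∈ U, a * (a * u * a⁻¹) * a⁻¹ = u) →
  (∀ u ∈ U, a * (x * (a⁻¹ * u * a) * x⁻¹) * a⁻¹ = x⁻¹ * u * x) →
  (∀ b ∈ A0, ∀ c ∈ A0, b * c = c * b) → (∀ b ∈ A0, b * b = 1) →
  (∀ b ∈ A0, ∀ u ∈ U, b * u * b⁻¹ ∈ U) →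
  (∀ b ∈ A0, b * a = a * b) →
  (∀ b ∈ A0, ∀ u ∈ U, b * (x * u * x⁻¹) * b⁻¹ = x * (b * u * b⁻¹) * x⁻¹) →
  (∀ B : Subgroup G, B ≤ A0 ⊔ U → (∀ b ∈ B, ∀ c ∈ B, b * c = c * b) → (∀ b ∈ B, b * b = 1) →
     Nat.card ↥B ≤ 2 * Nat.card ↥A0) →
  Nat.card ↥U ≤ 4

/-- BASIC: canonical facts about `O₂(K)` and `W_K`. -/
def StBasic : Prop := ∀ {G : Type u} [Group G] [Finite G] (K : Subgroup G),
  pCoreOf 2 K ≤ K ∧ IsPGroup 2 ↥(pCoreOf 2 K) ∧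
  (∀ g ∈ Subgroup.normalizer (K : Set G), ∀ o ∈ pCoreOf 2 K, g * o * g⁻¹ ∈ pCoreOf 2 K) ∧
  (∀ g ∈ Subgroup.normalizer (K : Set G), ∀ u ∈ wOf K, g * u * g⁻¹ ∈ wOf K) ∧
  (∀ u ∈ wOf K, ∀ v ∈ wOf K, u * v = v * u) ∧ (∀ u ∈ wOf K, u * u = 1) ∧
  (∀ o ∈ pCoreOf 2 K, ∀ u ∈ wOf K, o * u * o⁻¹ = u) ∧
  wOf K ≤ pCoreOf 2 K

/-- FPF: an element of `K` outside `O₂(K)` (of index 3) has its cube in `O₂(K)`, acts
fixed-point-freely on `W_K`, and `K = O ∪ O x ∪ O x⁻¹`. -/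
def StFpf : Prop := ∀ {G : Type u} [Group G] [Finite G] (K : Subgroup G),
  (pCoreOf 2 K).relIndex K = 3 → ∀ x ∈ K, x ∉ pCoreOf 2 K →
  x * x * x ∈ pCoreOf 2 K ∧ (∀ u ∈ wOf K, x * u * x⁻¹ = u → u = 1) ∧
  (∀ k ∈ K, k ∈ pCoreOf 2 K ∨ k * x⁻¹ ∈ pCoreOf 2 K ∨ k * x ∈ pCoreOf 2 K)

/-- ACT: some elementary abelian subgroup of largest order of `T` normalizes `K` and does not
centralize `K / O₂(K)`. -/
def StAct : Prop := ∀ {G : Type u} [Group G] [Finite G] (T K : Subgroup G),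
  ⁅K, thompsonSubgroupOf 2 T⁆ = K → (pCoreOf 2 K).relIndex K = 3 →
  ∃ A : Subgroup G, A ≤ T ∧ A ≤ Subgroup.normalizer (K : Set G) ∧
    (∀ b ∈ A, ∀ c ∈ A, b * c = c * b) ∧ (∀ b ∈ A, b * b = 1) ∧
    (∀ B : Subgroup G, B ≤ T → (∀ b ∈ B, ∀ c ∈ B, b * c = c * b) → (∀ b ∈ B, b * b = 1) →
      Nat.card ↥B ≤ Nat.card ↥A) ∧
    ∃ a ∈ A, ∃ k ∈ K, a * k * a⁻¹ * k⁻¹ ∉ pCoreOf 2 K

/-- W4: the last clause of `IsJComponent`. -/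
def StW4 : Prop := ∀ {G : Type u} [Group G] [Finite G] (T K : Subgroup G),
  ⁅K, thompsonSubgroupOf 2 T⁆ = K → (pCoreOf 2 K).relIndex K = 3 →
  wOf K ≤ T → wOf K ≠ ⊥ →
  Nat.card ↥(wOf K) = 4 ∧ ∀ w ∈ wOf K, w * w = 1

end Cfsg.Agent.H57.W4
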