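import Mathlib
import Cfsg.Prelude.Def_DStar
import Cfsg.Prelude.Def_PLocal

set_option autoImplicit false

namespace Cfsg.Agent.H57

open Subgroup
open scoped commutatorElement

/-- Counting lemma: if every left coset `kA` with `k ∈ K` meets `L`, and `A ⊓ K ≤ L`, then `|K| ≤ |L|`. -/
theorem card_le_of_coset_cover {G : Type*} [Group G] [Finite G] (A K L : Subgroup G)
    (h1 : ∀ k ∈ K, ∃ l ∈ L, l⁻¹ * k ∈ A) (h2 : A ⊓ K ≤ L) : Nat.card ↥K ≤ Nat.card ↥L := by
  classical
  -- representative function on `K` modulo `A`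
  let r : ↥K → ↥K := fun k => (QuotientGroup.mk k : ↥K ⧸ A.subgroupOf K).out
  have hr : ∀ k : ↥K, ((r k)⁻¹ * k : ↥K) ∈ A.subgroupOf K := by
    intro k
    have : (QuotientGroup.mk (r k) : ↥K ⧸ A.subgroupOf K) = QuotientGroup.mk k :=
      Quotient.out_eq' _
    exact QuotientGroup.eq.mp this
  have hr2 : ∀ k k' : ↥K, ((k⁻¹ * k' : ↥K) : G) ∈ A → r k = r k' := by
    intro k k' h
    have : (QuotientGroup.mk k : ↥K ⧸ A.subgroupOf K) = QuotientGroup.mk k' :=
      QuotientGroup.eq.mpr (mem_subgroupOf.mpr h)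
    simp only [r, this]
  choose ℓ hℓL hℓA using h1
  have hb : ∀ k : ↥K, ((r k : G)⁻¹ * (k : G)) ∈ L := by
    intro k
    apply h2
    refine mem_inf.mpr ⟨?_, ?_⟩
    · have := mem_subgroupOf.mp (hr k)
      simpa using this
    · exact K.mul_mem (K.inv_mem (r k).2) k.2
  have hbA : ∀ k : ↥K, ((r k : G)⁻¹ * (k : G)) ∈ A := by
    intro k
    have := mem_subgroupOf.mp (hr k)
    simpa using this
  let F : ↥K → ↥L := fun k =>
    ⟨ℓ (r k : G) (r k).2 * ((r k : G)⁻¹ * (k : G)), L.mul_mem (hℓL _ _) (hb k)⟩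
  apply Nat.card_le_card_of_injective F
  intro k k' hF
  have hF' : ℓ (r k : G) (r k).2 * ((r k : G)⁻¹ * (k : G)) =
      ℓ (r k' : G) (r k').2 * ((r k' : G)⁻¹ * (k' : G)) := congrArg Subtype.val hF
  -- k⁻¹ k' ∈ A
  have ha := hℓA (r k : G) (r k).2
  have ha' := hℓA (r k' : G) (r k').2
  have hkk' : ((k⁻¹ * k' : ↥K) : G) ∈ A := by
    have e : ((k⁻¹ * k' : ↥K) : G) =
        ((r k : G)⁻¹ * (k : G))⁻¹ * ((ℓ (r k : G) (r k).2)⁻¹ * (r k : G))⁻¹ *
          (((r k : G)⁻¹ * (k : G)) * ((r k' : G)⁻¹ * (k' : G))⁻¹) *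
          ((ℓ (r k' : G) (r k').2)⁻¹ * (r k' : G)) * ((r k' : G)⁻¹ * (k' : G)) := by
      have e2 : ((r k : G)⁻¹ * (k : G)) * ((r k' : G)⁻¹ * (k' : G))⁻¹ =
          (ℓ (r k : G) (r k).2)⁻¹ * ℓ (r k' : G) (r k').2 := by
        rw [eq_inv_mul_iff_mul_eq, ← mul_assoc, hF', mul_assoc, mul_inv_cancel, mul_one]
      rw [e2]
      push_cast
      group
    rw [e]
    exact A.mul_mem (A.mul_mem (A.mul_mem (A.mul_mem (A.inv_mem (hbA k)) (A.inv_mem ha))
      (A.mul_mem (hbA k) (A.inv_mem (hbA k')))) ha') (hbA k')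
  have hrr := hr2 k k' hkk'
  rw [hrr] at hF'
  have h3 : ((r k' : G)⁻¹ * (k : G)) = ((r k' : G)⁻¹ * (k' : G)) := mul_left_cancel hF'
  exact Subtype.ext (mul_left_cancel h3)

/-- The subgroup generated by the commutators `⁅x, a⁆`, `a ∈ A`. -/
def commSub {G : Type*} [Group G] (x : G) (A : Subgroup G) : Subgroup G :=
  closure {c | ∃ a ∈ A, c = ⁅x, a⁆}

theorem commutator_mem_commSub {G : Type*} [Group G] (x : G) (A : Subgroup G) (a : G) (ha : a ∈ A) :
    ⁅x, a⁆ ∈ commSub x A :=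
  subset_closure ⟨a, ha, rfl⟩

theorem commSub_le {G : Type*} [Group G] (x : G) (A N : Subgroup G) (h : ∀ a ∈ A, ⁅x, a⁆ ∈ N) :
    commSub x A ≤ N := by
  unfold commSub
  rw [closure_le]
  rintro _ ⟨a, ha, rfl⟩
  exact h a ha

/-- The replacement subgroup `A* = E · [x, A] · (A ∩ xAx⁻¹)`. -/
def aStar {G : Type*} [Group G] (E : Subgroup G) (x : G) (A : Subgroup G) : Subgroup G :=
  E ⊔ commSub x A ⊔ (A ⊓ A.map (MulAut.conj x).toMonoidHom)

theorem le_aStar_left {G : Type*} [Group G] (E : Subgroup G) (x : G) (A : Subgroup G) :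
    E ≤ aStar E x A := le_sup_of_le_left le_sup_left

theorem commSub_le_aStar {G : Type*} [Group G] (E : Subgroup G) (x : G) (A : Subgroup G) :
    commSub x A ≤ aStar E x A := le_sup_of_le_left le_sup_right

theorem inf_le_aStar {G : Type*} [Group G] (E : Subgroup G) (x : G) (A : Subgroup G) :
    A ⊓ A.map (MulAut.conj x).toMonoidHom ≤ aStar E x A := le_sup_right

theorem aStar_le {G : Type*} [Group G] (E : Subgroup G) (x : G) (A N : Subgroup G)
    (hE : E ≤ N) (hM : commSub x A ≤ N) (hA : A ≤ N) : aStar E x A ≤ N :=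
  sup_le (sup_le hE hM) (inf_le_left.trans hA)

/-- The replacement lemma: `A*` is abelian as soon as `[x, A]` is abelian and centralized by `E ≤ A`. -/
theorem aStar_abelian {G : Type*} [Group G] (A : Subgroup G) (hA : A ≤ centralizer (A : Set G))
    (x : G) (E : Subgroup G) (hEA : E ≤ A)
    (hM : commSub x A ≤ centralizer (commSub x A : Set G))
    (hE : E ≤ centralizer (commSub x A : Set G)) :
    aStar E x A ≤ centralizer (aStar E x A : Set G) := by
  have hI : A ⊓ A.map (MulAut.conj x).toMonoidHom ≤ centralizer (commSub x A : Set G) := by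
    unfold commSub
    rw [centralizer_closure]
    intro b hb
    obtain ⟨hbA, a0, ha0, hb0⟩ := mem_inf.mp hb
    rw [mem_centralizer_iff]
    rintro _ ⟨a, ha, rfl⟩
    -- b commutes with x a x⁻¹ and with a⁻¹
    have h1 : (x * a * x⁻¹) * b = b * (x * a * x⁻¹) := by
      rw [← hb0]
      simp only [MulEquiv.coe_toMonoidHom, MulAut.conj_apply]
      have := hA ha a0 ha0
      calc x * a * x⁻¹ * (x * a0 * x⁻¹) = x * (a * a0) * x⁻¹ := by group
        _ = x * (a0 * a) * x⁻¹ := by rw [this]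
        _ = x * a0 * x⁻¹ * (x * a * x⁻¹) := by group
    have h2 : a⁻¹ * b = b * a⁻¹ := hA hbA a⁻¹ (A.inv_mem ha)
    rw [commutatorElement_def]
    calc x * a * x⁻¹ * a⁻¹ * b = x * a * x⁻¹ * (a⁻¹ * b) := by group
      _ = (x * a * x⁻¹ * b) * a⁻¹ := by rw [h2]; group
      _ = b * (x * a * x⁻¹ * a⁻¹) := by rw [h1]; group
  have hAle : ∀ B : Subgroup G, B ≤ A → B ≤ centralizer ((A : Subgroup G) : Set G) :=
    fun B hB => hB.trans hA
  have hcA : ∀ B : Subgroup G, B ≤ A → centralizer ((A : Subgroup G) : Set G) ≤ centralizer (B : Set G) :=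
    fun B hB => centralizer_le hB
  have hIA : A ⊓ A.map (MulAut.conj x).toMonoidHom ≤ A := inf_le_left
  -- centralizer of each of the three pieces contains all three pieces
  have c1 : aStar E x A ≤ centralizer (E : Set G) :=
    sup_le (sup_le ((hAle E hEA).trans (hcA E hEA)) (le_centralizer_iff.mp hE))
      ((hAle _ hIA).trans (hcA E hEA))
  have c2 : aStar E x A ≤ centralizer (commSub x A : Set G) := sup_le (sup_le hE hM) hI
  have c3 : aStar E x A ≤ centralizer ((A ⊓ A.map (MulAut.conj x).toMonoidHom : Subgroup G) : Set G) :=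
    sup_le (sup_le ((hAle E hEA).trans (hcA _ hIA)) (le_centralizer_iff.mp hI))
      ((hAle _ hIA).trans (hcA _ hIA))
  rw [le_centralizer_iff]
  exact sup_le (sup_le (le_centralizer_iff.mp c1) (le_centralizer_iff.mp c2)) (le_centralizer_iff.mp c3)

/-- The replacement lemma: `|A| ≤ |A*|`. -/
theorem card_le_card_aStar {G : Type*} [Group G] [Finite G] (A : Subgroup G) (x : G) (E : Subgroup G) :
    Nat.card ↥A ≤ Nat.card ↥(aStar E x A) := by
  have hcard : Nat.card ↥(A.map (MulAut.conj x).toMonoidHom) = Nat.card ↥A :=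
    card_map_of_injective (MulAut.conj x).injective
  rw [← hcard]
  apply card_le_of_coset_cover A
  · rintro _ ⟨a, ha, rfl⟩
    refine ⟨⁅x, a⁆, commSub_le_aStar E x A (commutator_mem_commSub x A a ha), ?_⟩
    have : (⁅x, a⁆)⁻¹ * (MulAut.conj x).toMonoidHom a = a := by
      simp only [MulEquiv.coe_toMonoidHom, MulAut.conj_apply, commutatorElement_def]
      group
    rw [this]; exact ha
  · exact inf_le_aStar E x A

end Cfsg.Agent.H57
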