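import Mathlib
import Cfsg.Agent.H50.AmDefs

/-!
# AM-S34 (S2262 team project, lead helper50): `σ`-real `3 × 3` matrices over the field with
four elements have a scalar power `g ^ N`, `N ≤ 10` (helper57)
-/

set_option autoImplicit false

open Matrix Polynomial

namespace Cfsg.Agent.H57.Am

open Cfsg.Agent.H50.Am

universe u

section aux

variable {F : Type u} [Field F]

/-- Explicit Cayley–Hamilton for `3 × 3` matrices. -/
theorem s34_ch3 (g : Matrix (Fin 3) (Fin 3) F) :
    g ^ 3 - g.trace • g ^ 2 + g.adjugate.trace • g - g.det • (1 : Matrix (Fin 3) (Fin 3) F)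
      = 0 := by
  ext i j
  fin_cases i <;> fin_cases j <;>
    simp [pow_succ, Matrix.mul_apply, Fin.sum_univ_three, Matrix.trace, Matrix.det_fin_three,
      Matrix.adjugate_fin_three] <;> ring

theorem s34_aeval (g : Matrix (Fin 3) (Fin 3) F) (t e δ : F) (ht : t = g.trace)
    (he : e = g.adjugate.trace) (hδ : δ = g.det) :
    aeval g (X ^ 3 - C t * X ^ 2 + C e * X - C δ : F[X]) = 0 := by
  have h := s34_ch3 g
  rw [← ht, ← he, ← hδ] at h
  simpa only [map_sub, map_add, map_mul, map_pow, aeval_X, aeval_C,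
    Algebra.algebraMap_eq_smul_one, smul_mul_assoc, one_mul] using h

variable [Fintype F]

theorem s34_two (hF : Fintype.card F = 4) : (2 : F) = 0 := by
  have h := Nat.cast_card_eq_zero F
  rw [hF] at h
  have h4 : (2 : F) * 2 = 0 := by
    have h5 : ((4 : ℕ) : F) = 2 * 2 := by norm_num
    rw [← h5]; exact h
  exact mul_self_eq_zero.1 h4

theorem s34_cube (hF : Fintype.card F = 4) (x : F) (hx : x ≠ 0) : x ^ 3 = 1 := by
  have h := FiniteField.pow_card_sub_one_eq_one x hx
  rwa [hF] at h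

theorem s34_quad (hF : Fintype.card F = 4) (x : F) (hx0 : x ≠ 0) (hx1 : x ≠ 1) :
    x ^ 2 + x + 1 = 0 := by
  have h3 := s34_cube hF x hx0
  have h : (x - 1) * (x ^ 2 + x + 1) = 0 := by linear_combination h3
  rcases mul_eq_zero.1 h with h | h
  · exact absurd (sub_eq_zero.1 h) hx1
  · exact h

theorem s34_sigma (hF : Fintype.card F = 4) (σ : F ≃+* F) (hσ : ∃ x, σ x ≠ x) (x : F) :
    σ x = x ^ 2 := by
  obtain ⟨z, hz⟩ := hσ
  have hz0 : z ≠ 0 := by rintro rfl; exact hz (map_zero σ)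
  have hz1 : z ≠ 1 := by rintro rfl; exact hz (map_one σ)
  have hzq := s34_quad hF z hz0 hz1
  have hσz : σ z = z ^ 2 := by
    have h1 : (σ z) ^ 2 + σ z + 1 = 0 := by
      have h := congrArg σ hzq
      simpa [map_add, map_pow] using h
    have h3 : (σ z - z) * (σ z + z + 1) = 0 := by linear_combination h1 - hzq
    rcases mul_eq_zero.1 h3 with h | h
    · exact absurd (sub_eq_zero.1 h) hz
    · linear_combination h - hzq
  by_cases hx0 : x = 0
  · rw [hx0]; simp
  by_cases hx1 : x = 1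
  · rw [hx1]; simp
  have hxq := s34_quad hF x hx0 hx1
  have h3 : (x - z) * (x + z + 1) = 0 := by linear_combination hxq - hzq
  rcases mul_eq_zero.1 h3 with h | h
  · have hxz : x = z := sub_eq_zero.1 h
    rw [hxz, hσz]
  · have hx : x = z ^ 2 := by linear_combination h - hzq
    rw [hx, map_pow, hσz]

end aux

theorem s34 : StS34.{u} := by
  intro F _ _ σ g h hσ hF hR
  obtain ⟨hgh, c, c', hcc, hh⟩ := hR
  have h2 := s34_two hF
  obtain ⟨t, ht⟩ : ∃ t : F, t = g.trace := ⟨_, rfl⟩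
  obtain ⟨δ, hδ⟩ : ∃ δ : F, δ = g.det := ⟨_, rfl⟩
  obtain ⟨e, he⟩ : ∃ e : F, e = g.adjugate.trace := ⟨_, rfl⟩
  have hδ0 : δ ≠ 0 := by
    intro h0
    have h1 := congrArg Matrix.det hgh
    rw [Matrix.det_mul, Matrix.det_one, ← hδ, h0, zero_mul] at h1
    exact zero_ne_one h1
  have hc'c : c' * c = 1 := mul_eq_one_comm.1 hcc
  have htr : h.trace = σ t := by
    rw [hh, Matrix.trace_mul_cycle, hc'c, one_mul, Matrix.trace_transpose, ht]
    simp [Matrix.trace, Fin.sum_univ_three]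
  have hadj : g.adjugate = δ • h := by
    have h1 := Matrix.adjugate_mul g
    calc g.adjugate = g.adjugate * (g * h) := by rw [hgh, mul_one]
      _ = g.adjugate * g * h := (mul_assoc _ _ _).symm
      _ = δ • h := by rw [h1, smul_mul_assoc, one_mul, hδ]
  have he' : e = δ * t ^ 2 := by
    rw [he, hadj, Matrix.trace_smul, htr, s34_sigma hF σ hσ t, smul_eq_mul]
  have hP := s34_aeval g t e δ ht he hδ
  rw [he'] at hP
  by_cases ht0 : t = 0
  · refine ⟨3, by norm_num, by norm_num, δ, ?_⟩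
    rw [ht0] at hP
    have h3 : aeval g (X ^ 3 - C δ : F[X]) = 0 := by
      have h4 : (X ^ 3 - C (0 : F) * X ^ 2 + C (δ * 0 ^ 2) * X - C δ : F[X]) = X ^ 3 - C δ := by
        simp
      rw [← h4]; exact hP
    simp only [map_sub, map_pow, aeval_X, aeval_C, Algebra.algebraMap_eq_smul_one] at h3
    exact sub_eq_zero.1 h3
  have ht3 := s34_cube hF t ht0
  have hT : (C t : F[X]) ^ 3 = 1 := by rw [← C_pow, ht3, C_1]
  by_cases hδ1 : δ = 1
  · refine ⟨4, by norm_num, by norm_num, t, ?_⟩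
    rw [hδ1] at hP
    have hpoly : (X ^ 4 - C t : F[X]) =
        (X ^ 3 - C t * X ^ 2 + C (1 * t ^ 2) * X - C 1) * (X + C t) := by
      rw [one_mul, C_pow, C_1]
      linear_combination (-X) * hT
    have h3 := congrArg (aeval g) hpoly
    rw [map_mul, hP, zero_mul] at h3
    simp only [map_sub, map_pow, aeval_X, aeval_C, Algebra.algebraMap_eq_smul_one] at h3
    exact sub_eq_zero.1 h3
  · refine ⟨6, by norm_num, by norm_num, 1, ?_⟩
    have hD := s34_quad hF δ hδ0 hδ1
    have hDp : (C δ : F[X]) ^ 2 + C δ + 1 = 0 := by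
      rw [← C_pow, ← C_add, ← C_1, ← C_add, hD, C_0]
    have h2p : (2 : F[X]) = 0 := by
      rw [← map_ofNat (C : F →+* F[X]) 2, h2, C_0]
    have hpoly : (X ^ 6 - 1 : F[X]) =
        (X ^ 3 - C t * X ^ 2 + C (δ * t ^ 2) * X - C δ) *
          (X ^ 3 + C t * X ^ 2 + C δ ^ 2 * C t ^ 2 * X + C δ ^ 2) := by
      rw [C_mul, C_pow]
      linear_combination ((C δ ^ 2 - C δ) * X ^ 3 - C t * C δ ^ 3 * X ^ 2) * hT +
        (-(C t ^ 2) * X ^ 4 - C t * (C δ - 2) * X ^ 2 + (C δ - 1)) * hDp +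
        (C t ^ 2 * X ^ 4 - C t * X ^ 2) * h2p
    have h3 := congrArg (aeval g) hpoly
    rw [map_mul, hP, zero_mul] at h3
    simp only [map_sub, map_pow, aeval_X, map_one] at h3
    rw [one_smul]
    exact sub_eq_zero.1 h3

example : StS34.{u} := s34

end Cfsg.Agent.H57.Am
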