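import Mathlib
import Cfsg.Agent.H57.BG134RDefs
import Cfsg.Agent.H1.PQLemma

set_option autoImplicit false

/-!
# Lemma R (B&G 12.18(a)): the pure core (helper57)

`core hM hA : StCore G` from the relative fixed-point lemma `StM1R` and the abelian
decomposition `StAbDec`.
-/

namespace Cfsg.Agent.H57.BG134R

open Cfsg Subgroup
open scoped commutatorElement

universe u

variable {G : Type u} [Group G]

theorem le_norm_of_forall {K A : Subgroup G} (h : ∀ y ∈ A, ∀ z ∈ K, y * z * y⁻¹ ∈ K) :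
    A ≤ normalizer (K : Set G) := by
  intro y hy
  rw [mem_normalizer_iff]
  intro z
  constructor
  · exact h y hy z
  · intro hz
    have := h y⁻¹ (A.inv_mem hy) _ hz
    simpa [mul_assoc] using this

theorem conj_mem_of_le_norm {K A : Subgroup G} (h : A ≤ normalizer (K : Set G)) {y z : G}
    (hy : y ∈ A) (hz : z ∈ K) : y * z * y⁻¹ ∈ K :=
  (mem_normalizer_iff.mp (h hy) z).mp hz

theorem le_norm_centralizer {Q A : Subgroup G} (h : A ≤ normalizer (Q : Set G)) :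
    A ≤ normalizer ((centralizer (Q : Set G) : Subgroup G) : Set G) := by
  apply le_norm_of_forall
  intro y hy z hz
  rw [mem_centralizer_iff] at hz ⊢
  intro x hx
  have h1 : y⁻¹ * x * y ∈ Q := by
    have := conj_mem_of_le_norm h (A.inv_mem hy) hx
    simpa using this
  have h2 := hz _ h1
  calc x * (y * z * y⁻¹) = y * ((y⁻¹ * x * y) * z) * y⁻¹ := by group
    _ = y * (z * (y⁻¹ * x * y)) * y⁻¹ := by rw [h2]
    _ = y * z * y⁻¹ * x := by group

theorem card_lt_of_lt' [Finite G] {H K : Subgroup G} (h : H < K) : Nat.card H < Nat.card K := by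
  refine lt_of_le_of_ne (Subgroup.card_le_of_le h.le) fun e => h.ne ?_
  exact Subgroup.eq_of_le_of_card_ge h.le e.ge

theorem comm_of_cyclic (Z : Subgroup G) (hZ : IsCyclic Z) {a b : G} (ha : a ∈ Z) (hb : b ∈ Z) :
    a * b = b * a := by
  have := (IsCyclic.commGroup (α := Z)).mul_comm ⟨a, ha⟩ ⟨b, hb⟩
  exact congrArg Subtype.val this

/-- In a cyclic group, a nontrivial `s`-subgroup contains every element with `c ^ s = 1`. -/
theorem cyc_mem [Finite G] (Z X : Subgroup G) (s : ℕ) (hs : s.Prime) (hZ : IsCyclic Z)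
    (hXZ : X ≤ Z) (hXs : IsPGroup s X) (hX : X ≠ ⊥) (c : G) (hc : c ∈ Z) (hcs : c ^ s = 1) :
    c ∈ X := by
  classical
  haveI := Fact.mk hs
  obtain ⟨n, hn⟩ := IsPGroup.iff_card.mp hXs
  have hn0 : n ≠ 0 := by
    rintro rfl
    rw [pow_zero] at hn
    exact hX (Subgroup.card_eq_one.mp hn)
  have hdvd : s ∣ Nat.card X := hn ▸ dvd_pow_self s hn0
  obtain ⟨x', hx'⟩ := exists_prime_orderOf_dvd_card' s hdvd
  let z' : Z := ⟨x'.1, hXZ x'.2⟩
  have hz' : orderOf z' = s := by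
    rw [← hx', ← Subgroup.orderOf_coe x', ← Subgroup.orderOf_coe z']
  let cz : Z := ⟨c, hc⟩
  have hcz : cz ^ s = 1 := Subtype.ext (by simpa using hcs)
  haveI : Fintype Z := Fintype.ofFinite Z
  have hle := IsCyclic.card_pow_eq_one_le (α := Z) hs.pos
  have hsub : (Set.toFinset (Subgroup.zpowers z' : Set Z)) ⊆
      Finset.univ.filter (fun a : Z => a ^ s = 1) := by
    intro a ha
    rw [Set.mem_toFinset] at ha
    obtain ⟨i, rfl⟩ := Subgroup.mem_zpowers_iff.mp ha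
    rw [Finset.mem_filter]
    refine ⟨Finset.mem_univ _, ?_⟩
    rw [← zpow_natCast, ← zpow_mul, mul_comm, zpow_mul, zpow_natCast, ← hz', pow_orderOf_eq_one,
      one_zpow]
  have hcard : (Set.toFinset (Subgroup.zpowers z' : Set Z)).card = s := by
    rw [Set.toFinset_card, ← hz']
    exact Fintype.card_zpowers
  have heq := Finset.eq_of_subset_of_card_le hsub (by rw [hcard]; exact hle)
  have hmem : cz ∈ Finset.univ.filter (fun a : Z => a ^ s = 1) := by
    rw [Finset.mem_filter]; exact ⟨Finset.mem_univ _, hcz⟩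
  rw [← heq, Set.mem_toFinset] at hmem
  obtain ⟨i, hi⟩ := Subgroup.mem_zpowers_iff.mp hmem
  have : c = (x'.1) ^ i := by
    have := congrArg Subtype.val hi
    simpa [z', cz] using this.symm
  rw [this]
  exact X.zpow_mem x'.2 i

section coreSec

variable [Finite G]

theorem solv_of_pgroup {s : ℕ} (hs : s.Prime) {S1 : Subgroup G} (h : IsPGroup s S1) :
    Group.IsSolvable S1 := by
  haveI := Fact.mk hs
  haveI : Group.IsNilpotent S1 := h.isNilpotent
  infer_instance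

/-- `⁅S1, S1⁆ ≤ S1 ⊓ C(Q)` under the induction hypothesis. -/
theorem comm_le_W (S Q R : Subgroup G) (s : ℕ) (hs : s.Prime) (hS : IsPGroup s S)
    (S1 : Subgroup G) (hS1 : S1 ≤ S) (hQ1 : Q ≤ normalizer (S1 : Set G))
    (hR1 : R ≤ normalizer (S1 : Set G))
    (IH : ∀ S2 : Subgroup G, S2 ≤ S → Q ≤ normalizer (S2 : Set G) → R ≤ normalizer (S2 : Set G) →
        Nat.card S2 < Nat.card S1 → S2 ≤ centralizer (Q : Set G))
    (hnot : ¬ S1 ≤ centralizer (Q : Set G)) :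
    ⁅S1, S1⁆ ≤ S1 ⊓ centralizer (Q : Set G) := by
  haveI := Fact.mk hs
  have hS1p : IsPGroup s S1 := hS.to_le hS1
  have hS1ne : S1 ≠ ⊥ := by rintro rfl; exact hnot bot_le
  have hDlt : ⁅S1, S1⁆ < S1 :=
    Cfsg.Agent.H1.commutator_lt_of_pgroup s S1 S1 hS1p hS1p le_normalizer hS1ne
  exact le_inf hDlt.le (IH ⁅S1, S1⁆ (hDlt.le.trans hS1)
    (Cfsg.Agent.H1.le_normalizer_commutator Q S1 S1 hQ1 hQ1)
    (Cfsg.Agent.H1.le_normalizer_commutator R S1 S1 hR1 hR1) (card_lt_of_lt' hDlt))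

theorem norm_of_comm_le {S1 W : Subgroup G} (hWS : W ≤ S1) (hD : ⁅S1, S1⁆ ≤ W) :
    S1 ≤ normalizer (W : Set G) := by
  apply le_norm_of_forall
  intro b hb w hw
  have h1 : ⁅b, w⁆ ∈ ⁅S1, S1⁆ := Subgroup.commutator_mem_commutator hb (hWS hw)
  have h2 : b * w * b⁻¹ = ⁅b, w⁆ * w := by rw [commutatorElement_def]; group
  rw [h2]
  exact W.mul_mem (hD h1) hw

/-- The induction: every `Q,R`-invariant subgroup of `S` is centralised by `Q`. -/
theorem core_ind (hM : StM1R G) (S Q R : Subgroup G) (s r : ℕ) (hs : s.Prime)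
    (hS : IsPGroup s S) (hRQ : R ≤ normalizer (Q : Set G)) (hr : r.Prime)
    (hRc : Nat.card R = r) (hrs : r ≠ s) (hQR : Q ⊓ centralizer (R : Set G) = ⊥)
    (hcop : (Nat.card Q).Coprime (Nat.card S))
    (hkey : ∀ S1 : Subgroup G, S1 ≤ S → Q ≤ normalizer (S1 : Set G) →
      R ≤ normalizer (S1 : Set G) →
      (∀ S2 : Subgroup G, S2 ≤ S → Q ≤ normalizer (S2 : Set G) → R ≤ normalizer (S2 : Set G) →
        Nat.card S2 < Nat.card S1 → S2 ≤ centralizer (Q : Set G)) →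
      ¬ S1 ≤ centralizer (Q : Set G) →
      S1 ⊓ centralizer (R : Set G) ≤ centralizer (Q : Set G)) :
    ∀ n : ℕ, ∀ S1 : Subgroup G, Nat.card S1 = n → S1 ≤ S → Q ≤ normalizer (S1 : Set G) →
      R ≤ normalizer (S1 : Set G) → S1 ≤ centralizer (Q : Set G) := by
  intro n
  induction n using Nat.strong_induction_on with
  | _ n ih =>
    intro S1 hn hS1 hQ1 hR1
    by_contra hnot
    haveI := Fact.mk hs
    have IH : ∀ S2 : Subgroup G, S2 ≤ S → Q ≤ normalizer (S2 : Set G) →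
        R ≤ normalizer (S2 : Set G) → Nat.card S2 < Nat.card S1 →
        S2 ≤ centralizer (Q : Set G) :=
      fun S2 h1 h2 h3 h4 => ih (Nat.card S2) (hn ▸ h4) S2 rfl h1 h2 h3
    have hXle := hkey S1 hS1 hQ1 hR1 IH hnot
    have hDW := comm_le_W S Q R s hs hS S1 hS1 hQ1 hR1 IH hnot
    have hS1p : IsPGroup s S1 := hS.to_le hS1
    have hsolv : Group.IsSolvable S1 := solv_of_pgroup hs hS1p
    have hcopQ : (Nat.card Q).Coprime (Nat.card S1) :=
      Nat.Coprime.coprime_dvd_right (Subgroup.card_dvd_of_le hS1) hcop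
    have hcopR : (Nat.card R).Coprime (Nat.card S1) := by
      obtain ⟨k, hk⟩ := IsPGroup.iff_card.mp hS1p
      rw [hRc, hk]
      exact Nat.Coprime.pow_right k ((Nat.coprime_primes hr hs).mpr hrs)
    have hQW : Q ≤ normalizer ((S1 ⊓ centralizer (Q : Set G) : Subgroup G) : Set G) :=
      Cfsg.Agent.H1.le_normalizer_inf Q S1 _ hQ1 (le_norm_centralizer le_normalizer)
    have hRW : R ≤ normalizer ((S1 ⊓ centralizer (Q : Set G) : Subgroup G) : Set G) :=
      Cfsg.Agent.H1.le_normalizer_inf R S1 _ hR1 (le_norm_centralizer hRQ)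
    have hSW : S1 ≤ normalizer ((S1 ⊓ centralizer (Q : Set G) : Subgroup G) : Set G) :=
      norm_of_comm_le inf_le_left hDW
    have hfQ : ∀ v ∈ S1, (∀ x ∈ Q, x * v * x⁻¹ * v⁻¹ ∈ S1 ⊓ centralizer (Q : Set G)) →
        v ∈ S1 ⊓ centralizer (Q : Set G) := by
      intro v hv hfix
      obtain ⟨c0, hc0, hvc⟩ := Cfsg.Agent.H1.coprime_fixed_points_quotient Q S1 hcopQ
        (Or.inr hsolv) (S1 ⊓ centralizer (Q : Set G)) inf_le_left hSW hQW v hv hfix
      have h1 : v = c0 * (v⁻¹ * c0)⁻¹ := by group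
      rw [h1]
      exact Subgroup.mul_mem _ hc0 (Subgroup.inv_mem _ hvc)
    have hfR : ∀ v ∈ S1, (∀ y ∈ R, y * v * y⁻¹ * v⁻¹ ∈ S1 ⊓ centralizer (Q : Set G)) →
        v ∈ S1 ⊓ centralizer (Q : Set G) := by
      intro v hv hfix
      obtain ⟨c0, hc0, hvc⟩ := Cfsg.Agent.H1.coprime_fixed_points_quotient R S1 hcopR
        (Or.inr hsolv) (S1 ⊓ centralizer (Q : Set G)) inf_le_left hSW hRW v hv hfix
      have h1 : v = c0 * (v⁻¹ * c0)⁻¹ := by group
      rw [h1]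
      exact Subgroup.mul_mem _ ⟨hc0.1, hXle hc0⟩ (Subgroup.inv_mem _ hvc)
    have hfin := hM S1 (S1 ⊓ centralizer (Q : Set G)) Q R r inf_le_left hDW hQ1 hR1 hQW hRW hRQ
      hr hRc hQR hcopQ hfQ hfR
    exact hnot (hfin.trans inf_le_right)

/-- The element computation of step (j): `x` commutes with `⁅b, y⁆`. -/
theorem comm_elt (x b y w : G) (hw : x * b * x⁻¹ * b⁻¹ = w) (hxy : y * x = x * y)
    (hyw : y * w = w * y) (hwb : w * b = b * w) (hwu : w * (y * b * y⁻¹) = (y * b * y⁻¹) * w) :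
    x * ⁅b, y⁆ = ⁅b, y⁆ * x := by
  have hyx : y * x * y⁻¹ = x := by rw [hxy]; group
  have h3 : x * (y * b * y⁻¹) * x⁻¹ * (y * b * y⁻¹)⁻¹ = w := by
    calc x * (y * b * y⁻¹) * x⁻¹ * (y * b * y⁻¹)⁻¹
        = (y * x * y⁻¹) * (y * b * y⁻¹) * (y * x * y⁻¹)⁻¹ * (y * b * y⁻¹)⁻¹ := by rw [hyx]
      _ = y * (x * b * x⁻¹ * b⁻¹) * y⁻¹ := by group
      _ = y * w * y⁻¹ := by rw [hw]
      _ = w := by rw [hyw]; group
  have hxu : x * (y * b * y⁻¹)⁻¹ = w⁻¹ * (y * b * y⁻¹)⁻¹ * x := by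
    calc x * (y * b * y⁻¹)⁻¹
        = (x * (y * b * y⁻¹) * x⁻¹ * (y * b * y⁻¹)⁻¹ * (y * b * y⁻¹))⁻¹ * x := by group
      _ = (w * (y * b * y⁻¹))⁻¹ * x := by rw [h3]
      _ = ((y * b * y⁻¹) * w)⁻¹ * x := by rw [hwu]
      _ = w⁻¹ * (y * b * y⁻¹)⁻¹ * x := by group
  have hc : ⁅b, y⁆ = b * (y * b * y⁻¹)⁻¹ := by rw [commutatorElement_def]; group
  rw [hc]
  calc x * (b * (y * b * y⁻¹)⁻¹) = (x * b * x⁻¹ * b⁻¹) * b * (x * (y * b * y⁻¹)⁻¹) := by group
    _ = w * b * (w⁻¹ * (y * b * y⁻¹)⁻¹ * x) := by rw [hw, hxu]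
    _ = (w * b) * w⁻¹ * (y * b * y⁻¹)⁻¹ * x := by group
    _ = (b * w) * w⁻¹ * (y * b * y⁻¹)⁻¹ * x := by rw [hwb]
    _ = b * (y * b * y⁻¹)⁻¹ * x := by group

/-- The key step of the second statement. -/
theorem key2 (hA : StAbDec G) (S Q R : Subgroup G) (s r : ℕ) (hs : s.Prime)
    (hS : IsPGroup s S) (hRQ : R ≤ normalizer (Q : Set G)) (hr : r.Prime)
    (hRc : Nat.card R = r) (hrs : r ≠ s)
    (hcop : (Nat.card Q).Coprime (Nat.card S))
    (hCQ : IsCyclic ↥(S ⊓ centralizer (Q : Set G)))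
    (hCR : IsCyclic ↥(S ⊓ centralizer (R : Set G)))
    (c : G) (hc : c ∈ S ⊓ centralizer (Q : Set G) ⊓ centralizer (R : Set G)) (hc1 : c ≠ 1)
    (hcs : c ^ s = 1)
    (S1 : Subgroup G) (hS1 : S1 ≤ S) (hQ1 : Q ≤ normalizer (S1 : Set G))
    (hR1 : R ≤ normalizer (S1 : Set G))
    (IH : ∀ S2 : Subgroup G, S2 ≤ S → Q ≤ normalizer (S2 : Set G) → R ≤ normalizer (S2 : Set G) →
        Nat.card S2 < Nat.card S1 → S2 ≤ centralizer (Q : Set G))
    (hnot : ¬ S1 ≤ centralizer (Q : Set G)) :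
    S1 ⊓ centralizer (R : Set G) ≤ centralizer (Q : Set G) := by
  haveI := Fact.mk hs
  by_cases hX : S1 ⊓ centralizer (R : Set G) = ⊥
  · rw [hX]; exact bot_le
  have hS1p : IsPGroup s S1 := hS.to_le hS1
  have hsolv : Group.IsSolvable S1 := solv_of_pgroup hs hS1p
  have hcopQ : (Nat.card Q).Coprime (Nat.card S1) :=
    Nat.Coprime.coprime_dvd_right (Subgroup.card_dvd_of_le hS1) hcop
  have hcopR : ∀ K : Subgroup G, K ≤ S → (Nat.card R).Coprime (Nat.card K) := by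
    intro K hK
    obtain ⟨k, hk⟩ := IsPGroup.iff_card.mp (hS.to_le hK)
    rw [hRc, hk]
    exact Nat.Coprime.pow_right k ((Nat.coprime_primes hr hs).mpr hrs)
  -- (f) `c ∈ S1`
  have hc1' : c ∈ S1 ⊓ centralizer (R : Set G) :=
    cyc_mem (S ⊓ centralizer (R : Set G)) (S1 ⊓ centralizer (R : Set G)) s hs hCR
      (inf_le_inf_right _ hS1) (hS.to_le (inf_le_left.trans hS1)) hX c ⟨hc.1.1, hc.2⟩ hcs
  have hDW := comm_le_W S Q R s hs hS S1 hS1 hQ1 hR1 IH hnot
  have hcW : c ∈ S1 ⊓ centralizer (Q : Set G) := ⟨hc1'.1, hc.1.2⟩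
  have hQW : Q ≤ normalizer ((S1 ⊓ centralizer (Q : Set G) : Subgroup G) : Set G) :=
    Cfsg.Agent.H1.le_normalizer_inf Q S1 _ hQ1 (le_norm_centralizer le_normalizer)
  have hRW : R ≤ normalizer ((S1 ⊓ centralizer (Q : Set G) : Subgroup G) : Set G) :=
    Cfsg.Agent.H1.le_normalizer_inf R S1 _ hR1 (le_norm_centralizer hRQ)
  have hWS : S1 ⊓ centralizer (Q : Set G) ≤ S ⊓ centralizer (Q : Set G) :=
    inf_le_inf_right _ hS1
  -- (g) `W ≤ C(R)`
  have hWcomm : ∀ a ∈ S1 ⊓ centralizer (Q : Set G), ∀ b ∈ S1 ⊓ centralizer (Q : Set G),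
      a * b = b * a := fun a ha b hb => comm_of_cyclic _ hCQ (hWS ha) (hWS hb)
  have hWR : S1 ⊓ centralizer (Q : Set G) ≤ centralizer (R : Set G) := by
    by_contra hWR
    have h1 : ⁅S1 ⊓ centralizer (Q : Set G), R⁆ ≠ ⊥ := fun h =>
      hWR (Subgroup.commutator_eq_bot_iff_le_centralizer.mp h)
    have h2 : ⁅S1 ⊓ centralizer (Q : Set G), R⁆ ≤ S1 ⊓ centralizer (Q : Set G) :=
      Cfsg.Agent.H1.commutator_le_of_le_normalizer R _ hRW
    have h3 : c ∈ ⁅S1 ⊓ centralizer (Q : Set G), R⁆ :=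
      cyc_mem (S ⊓ centralizer (Q : Set G)) _ s hs hCQ (h2.trans hWS)
        (hS.to_le (h2.trans (inf_le_left.trans hS1))) h1 c hc.1 hcs
    have h4 := hA (S1 ⊓ centralizer (Q : Set G)) R hWcomm hRW
      (hcopR _ (inf_le_left.trans hS1))
    have h5 : c ∈ ⁅S1 ⊓ centralizer (Q : Set G), R⁆ ⊓ centralizer (R : Set G) := ⟨h3, hc.2⟩
    rw [h4, Subgroup.mem_bot] at h5
    exact hc1 h5
  -- (h) `S1 = ⁅S1, Q⁆`
  have hT : ⁅S1, Q⁆ = S1 := by
    have hTle : ⁅S1, Q⁆ ≤ S1 := Cfsg.Agent.H1.commutator_le_of_le_normalizer Q S1 hQ1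
    by_contra hne
    have hlt : ⁅S1, Q⁆ < S1 := lt_of_le_of_ne hTle hne
    have h1 := IH ⁅S1, Q⁆ (hTle.trans hS1)
      (Cfsg.Agent.H1.le_normalizer_commutator Q S1 Q hQ1 le_normalizer)
      (Cfsg.Agent.H1.le_normalizer_commutator R S1 Q hR1 hRQ) (card_lt_of_lt' hlt)
    have h2 : ⁅⁅S1, Q⁆, Q⁆ = ⊥ := Subgroup.commutator_eq_bot_iff_le_centralizer.mpr h1
    rw [Cfsg.Agent.H1.coprime_commutator_commutator Q S1 hQ1 hcopQ (Or.inr hsolv)] at h2
    exact hnot (Subgroup.commutator_eq_bot_iff_le_centralizer.mp h2)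
  -- (i) `W ≤ Z(S1)`
  have hWZ : S1 ≤ centralizer ((S1 ⊓ centralizer (Q : Set G) : Subgroup G) : Set G) := by
    have hWn : ⁅S1 ⊓ centralizer (Q : Set G), S1⁆ ≤ S1 ⊓ centralizer (Q : Set G) :=
      (Subgroup.commutator_mono inf_le_left le_rfl).trans hDW
    have hWQ : ⁅S1 ⊓ centralizer (Q : Set G), Q⁆ = ⊥ :=
      Subgroup.commutator_eq_bot_iff_le_centralizer.mpr inf_le_right
    have h1 : ⁅⁅S1 ⊓ centralizer (Q : Set G), S1⁆, Q⁆ = ⊥ :=
      le_bot_iff.mp ((Subgroup.commutator_mono hWn le_rfl).trans hWQ.le)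
    have h2 : ⁅⁅Q, S1 ⊓ centralizer (Q : Set G)⁆, S1⁆ = ⊥ := by
      rw [Subgroup.commutator_comm Q, hWQ, Subgroup.commutator_bot_left]
    have h3 : ⁅⁅S1, Q⁆, S1 ⊓ centralizer (Q : Set G)⁆ = ⊥ :=
      Subgroup.commutator_commutator_eq_bot_of_rotate h2 h1
    rw [hT] at h3
    exact Subgroup.commutator_eq_bot_iff_le_centralizer.mp h3
  -- (j) `S1 ∩ C(R) ≤ Z(S1)`
  have hXZ : S1 ⊓ centralizer (R : Set G) ≤ centralizer (S1 : Set G) := by
    intro x hx
    have hcomR : ⁅S1, R⁆ ≤ centralizer ({x} : Set G) := by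
      rw [Subgroup.commutator_le]
      intro b hb y hy
      rw [Subgroup.mem_centralizer_iff]
      intro x' hx'
      rw [Set.mem_singleton_iff] at hx'
      subst hx'
      have hwW : x' * b * x'⁻¹ * b⁻¹ ∈ S1 ⊓ centralizer (Q : Set G) := by
        have := Subgroup.commutator_mem_commutator hx.1 hb
        rw [commutatorElement_def] at this
        exact hDW this
      have hu : y * b * y⁻¹ ∈ S1 := conj_mem_of_le_norm hR1 hy hb
      exact comm_elt x' b y _ rfl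
        ((Subgroup.mem_centralizer_iff.mp hx.2) y hy)
        ((Subgroup.mem_centralizer_iff.mp (hWR hwW)) y hy)
        ((Subgroup.mem_centralizer_iff.mp (hWZ hb)) _ hwW)
        ((Subgroup.mem_centralizer_iff.mp (hWZ hu)) _ hwW)
    rw [Subgroup.mem_centralizer_iff]
    intro k hk
    obtain ⟨c0, hc0, x0, hx0, rfl⟩ := Cfsg.Agent.H1.exists_centralizer_mul_commutator R S1 hR1
      (hcopR S1 hS1) (Or.inr hsolv) k hk
    have h1 : x * c0 = c0 * x :=
      comm_of_cyclic _ hCR ⟨hS1 hx.1, hx.2⟩ ⟨hS1 hc0.1, hc0.2⟩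
    have h2 : x * x0 = x0 * x :=
      (Subgroup.mem_centralizer_iff.mp (hcomR hx0)) x rfl
    calc c0 * x0 * x = c0 * (x0 * x) := by group
      _ = c0 * (x * x0) := by rw [h2]
      _ = (c0 * x) * x0 := by group
      _ = (x * c0) * x0 := by rw [h1]
      _ = x * (c0 * x0) := by group
  -- (k)
  by_cases hab : S1 ≤ centralizer (S1 : Set G)
  · exfalso
    have hcomm : ∀ a ∈ S1, ∀ b ∈ S1, a * b = b * a := fun a ha b hb =>
      (Subgroup.mem_centralizer_iff.mp (hab hb)) a ha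
    have h4 := hA S1 Q hcomm hQ1 hcopQ
    rw [hT] at h4
    rw [h4, Subgroup.mem_bot] at hcW
    exact hc1 hcW
  · have hZlt : S1 ⊓ centralizer (S1 : Set G) < S1 :=
      lt_of_le_of_ne inf_le_left (fun h => hab (inf_eq_left.mp h))
    have hZQ := IH (S1 ⊓ centralizer (S1 : Set G)) (inf_le_left.trans hS1)
      (Cfsg.Agent.H1.le_normalizer_inf Q S1 _ hQ1 (le_norm_centralizer hQ1))
      (Cfsg.Agent.H1.le_normalizer_inf R S1 _ hR1 (le_norm_centralizer hR1))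
      (card_lt_of_lt' hZlt)
    exact fun x hx => hZQ ⟨hx.1, hXZ hx⟩

/-- **LEMR-CORE.** -/
theorem core (hM : StM1R G) (hA : StAbDec G) : StCore G := by
  intro S Q R s r hs hS hQS hRS hRQ hr hRc hrs hQR hcop
  haveI := Fact.mk hs
  refine ⟨fun hbot => ?_, fun hCQ hCR hne => ?_⟩
  · refine core_ind hM S Q R s r hs hS hRQ hr hRc hrs hQR hcop ?_ (Nat.card S) S rfl le_rfl hQS hRS
    intro S1 hS1 _ _ _ _
    have : S1 ⊓ centralizer (R : Set G) ≤ S ⊓ centralizer (R : Set G) := inf_le_inf_right _ hS1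
    rw [hbot] at this
    exact this.trans bot_le
  · obtain ⟨c0, hc0, hc01⟩ := (Subgroup.ne_bot_iff_exists_ne_one
      (H := S ⊓ centralizer (Q : Set G) ⊓ centralizer (R : Set G))).mp hne |>.imp
        (fun a h => h) |> fun ⟨a, ha⟩ => (⟨a.1, a.2, fun h => ha (Subtype.ext h)⟩ :
          ∃ c0 : G, c0 ∈ S ⊓ centralizer (Q : Set G) ⊓ centralizer (R : Set G) ∧ c0 ≠ 1)
    -- an element of order `s`
    have hpg : IsPGroup s (S ⊓ centralizer (Q : Set G) ⊓ centralizer (R : Set G) : Subgroup G) :=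
      hS.to_le (inf_le_left.trans inf_le_left)
    obtain ⟨n, hn⟩ := IsPGroup.iff_card.mp hpg
    have hn0 : n ≠ 0 := by
      rintro rfl
      rw [pow_zero] at hn
      exact hne (Subgroup.card_eq_one.mp hn)
    have hdvd : s ∣ Nat.card (S ⊓ centralizer (Q : Set G) ⊓ centralizer (R : Set G) : Subgroup G) :=
      hn ▸ dvd_pow_self s hn0
    obtain ⟨c, hc⟩ := exists_prime_orderOf_dvd_card' s hdvd
    have hcs : (c : G) ^ s = 1 := by
      have := pow_orderOf_eq_one c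
      rw [hc] at this
      exact congrArg Subtype.val this
    have hc1 : (c : G) ≠ 1 := by
      intro h
      have h1 : c = 1 := Subtype.ext h
      rw [h1, orderOf_one] at hc
      exact hs.one_lt.ne hc
    exact core_ind hM S Q R s r hs hS hRQ hr hRc hrs hQR hcop
      (key2 hA S Q R s r hs hS hRQ hr hRc hrs hcop hCQ hCR c.1 c.2 hc1 hcs)
      (Nat.card S) S rfl le_rfl hQS hRS

end coreSec

end Cfsg.Agent.H57.BG134R
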