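import Cfsg.Agent.H10.HO.Defs

set_option autoImplicit false

/-! HO-NCXB for helper10's S2075 project: `C(x) = ⟨x⟩` for the element `x` of order 17. -/

namespace Cfsg.Agent.H57.Ho

open Subgroup

universe u

theorem conj_pow_two {G : Type u} [Group G] (x z : G) (hz : z * x * z⁻¹ = x ^ 2) (k : ℕ) :
    z ^ k * x * (z ^ k)⁻¹ = x ^ (2 ^ k) := by
  induction k with
  | zero => simp
  | succ k ih =>
    have e : z ^ (k + 1) * x * (z ^ (k + 1))⁻¹ = z * (z ^ k * x * (z ^ k)⁻¹) * z⁻¹ := by
      rw [pow_succ']; group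
    rw [e, ih]
    have e2 : z * x ^ (2 ^ k) * z⁻¹ = (z * x * z⁻¹) ^ (2 ^ k) := by
      rw [conj_pow]
    rw [e2, hz, ← pow_mul, pow_succ']

theorem ncxb : Cfsg.Agent.H10.HO.StNCXB.{u} := by
  intro G _ _ x z m hG hm hx17 hx1 hzx hz8 hCz hodd hdvd g hg
  classical
  have hp : Fact (Nat.Prime 17) := ⟨by norm_num⟩
  have hord : orderOf x = 17 := orderOf_eq_prime hx17 hx1
  have hPcard : Nat.card (zpowers x) = 17 := by rw [Nat.card_zpowers, hord]
  have hxP : x ∈ zpowers x := mem_zpowers x
  have hPpow : ∀ y ∈ zpowers x, ∃ i : ℕ, y = x ^ i := by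
    intro y hy
    rw [← mem_powers_iff_mem_zpowers] at hy
    obtain ⟨i, rfl⟩ := hy
    exact ⟨i, rfl⟩
  have hCP : centralizer ((zpowers x : Subgroup G) : Set G) = centralizer ({x} : Set G) := by
    apply le_antisymm
    · intro g hg y hy
      rw [Set.mem_singleton_iff] at hy
      rw [hy]
      exact hg x hxP
    · intro g hg y hy
      obtain ⟨i, rfl⟩ := hPpow y hy
      have h1 : x * g = g * x := hg x (Set.mem_singleton x)
      exact (Commute.pow_left (show Commute x g from h1) i).eq
  have hPC : zpowers x ≤ centralizer ({x} : Set G) := by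
    intro y hy w hw
    rw [Set.mem_singleton_iff] at hw
    obtain ⟨i, rfl⟩ := hPpow y hy
    rw [hw]
    exact ((Commute.refl x).pow_right i).eq
  have hm17 : ¬ 17 ∣ m := by omega
  have hPp : IsPGroup 17 (zpowers x) := IsPGroup.of_card (n := 1) (by rw [hPcard]; norm_num)
  obtain ⟨Q, hPQ⟩ := hPp.exists_le_sylow
  have hQcard : Nat.card (Q : Subgroup G) = 17 := by
    have hm0 : m ≠ 0 := by rintro rfl; exact hm17 (dvd_zero 17)
    rw [Sylow.card_eq_multiplicity, hG, Nat.factorization_mul (by norm_num) hm0]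
    simp [Nat.factorization_eq_zero_of_not_dvd hm17,
      (by norm_num : Nat.Prime 17).factorization_self]
  have hQP : zpowers x = (Q : Subgroup G) :=
    Subgroup.eq_of_le_of_card_ge hPQ (by rw [hQcard, hPcard])
  have hn1 : Nat.card (Sylow 17 G) = (normalizer ((Q : Subgroup G) : Set G)).index :=
    Sylow.card_eq_index_normalizer Q
  have hn2 : Nat.card (Sylow 17 G) ≡ 1 [MOD 17] := card_sylow_modEq_one 17 G
  rw [← hQP] at hn1
  have hCN : centralizer ((zpowers x : Subgroup G) : Set G) ≤
      normalizer ((zpowers x : Subgroup G) : Set G) := centralizer_le_normalizer _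
  have hcyc : IsCyclic (zpowers x) := isCyclic_of_prime_card hPcard
  have hAutcard : Nat.card (MulAut (zpowers x)) = 16 := by
    rw [IsCyclic.card_mulAut, hPcard, Nat.totient_prime (by norm_num : Nat.Prime 17)]
  have hs16 : (centralizer ((zpowers x : Subgroup G) : Set G)).relIndex
      (normalizer ((zpowers x : Subgroup G) : Set G)) ∣ 16 := by
    have key := card_dvd_of_injective _
      (QuotientGroup.kerLift_injective (zpowers x).normalizerMonoidHom)
    rw [normalizerMonoidHom_ker, ← index, ← relIndex] at key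
    rw [hAutcard] at key
    exact key
  have hNcard : Nat.card (centralizer ((zpowers x : Subgroup G) : Set G)) *
      (centralizer ((zpowers x : Subgroup G) : Set G)).relIndex
        (normalizer ((zpowers x : Subgroup G) : Set G)) =
      Nat.card (normalizer ((zpowers x : Subgroup G) : Set G)) := by
    have := Subgroup.card_mul_index ((centralizer ((zpowers x : Subgroup G) : Set G)).subgroupOf
      (normalizer ((zpowers x : Subgroup G) : Set G)))
    rw [← this]
    congr 1
    exact (Nat.card_congr (Subgroup.subgroupOfEquivOfLe hCN).toEquiv).symm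
  rw [hCP] at hs16 hNcard
  have hCN' : centralizer ({x} : Set G) ≤ normalizer ((zpowers x : Subgroup G) : Set G) :=
    hCP ▸ hCN
  obtain ⟨d, hd⟩ : ∃ d, d = (centralizer ({x} : Set G)).relIndex
      (normalizer ((zpowers x : Subgroup G) : Set G)) := ⟨_, rfl⟩
  rw [← hd] at hs16 hNcard
  -- |C| = 17 c with c ∣ 225
  obtain ⟨c, hc⟩ : 17 ∣ Nat.card (centralizer ({x} : Set G)) := by
    have := Subgroup.card_dvd_of_le hPC
    rwa [hPcard] at this
  have hcodd : Odd c := by
    rw [hc] at hodd
    exact (Nat.odd_mul.mp hodd).2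
  have hc225 : c ∣ 225 := by
    rw [hc] at hdvd
    have h1 : c ∣ 115200 := by
      have h0 : 17 * c ∣ 17 * 115200 := by norm_num; exact hdvd
      exact Nat.dvd_of_mul_dvd_mul_left (by norm_num) h0
    have h2 : Nat.Coprime c 512 := by
      have h2' : Nat.Coprime c 2 := by
        rw [Nat.coprime_comm, Nat.Prime.coprime_iff_not_dvd Nat.prime_two]
        intro h2c
        exact (Nat.not_even_iff_odd.mpr hcodd) (even_iff_two_dvd.mpr h2c)
      exact Nat.Coprime.pow_right 9 h2'
    have h3 : c ∣ 225 * 512 := by norm_num; exact h1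
    exact Nat.Coprime.dvd_of_dvd_mul_right h2 h3
  -- Sylow count
  have h5 := (normalizer ((zpowers x : Subgroup G) : Set G)).card_mul_index
  rw [hG, ← hn1, ← hNcard, hc] at h5
  have h6 : c * d * Nat.card (Sylow 17 G) = m := by
    have h17 : 17 * (c * d * Nat.card (Sylow 17 G)) = 17 * m := by rw [← h5]; ring
    exact Nat.eq_of_mul_eq_mul_left (by norm_num) h17
  have hn2' : Nat.card (Sylow 17 G) % 17 = 1 := hn2
  have h7 : (c * d) % 17 = 8 := by
    have h8 : (c * d * Nat.card (Sylow 17 G)) % 17 = 8 := by rw [h6]; exact hm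
    rw [Nat.mul_mod, hn2'] at h8
    simpa using h8
  -- z normalizes ⟨x⟩
  have hz7 : z⁻¹ = z ^ 7 := by
    apply inv_eq_of_mul_eq_one_right
    rw [← pow_succ']; exact hz8
  have hzN : z ∈ normalizer ((zpowers x : Subgroup G) : Set G) := by
    rw [Subgroup.mem_normalizer_iff]
    intro h
    constructor
    · intro hh
      obtain ⟨i, rfl⟩ := hPpow h hh
      have e : z * x ^ i * z⁻¹ = (z * x * z⁻¹) ^ i := by rw [conj_pow]
      rw [e, hzx, ← pow_mul]
      exact pow_mem hxP _
    · intro hh
      obtain ⟨i, hi⟩ := hPpow _ hh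
      have e : h = z ^ 7 * (z * h * z⁻¹) * (z ^ 7)⁻¹ := by
        rw [← hz7]; group
      rw [e, hi]
      have e2 : z ^ 7 * x ^ i * (z ^ 7)⁻¹ = (z ^ 7 * x * (z ^ 7)⁻¹) ^ i := by rw [conj_pow]
      rw [e2, conj_pow_two x z hzx 7, ← pow_mul]
      exact pow_mem hxP _
  have hRcard : Nat.card (zpowers x).normalizerMonoidHom.range = d := by
    rw [← Subgroup.index_ker, normalizerMonoidHom_ker, hCP, hd]
    rfl
  have hzd : z ^ d * x * (z ^ d)⁻¹ = x := by
    obtain ⟨τ, hτ⟩ : ∃ τ : (zpowers x).normalizerMonoidHom.range,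
        τ.1 = (zpowers x).normalizerMonoidHom ⟨z, hzN⟩ :=
      ⟨⟨_, MonoidHom.mem_range.2 ⟨_, rfl⟩⟩, rfl⟩
    have h := pow_card_eq_one' (G := (zpowers x).normalizerMonoidHom.range) (x := τ)
    rw [hRcard] at h
    have h1 : τ.1 ^ d = 1 := by
      exact_mod_cast congrArg Subtype.val h
    rw [hτ, ← map_pow] at h1
    have h2 := congrArg (fun τ : MulAut (zpowers x) => ((τ ⟨x, hxP⟩ : zpowers x) : G)) h1
    simpa using h2
  have h2d : 2 ^ d % 17 = 1 := by
    have h1 := conj_pow_two x z hzx d
    rw [hzd] at h1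
    have h3 : x ^ (2 ^ d) = x ^ 1 := by rw [pow_one]; exact h1.symm
    have h4 := (pow_eq_pow_iff_modEq (x := x)).1 h3
    rw [hord] at h4
    exact h4
  have hdmem : d ∈ Nat.divisors 16 := Nat.mem_divisors.2 ⟨hs16, by norm_num⟩
  have hdiv : Nat.divisors 16 = {1, 2, 4, 8, 16} := by decide
  rw [hdiv] at hdmem
  simp only [Finset.mem_insert, Finset.mem_singleton] at hdmem
  have hcmem : c ∈ Nat.divisors 225 := Nat.mem_divisors.2 ⟨hc225, by norm_num⟩
  have hcdiv : Nat.divisors 225 = {1, 3, 5, 9, 15, 25, 45, 75, 225} := by decide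
  rw [hcdiv] at hcmem
  simp only [Finset.mem_insert, Finset.mem_singleton] at hcmem
  rcases hdmem with h | h | h | h | h
  · rw [h] at h2d; norm_num at h2d
  · rw [h] at h2d; norm_num at h2d
  · rw [h] at h2d; norm_num at h2d
  · -- d = 8
    have hc1 : c = 1 := by
      rw [h] at h7
      rcases hcmem with h' | h' | h' | h' | h' | h' | h' | h' | h' <;> rw [h'] at h7 <;> omega
    have hCcard : Nat.card (centralizer ({x} : Set G)) = 17 := by rw [hc, hc1]
    have hCeq : zpowers x = centralizer ({x} : Set G) :=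
      Subgroup.eq_of_le_of_card_ge hPC (by rw [hCcard, hPcard])
    have hgC : g ∈ centralizer ({x} : Set G) := by
      intro y hy
      rw [Set.mem_singleton_iff] at hy
      rw [hy]; exact hg.symm
    rw [← hCeq] at hgC
    exact hPpow g hgC
  · -- d = 16 is impossible
    exfalso
    have hNcard16 : Nat.card (normalizer ((zpowers x : Subgroup G) : Set G)) =
        17 * c * 2 ^ 4 := by
      rw [← hNcard, hc, h]; norm_num
    have hc0 : c ≠ 0 := by
      rintro rfl
      simp at hcodd
    have h17c : ¬ 2 ∣ 17 * c := by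
      intro h2
      have hodd17 : Odd (17 * c) := Nat.odd_mul.mpr ⟨by decide, hcodd⟩
      exact (Nat.not_even_iff_odd.mpr hodd17) (even_iff_two_dvd.mpr h2)
    -- automorphisms of ⟨x⟩ commute, and Aut ⟨x⟩ is cyclic of order 16
    have hAutComm : ∀ σ τ : MulAut (zpowers x), σ * τ = τ * σ := by
      intro σ τ
      apply (IsCyclic.mulAutMulEquiv (zpowers x)).injective
      rw [map_mul, map_mul, mul_comm]
    haveI hfp : Fact (Nat.Prime (Nat.card (zpowers x))) := ⟨by rw [hPcard]; norm_num⟩
    haveI hAutCyc : IsCyclic (MulAut (zpowers x)) :=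
      isCyclic_of_surjective (IsCyclic.mulAutMulEquiv (zpowers x)).symm
        (IsCyclic.mulAutMulEquiv (zpowers x)).symm.surjective
    -- a Sylow 2-subgroup of N containing z
    have hzN8 : (⟨z, hzN⟩ : normalizer ((zpowers x : Subgroup G) : Set G)) ^ 8 = 1 :=
      Subtype.ext (by simpa using hz8)
    have hZ2 : IsPGroup 2 (zpowers (⟨z, hzN⟩ : normalizer ((zpowers x : Subgroup G) : Set G))) := by
      rintro ⟨y, hy⟩
      refine ⟨3, ?_⟩
      obtain ⟨k, rfl⟩ := Subgroup.mem_zpowers_iff.mp hy
      apply Subtype.ext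
      show (((⟨z, hzN⟩ : normalizer ((zpowers x : Subgroup G) : Set G)) ^ k) ^ 2 ^ 3) = 1
      rw [← zpow_natCast, ← zpow_mul, mul_comm, zpow_mul, zpow_natCast]
      norm_num [hzN8]
    haveI : Fact (Nat.Prime 2) := ⟨Nat.prime_two⟩
    obtain ⟨P2, hP2⟩ := hZ2.exists_le_sylow
    have hP2card : Nat.card (P2 : Subgroup (normalizer ((zpowers x : Subgroup G) : Set G))) =
        16 := by
      rw [Sylow.card_eq_multiplicity, hNcard16,
        Nat.factorization_mul (by positivity) (by norm_num),
        Nat.Prime.factorization_pow Nat.prime_two]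
      simp [Nat.factorization_eq_zero_of_not_dvd h17c]
    have hkercard : Nat.card (zpowers x).normalizerMonoidHom.ker = 17 * c := by
      rw [normalizerMonoidHom_ker, hCP, ← hc]
      exact Nat.card_congr (Subgroup.subgroupOfEquivOfLe hCN').toEquiv
    have hinj : ∀ g ∈ (P2 : Subgroup (normalizer ((zpowers x : Subgroup G) : Set G))),
        (zpowers x).normalizerMonoidHom g = 1 → g = 1 := by
      intro g hg hg1
      have hgk : g ∈ (zpowers x).normalizerMonoidHom.ker := hg1
      obtain ⟨k, hk⟩ := P2.isPGroup' ⟨g, hg⟩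
      have hk' : g ^ 2 ^ k = 1 := by
        have := congrArg Subtype.val hk
        simpa using this
      have h1 : orderOf g ∣ 2 ^ k := orderOf_dvd_of_pow_eq_one hk'
      have h2 : orderOf g ∣ 17 * c := by
        rw [← hkercard]
        have := orderOf_dvd_natCard (⟨g, hgk⟩ : (zpowers x).normalizerMonoidHom.ker)
        rwa [Subgroup.orderOf_mk] at this
      have h3 : Nat.Coprime (2 ^ k) (17 * c) :=
        Nat.Coprime.pow_left k ((Nat.Prime.coprime_iff_not_dvd Nat.prime_two).mpr h17c)
      have h4 : orderOf g ∣ 1 := by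
        have := Nat.dvd_gcd h1 h2
        rwa [h3.gcd_eq_one] at this
      exact orderOf_eq_one_iff.mp (Nat.dvd_one.mp h4)
    have hzP2 : (⟨z, hzN⟩ : normalizer ((zpowers x : Subgroup G) : Set G)) ∈
        (P2 : Subgroup (normalizer ((zpowers x : Subgroup G) : Set G))) :=
      hP2 (Subgroup.mem_zpowers _)
    have hP2exp : ∀ g ∈ (P2 : Subgroup (normalizer ((zpowers x : Subgroup G) : Set G))),
        g ^ 8 = 1 := by
      intro g hg
      have h1 : (zpowers x).normalizerMonoidHom (g * ⟨z, hzN⟩ * (⟨z, hzN⟩ * g)⁻¹) = 1 := by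
        rw [map_mul, map_mul, map_inv, map_mul, hAutComm ((zpowers x).normalizerMonoidHom g)]
        exact mul_inv_cancel _
      have h2 := hinj _ (Subgroup.mul_mem _ (Subgroup.mul_mem _ hg hzP2)
        (Subgroup.inv_mem _ (Subgroup.mul_mem _ hzP2 hg))) h1
      have h3 : g * ⟨z, hzN⟩ = ⟨z, hzN⟩ * g := mul_inv_eq_one.mp h2
      have h4 : (g : G) * z = z * (g : G) := congrArg Subtype.val h3
      have h5 := hCz _ h4
      exact Subtype.ext (by simpa using h5)
    -- the restriction of φ to P2 is injective, hence onto Aut ⟨x⟩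
    let ψ : (P2 : Subgroup (normalizer ((zpowers x : Subgroup G) : Set G))) →*
        MulAut (zpowers x) :=
      (zpowers x).normalizerMonoidHom.comp
        (P2 : Subgroup (normalizer ((zpowers x : Subgroup G) : Set G))).subtype
    have hψinj : Function.Injective ψ := by
      rw [injective_iff_map_eq_one]
      intro g hg
      exact Subtype.ext (hinj g.1 g.2 hg)
    have hψrange : ψ.range = ⊤ := by
      apply Subgroup.eq_top_of_card_eq
      rw [hAutcard, ← hP2card]
      exact (Nat.card_congr (MonoidHom.ofInjective hψinj).toEquiv).symm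
    have hall : ∀ τ : MulAut (zpowers x), τ ^ 8 = 1 := by
      intro τ
      have hτ : τ ∈ ψ.range := by rw [hψrange]; exact Subgroup.mem_top τ
      obtain ⟨g, rfl⟩ := hτ
      rw [← map_pow]
      have := hP2exp g.1 g.2
      have h8 : g ^ 8 = 1 := Subtype.ext this
      rw [h8, map_one]
    have hexp : Monoid.exponent (MulAut (zpowers x)) ∣ 8 :=
      Monoid.exponent_dvd_of_forall_pow_eq_one hall
    rw [IsCyclic.exponent_eq_card, hAutcard] at hexp
    norm_num at hexp

example : ∀ (G : Type u) [Group G] [Finite G] (x z : G) (m : ℕ),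
    Nat.card G = 17 * m → m % 17 = 8 → x ^ 17 = 1 → x ≠ 1 → z * x * z⁻¹ = x ^ 2 → z ^ 8 = 1 →
    (∀ g : G, g * z = z * g → g ^ 8 = 1) →
    Odd (Nat.card (Subgroup.centralizer ({x} : Set G))) →
    Nat.card (Subgroup.centralizer ({x} : Set G)) ∣ 1958400 →
    ∀ g : G, g * x = x * g → ∃ i : ℕ, g = x ^ i := ncxb.{u}

end Cfsg.Agent.H57.Ho
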