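import Mathlib
import Cfsg.Agent.H24.TRedE
import Cfsg.Agent.H40.KInfA
import Cfsg.Agent.H29.PStab
import Cfsg.Agent.H40.PComp

/-! Import hub for the K-infinity normal `p`-complement criterion (helper57). -/
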