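import Mathlib
import Cfsg.Prelude.Def_LocalEven
import Cfsg.Agent.H38.QuadDefs
import Cfsg.Agent.H57.ZJLocal
import Cfsg.Agent.H57.QSLAbs
import Cfsg.Agent.H57.QSLCore

/-!
# No natural `SL₂(p)`-configuration on a central section of a `p`-stable group, `p` odd
(helper57)

The version of `QSLNat.no_natConfig` for every odd prime.  From a natural configuration on
`W = P₁ / D` one takes a `p'`-element `t` acting as `-1`, adjusts the two generators so that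
they commute with `t` on `P₁`, and passes to the subgroup `R = ⟨e, f⟩` generated by the lifts of
the basis that are inverted by `t`.  `R` is extraspecial or elementary abelian, the adjusted
generators normalize it and centralize its commutators, so the first one acts quadratically
on `R` — against `p`-stability on `R`.
-/

set_option autoImplicit false

namespace Cfsg.Agent.H57.QSL

open scoped commutatorElement
open Cfsg Cfsg.Agent.H38

universe u v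

section grp2

variable {X : Type*} [Group X]

/-- A form of `key_fix` with the central subgroup replaced by the two elements used. -/
theorem key_fix' {p : ℕ} [Fact p.Prime] (hp2 : p ≠ 2) {t x v : X}
    (hvp : ∃ j : ℕ, (v⁻¹ * (x * v * x⁻¹)) ^ p ^ j = 1)
    (hzt : t * (v⁻¹ * (x * v * x⁻¹)) * t⁻¹ = v⁻¹ * (x * v * x⁻¹))
    (hzv : (v⁻¹ * (x * v * x⁻¹)) * v⁻¹ = v⁻¹ * (v⁻¹ * (x * v * x⁻¹)))
    (hz₁ : x * (t * v * t⁻¹ * v) * x⁻¹ = t * v * t⁻¹ * v)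
    (hcomm : t * (x * v * x⁻¹) * t⁻¹ = x * (t * v * t⁻¹) * x⁻¹) : x * v * x⁻¹ = v := by
  set z := v⁻¹ * (x * v * x⁻¹) with hz
  set z₁ := t * v * t⁻¹ * v with hz₁'
  have e1 : x * v * x⁻¹ = v * z := by rw [hz]; group
  have e2 : t * v * t⁻¹ = z₁ * v⁻¹ := by rw [hz₁']; group
  have e3 : t * (x * v * x⁻¹) * t⁻¹ = z₁ * v⁻¹ * z := by
    calc t * (x * v * x⁻¹) * t⁻¹ = t * (v * z) * t⁻¹ := by rw [e1]
      _ = (t * v * t⁻¹) * (t * z * t⁻¹) := by group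
      _ = z₁ * v⁻¹ * z := by rw [e2, hzt]
  have e4 : x * (t * v * t⁻¹) * x⁻¹ = z₁ * z⁻¹ * v⁻¹ := by
    calc x * (t * v * t⁻¹) * x⁻¹ = x * (z₁ * v⁻¹) * x⁻¹ := by rw [e2]
      _ = (x * z₁ * x⁻¹) * (x * v * x⁻¹)⁻¹ := by group
      _ = z₁ * (v * z)⁻¹ := by rw [hz₁, e1]
      _ = z₁ * z⁻¹ * v⁻¹ := by group
  have e5 : v⁻¹ * z = z⁻¹ * v⁻¹ := by
    have h0 := hcomm
    rw [e3, e4] at h0
    have h := congrArg (fun y => z₁⁻¹ * y) h0
    simpa [mul_assoc] using h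
  have e7 : z ^ 2 = 1 := by
    have h : z * v⁻¹ = z⁻¹ * v⁻¹ := hzv.trans e5
    have h' : z = z⁻¹ := mul_right_cancel h
    rw [sq]
    nth_rewrite 2 [h']
    exact mul_inv_cancel z
  obtain ⟨j, e8⟩ := hvp
  have hcop : Nat.Coprime 2 (p ^ j) := by
    apply Nat.Coprime.pow_right
    rw [Nat.coprime_primes Nat.prime_two (Fact.out : p.Prime)]
    exact fun h => hp2 h.symm
  have e9 : z = 1 := eq_one_of_pow_coprime hcop e7 e8
  rw [e1, e9, mul_one]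

theorem comm_conj_sq {e f h : X} (hc : h * e = e * h) :
    ⁅e, h * f * h⁆ = h * ⁅e, f⁆ * h⁻¹ := by
  have h1 : h * e⁻¹ * h⁻¹ = e⁻¹ := by
    have h2 : h * e⁻¹ = e⁻¹ * h := by
      have := congrArg (fun y => e⁻¹ * y * e⁻¹) hc
      simpa [mul_assoc] using this.symm
    rw [h2, mul_inv_cancel_right]
  simp only [commutatorElement_def]
  calc e * (h * f * h) * e⁻¹ * (h * f * h)⁻¹ = (e * h) * f * (h * e⁻¹ * h⁻¹) * f⁻¹ * h⁻¹ := by
        group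
    _ = (h * e) * f * e⁻¹ * f⁻¹ * h⁻¹ := by rw [h1, hc]
    _ = h * (e * f * e⁻¹ * f⁻¹) * h⁻¹ := by group

theorem conj_comm (a u v : X) : a * ⁅u, v⁆ * a⁻¹ = ⁅a * u * a⁻¹, a * v * a⁻¹⁆ := by
  simp only [commutatorElement_def]; group

theorem comm_mul_left' (a b x : X) : ⁅a * b, x⁆ = a * ⁅b, x⁆ * a⁻¹ * ⁅a, x⁆ := by
  simp only [commutatorElement_def]; group

theorem comm_inv_left' (a x : X) : ⁅a⁻¹, x⁆ = a⁻¹ * ⁅a, x⁆⁻¹ * a := by
  simp only [commutatorElement_def]; group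

theorem comm_mul_right' (u a b : X) : ⁅u, a * b⁆ = ⁅u, a⁆ * (a * ⁅u, b⁆ * a⁻¹) := by
  simp only [commutatorElement_def]; group

theorem comm_inv_right' (u a : X) : ⁅u, a⁻¹⁆ = a⁻¹ * ⁅u, a⁆⁻¹ * a := by
  simp only [commutatorElement_def]; group

end grp2

set_option maxHeartbeats 3200000 in
theorem no_natConfig_odd {X : Type u} [Group X] [Finite X] {p : ℕ} [Fact p.Prime] (hp2 : p ≠ 2)
    (hst : IsNormalizerPStable p X) {P D L : Subgroup X} (hP : IsPGroup p P) (hDP : D ≤ P)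
    (hDZ : D ≤ Subgroup.centralizer (P : Set X))
    (hLP : L ≤ Subgroup.normalizer (P : Set X))
    (hLD : ∀ g ∈ L, ∀ m : ℕ, m.Coprime p → g ^ m = 1 → g ∈ Subgroup.centralizer (D : Set X))
    {V : Type v} [AddCommGroup V] [Module (ZMod p) V] (θ : X → V)
    (hθmul : ∀ u ∈ P, ∀ v ∈ P, θ (u * v) = θ u + θ v)
    (hθker : ∀ u ∈ P, θ u = 0 ↔ u ∈ D)
    (hθsurj : ∀ m : V, ∃ u ∈ P, θ u = m)
    (ρ : ↥L →* Module.End (ZMod p) V)
    (hρ : ∀ (g : ↥L), ∀ u ∈ P, θ ((g : X) * u * (g : X)⁻¹) = ρ g (θ u))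
    (hnat : NatConfig ρ) : False := by
  obtain ⟨g₁, g₂, e₁, f₁, hind, h11, h12, h21, h22⟩ := hnat
  have hpp : p.Prime := Fact.out
  have h2ne : (2 : ZMod p) ≠ 0 := by
    intro h
    have h' : ((2 : ℕ) : ZMod p) = 0 := by exact_mod_cast h
    rw [ZMod.natCast_eq_zero_iff] at h'
    have h1 := Nat.le_of_dvd (by norm_num) h'
    have h2 := hpp.two_le
    omega
  -- θ basics
  have hθ1 : θ 1 = 0 := by
    have h := hθmul 1 (one_mem P) 1 (one_mem P)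
    rw [mul_one] at h
    exact left_eq_add.mp h
  have hθinv : ∀ u ∈ P, θ u⁻¹ = - θ u := by
    intro u hu
    have h := hθmul u⁻¹ (inv_mem hu) u hu
    rw [inv_mul_cancel, hθ1] at h
    exact eq_neg_of_add_eq_zero_left h.symm
  -- the preimage of the plane
  let P₁ : Subgroup X :=
    { carrier := {u | u ∈ P ∧ ∃ a b : ZMod p, θ u = a • e₁ + b • f₁}
      one_mem' := ⟨one_mem P, 0, 0, by rw [hθ1]; simp⟩
      mul_mem' := by
        rintro u v ⟨hu, a, b, hab⟩ ⟨hv, a', b', hab'⟩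
        refine ⟨mul_mem hu hv, a + a', b + b', ?_⟩
        rw [hθmul u hu v hv, hab, hab']
        module
      inv_mem' := by
        rintro u ⟨hu, a, b, hab⟩
        refine ⟨inv_mem hu, -a, -b, ?_⟩
        rw [hθinv u hu, hab]
        module }
  have hP₁P : P₁ ≤ P := fun u hu => hu.1
  have hDP₁ : D ≤ P₁ := fun d hd =>
    ⟨hDP hd, 0, 0, by rw [(hθker d (hDP hd)).mpr hd]; simp⟩
  have hP₁p : IsPGroup p P₁ := hP.to_le hP₁P
  have hconjP : ∀ g : ↥L, ∀ u ∈ P, (g : X) * u * (g : X)⁻¹ ∈ P :=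
    fun g u hu => (Subgroup.mem_normalizer_iff.mp (hLP g.2) u).mp hu
  have hActsθ : ∀ (g : ↥L) (a b c d : ZMod p), Acts ρ e₁ f₁ g a b c d → ∀ u ∈ P,
      ∀ x y : ZMod p, θ u = x • e₁ + y • f₁ →
      θ ((g : X) * u * (g : X)⁻¹) = (a * x + b * y) • e₁ + (c * x + d * y) • f₁ := by
    intro g a b c d hg u hu x y hxy
    rw [hρ g u hu, hxy, hg.apply]
  have hActsN : ∀ (g : ↥L) (a b c d : ZMod p), Acts ρ e₁ f₁ g a b c d →
      (g : X) ∈ Subgroup.normalizer (P₁ : Set X) := by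
    intro g a b c d hg
    apply Cfsg.Agent.H14.mem_normalizer_of_conj_mem
    rintro u ⟨hu, x, y, hxy⟩
    exact ⟨hconjP g u hu, _, _, hActsθ g a b c d hg u hu x y hxy⟩
  have hTriv : ∀ g : ↥L, Acts ρ e₁ f₁ g 1 0 0 1 → ∀ u ∈ P₁,
      (g : X) * u * (g : X)⁻¹ * u⁻¹ ∈ D := by
    rintro g hg u ⟨hu, x, y, hxy⟩
    have h1 : (g : X) * u * (g : X)⁻¹ ∈ P := hconjP g u hu
    rw [← hθker _ (mul_mem h1 (inv_mem hu)), hθmul _ h1 _ (inv_mem hu), hθinv u hu,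
      hActsθ g _ _ _ _ hg u hu x y hxy, hxy]
    module
  have hcomD : ∀ u ∈ P, ∀ v ∈ P, ⁅u, v⁆ ∈ D := by
    intro u hu v hv
    rw [commutatorElement_def, ← hθker _ (mul_mem (mul_mem (mul_mem hu hv) (inv_mem hu))
      (inv_mem hv)), hθmul _ (mul_mem (mul_mem hu hv) (inv_mem hu)) _ (inv_mem hv),
      hθmul _ (mul_mem hu hv) _ (inv_mem hu), hθmul u hu v hv, hθinv u hu, hθinv v hv]
    abel
  have hcentral : ∀ z ∈ D, ∀ a ∈ P, a * z * a⁻¹ = z := by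
    intro z hz a ha
    have h1 := Subgroup.mem_centralizer_iff.mp (hDZ hz) a ha
    rw [h1, mul_inv_cancel_right]
  -- the `p'`-part of `|X|`
  obtain ⟨J, m, hm, hcard⟩ :=
    Nat.exists_eq_pow_mul_and_not_dvd (Nat.card_pos (α := X)).ne' p hpp.ne_one
  have hcop : m.Coprime p := ((Nat.Prime.coprime_iff_not_dvd hpp).mpr hm).symm
  have hpowm : ∀ g : X, (g ^ p ^ J) ^ m = 1 := by
    intro g
    rw [← pow_mul, ← hcard]
    exact pow_card_eq_one'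
  have hcD : ∀ g : ↥L, (g : X) ^ m = 1 → (g : X) ∈ Subgroup.centralizer (D : Set X) :=
    fun g hg => hLD g g.2 m hcop hg
  -- the generators
  have A1 : Acts ρ e₁ f₁ g₁ 1 1 0 1 := ⟨by rw [h11]; simp, by rw [h12]; simp [add_comm]⟩
  have A2 : Acts ρ e₁ f₁ g₂ 1 0 1 1 := ⟨by rw [h21]; simp, by rw [h22]; simp⟩
  have A2i : Acts ρ e₁ f₁ g₂⁻¹ 1 0 (-1) 1 := by simpa using A2.inv (by ring)
  -- an element acting as `-1`
  have Aw0 : Acts ρ e₁ f₁ (g₁ * g₂⁻¹ * g₂⁻¹) (-1) 1 (-2) 1 :=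
    (A1.mul A2i (A := 0) (B := 1) (C := -1) (D := 1) (by ring) (by ring) (by ring)
      (by ring)).mul A2i (by ring) (by ring) (by ring) (by ring)
  obtain ⟨t, ht⟩ : ∃ t : ↥L, t = ((g₁ * g₂⁻¹ * g₂⁻¹) * (g₁ * g₂⁻¹ * g₂⁻¹)) ^ p ^ J := ⟨_, rfl⟩
  have At : Acts ρ e₁ f₁ t (-1) 0 0 (-1) := by
    rw [ht]
    exact (Aw0.mul Aw0 (A := -1) (B := 0) (C := 0) (D := -1) (by ring) (by ring) (by ring)
      (by ring)).pow_diag_card J
  have Ati : Acts ρ e₁ f₁ t⁻¹ (-1) 0 0 (-1) := by simpa using At.inv (by ring)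
  have htm : (t : X) ^ m = 1 := by rw [ht, Subgroup.coe_pow]; exact hpowm _
  have htD : (t : X) ∈ Subgroup.centralizer (D : Set X) := hcD t htm
  have htN : (t : X) ∈ Subgroup.normalizer (P₁ : Set X) := hActsN t _ _ _ _ At
  have ht2 : (t : X) * (t : X) ∈ Subgroup.centralizer (P₁ : Set X) := by
    have At2 : Acts ρ e₁ f₁ (t * t) 1 0 0 1 := At.mul At (by ring) (by ring) (by ring) (by ring)
    have h1 : ((t : X) * (t : X)) ^ m = 1 := by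
      rw [← pow_two, ← pow_mul, mul_comm, pow_mul, htm, one_pow]
    exact cent_of_coprime hP₁p hDP₁ hcop h1 (mul_mem htD htD) (hTriv (t * t) At2)
  have htfixD : ∀ z ∈ D, (t : X) * z * (t : X)⁻¹ = z := by
    intro z hz
    have h1 := Subgroup.mem_centralizer_iff.mp htD z hz
    rw [← h1, mul_inv_cancel_right]
  obtain ⟨i, hi⟩ := (hP.to_le hDP).exists_card_eq
  obtain ⟨M, hM⟩ : ∃ M, Nat.card D = 2 * M + 1 := by
    have hodd : Odd (Nat.card D) := by rw [hi]; exact (hpp.odd_of_ne_two hp2).pow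
    obtain ⟨M, hM⟩ := hodd
    exact ⟨M, hM⟩
  have hDpow : ∀ z ∈ D, z ^ (2 * M + 1) = 1 := by
    intro z hz
    rw [← hM]
    have := pow_card_eq_one' (G := ↥D) (x := ⟨z, hz⟩)
    exact congrArg Subtype.val this
  -- adjusting an element to commute with `t` on `P₁`
  have hadj : ∀ (g : ↥L) (a b c d : ZMod p), Acts ρ e₁ f₁ g a b c d → a * d - b * c = 1 →
      ∃ g' : ↥L, Acts ρ e₁ f₁ g' a b c d ∧
        (t : X) * (g' : X) * (t : X)⁻¹ * (g' : X)⁻¹ ∈ Subgroup.centralizer (P₁ : Set X) := by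
    intro g a b c d hg hdet
    have Agi := hg.inv hdet
    obtain ⟨r, hr⟩ : ∃ r : ↥L, r = t⁻¹ * g⁻¹ * t * g := ⟨_, rfl⟩
    have Ar : Acts ρ e₁ f₁ r 1 0 0 1 := by
      rw [hr]
      exact ((Ati.mul Agi (A := -d) (B := b) (C := c) (D := -a) (by ring) (by ring) (by ring)
        (by ring)).mul At (A := d) (B := -b) (C := -c) (D := a) (by ring) (by ring) (by ring)
        (by ring)).mul hg (by linear_combination -hdet) (by ring) (by ring)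
        (by linear_combination -hdet)
    have hrX : (r : X) = (t : X)⁻¹ * (g : X)⁻¹ * (t : X) * (g : X) := by rw [hr]; rfl
    have hrD : (r : X) ∈ Subgroup.centralizer (D : Set X) := by
      have h1 : ((g⁻¹ * t * g : ↥L) : X) ^ m = 1 := by
        have e : ((g⁻¹ * t * g : ↥L) : X) = (g : X)⁻¹ * (t : X) * ((g : X)⁻¹)⁻¹ := by
          rw [inv_inv]; rfl
        rw [e, conj_pow, htm]
        group
      have h2 := hcD (g⁻¹ * t * g) h1
      have e : (r : X) = (t : X)⁻¹ * ((g⁻¹ * t * g : ↥L) : X) := by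
        rw [hrX]
        show _ = (t : X)⁻¹ * ((g : X)⁻¹ * (t : X) * (g : X))
        group
      rw [e]
      exact mul_mem (inv_mem htD) h2
    have hrN : (r : X) ^ (2 * M + 1) ∈ Subgroup.centralizer (P₁ : Set X) := by
      rw [Subgroup.mem_centralizer_iff]
      intro u hu
      have hc := hTriv r Ar u hu
      have h1 := conj_pow_comm' hrD hc (2 * M + 1)
      rw [hDpow _ hc, one_mul] at h1
      calc u * (r : X) ^ (2 * M + 1)
          = ((r : X) ^ (2 * M + 1) * u * ((r : X) ^ (2 * M + 1))⁻¹) * (r : X) ^ (2 * M + 1) := by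
            rw [h1]
        _ = (r : X) ^ (2 * M + 1) * u := by group
    have Ars : Acts ρ e₁ f₁ (r ^ (M + 1))⁻¹ 1 0 0 1 := by
      have h1 : Acts ρ e₁ f₁ (r ^ (M + 1)) 1 0 0 1 := by simpa using Ar.pow_diag (M + 1)
      simpa using h1.inv (by ring)
    refine ⟨g * (r ^ (M + 1))⁻¹, hg.mul Ars (by ring) (by ring) (by ring) (by ring), ?_⟩
    have hg'X : ((g * (r ^ (M + 1))⁻¹ : ↥L) : X) = (g : X) *
        (((t : X)⁻¹ * (g : X)⁻¹ * (t : X) * (g : X)) ^ (M + 1))⁻¹ := by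
      rw [← hrX]; rfl
    rw [hg'X]
    refine lift_comm_mod P₁ (t : X) (g : X) htN (hActsN g _ _ _ _ hg) ht2 M ?_
    rw [← hrX]
    exact hrN
  obtain ⟨a₁, Aa1, hc1⟩ := hadj g₁ 1 1 0 1 A1 (by ring)
  obtain ⟨a₂, Aa2, hc2⟩ := hadj g₂ 1 0 1 1 A2 (by ring)
  have ha1N : (a₁ : X) ∈ Subgroup.normalizer (P₁ : Set X) := hActsN a₁ _ _ _ _ Aa1
  have ha2N : (a₂ : X) ∈ Subgroup.normalizer (P₁ : Set X) := hActsN a₂ _ _ _ _ Aa2
  -- commutation with `t` on `P₁`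
  have hτcomm : ∀ a : X, a ∈ Subgroup.normalizer (P₁ : Set X) →
      (t : X) * a * (t : X)⁻¹ * a⁻¹ ∈ Subgroup.centralizer (P₁ : Set X) →
      ∀ u ∈ P₁, (t : X) * (a * u * a⁻¹) * (t : X)⁻¹ = a * ((t : X) * u * (t : X)⁻¹) * a⁻¹ := by
    intro a haN hcomm u hu
    have hy : a * ((t : X) * u * (t : X)⁻¹) * a⁻¹ ∈ P₁ :=
      (Subgroup.mem_normalizer_iff.mp haN _).mp ((Subgroup.mem_normalizer_iff.mp htN _).mp hu)
    have h1 := Subgroup.mem_centralizer_iff.mp hcomm _ hy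
    calc (t : X) * (a * u * a⁻¹) * (t : X)⁻¹
        = ((t : X) * a * (t : X)⁻¹ * a⁻¹) * (a * ((t : X) * u * (t : X)⁻¹) * a⁻¹) *
            ((t : X) * a * (t : X)⁻¹ * a⁻¹)⁻¹ := by group
      _ = a * ((t : X) * u * (t : X)⁻¹) * a⁻¹ := by rw [← h1, mul_inv_cancel_right]
  -- the norm `t u t⁻¹ u` lies in `D`
  have hnormD : ∀ u ∈ P₁, (t : X) * u * (t : X)⁻¹ * u ∈ D := by
    rintro u ⟨hu, x, y, hxy⟩
    have h1 := hconjP t u hu
    rw [← hθker _ (mul_mem h1 hu), hθmul _ h1 _ hu, hActsθ t _ _ _ _ At u hu x y hxy, hxy]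
    module
  -- elements inverted by `t`: uniqueness and existence of lifts
  have huniq : ∀ u ∈ P₁, ∀ u' ∈ P₁, (t : X) * u * (t : X)⁻¹ = u⁻¹ →
      (t : X) * u' * (t : X)⁻¹ = u'⁻¹ → θ u = θ u' → u = u' := by
    intro u hu u' hu' hinv hinv' hθ
    have hd : u⁻¹ * u' ∈ D := by
      rw [← hθker _ (mul_mem (inv_mem hu.1) hu'.1), hθmul _ (inv_mem hu.1) _ hu'.1,
        hθinv u hu.1, hθ, neg_add_cancel]
    set d := u⁻¹ * u' with hd_def
    have e1 : u' = u * d := by rw [hd_def]; group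
    have e2 : (t : X) * u' * (t : X)⁻¹ = u⁻¹ * d := by
      rw [e1]
      calc (t : X) * (u * d) * (t : X)⁻¹ = ((t : X) * u * (t : X)⁻¹) * ((t : X) * d * (t : X)⁻¹) := by
            group
        _ = u⁻¹ * d := by rw [hinv, htfixD d hd]
    have e3 : u'⁻¹ = u⁻¹ * d⁻¹ := by
      have h1 := hcentral d⁻¹ (inv_mem hd) u⁻¹ (inv_mem hu.1)
      rw [e1, mul_inv_rev]
      calc d⁻¹ * u⁻¹ = (u⁻¹ * d⁻¹ * u⁻¹⁻¹) * u⁻¹ := by rw [h1]
        _ = u⁻¹ * d⁻¹ := by group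
    have e4 : d = d⁻¹ := by
      have h1 : u⁻¹ * d = u⁻¹ * d⁻¹ := e2.symm.trans (hinv'.trans e3)
      exact mul_left_cancel h1
    have e5 : d ^ 2 = 1 := by
      rw [sq]; nth_rewrite 2 [e4]; exact mul_inv_cancel d
    obtain ⟨j, hj⟩ := hP ⟨d, hDP hd⟩
    have e6 : d ^ p ^ j = 1 := by
      have := congrArg Subtype.val hj
      simpa using this
    have hcop2 : Nat.Coprime 2 (p ^ j) := by
      apply Nat.Coprime.pow_right
      rw [Nat.coprime_primes Nat.prime_two hpp]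
      exact fun h => hp2 h.symm
    have e7 : d = 1 := eq_one_of_pow_coprime hcop2 e5 e6
    rw [e1, e7, mul_one]
  have hlift : ∀ u ∈ P₁, ∃ u' ∈ P₁, (t : X) * u' * (t : X)⁻¹ = u'⁻¹ ∧ θ u' = θ u := by
    intro u hu
    have hN := hnormD u hu
    obtain ⟨n, hn⟩ : ∃ n : X, n = (t : X) * u * (t : X)⁻¹ * u := ⟨_, rfl⟩
    rw [← hn] at hN
    obtain ⟨d, hd⟩ : ∃ d : X, d = n ^ (M + 1) := ⟨_, rfl⟩
    have hdD : d ∈ D := by rw [hd]; exact pow_mem hN _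
    have hdiD : d⁻¹ ∈ D := inv_mem hdD
    have hdd : d * d = n := by
      rw [hd, ← pow_add]
      have e : M + 1 + (M + 1) = (2 * M + 1) + 1 := by ring
      rw [e, pow_succ, hDpow n hN, one_mul]
    refine ⟨u * d⁻¹, mul_mem hu (hDP₁ hdiD), ?_, ?_⟩
    · have e1 : (t : X) * u * (t : X)⁻¹ = n * u⁻¹ := by rw [hn]; group
      have hcu : u⁻¹ * d⁻¹ = d⁻¹ * u⁻¹ := by
        have h1 := hcentral d⁻¹ hdiD u⁻¹ (inv_mem hu.1)
        calc u⁻¹ * d⁻¹ = (u⁻¹ * d⁻¹ * u⁻¹⁻¹) * u⁻¹ := by group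
          _ = d⁻¹ * u⁻¹ := by rw [h1]
      calc (t : X) * (u * d⁻¹) * (t : X)⁻¹
          = ((t : X) * u * (t : X)⁻¹) * ((t : X) * d⁻¹ * (t : X)⁻¹) := by group
        _ = n * u⁻¹ * d⁻¹ := by rw [e1, htfixD _ hdiD]
        _ = n * (u⁻¹ * d⁻¹) := by rw [mul_assoc]
        _ = (d * d) * (d⁻¹ * u⁻¹) := by rw [hcu, hdd]
        _ = (u * d⁻¹)⁻¹ := by group
    · rw [hθmul u hu.1 _ (hDP hdiD), (hθker _ (hDP hdiD)).mpr hdiD, add_zero]
  -- inverted lifts of the basis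
  obtain ⟨e₀, he₀P, he₀⟩ := hθsurj e₁
  obtain ⟨f₀, hf₀P, hf₀⟩ := hθsurj f₁
  have he₀P₁ : e₀ ∈ P₁ := ⟨he₀P, 1, 0, by rw [he₀]; simp⟩
  have hf₀P₁ : f₀ ∈ P₁ := ⟨hf₀P, 0, 1, by rw [hf₀]; simp⟩
  obtain ⟨e, heP₁, heinv, hθe'⟩ := hlift e₀ he₀P₁
  obtain ⟨f, hfP₁, hfinv, hθf'⟩ := hlift f₀ hf₀P₁
  have hθe : θ e = e₁ := hθe'.trans he₀
  have hθf : θ f = f₁ := hθf'.trans hf₀
  have hθe1 : θ e = (1 : ZMod p) • e₁ + (0 : ZMod p) • f₁ := by rw [hθe]; simp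
  have hθf1 : θ f = (0 : ZMod p) • e₁ + (1 : ZMod p) • f₁ := by rw [hθf]; simp
  have hinvconj : ∀ a : X, a ∈ Subgroup.normalizer (P₁ : Set X) →
      (t : X) * a * (t : X)⁻¹ * a⁻¹ ∈ Subgroup.centralizer (P₁ : Set X) →
      ∀ u ∈ P₁, (t : X) * u * (t : X)⁻¹ = u⁻¹ →
      (t : X) * (a * u * a⁻¹) * (t : X)⁻¹ = (a * u * a⁻¹)⁻¹ := by
    intro a haN hc u hu hinv
    rw [hτcomm a haN hc u hu, hinv]
    group
  -- square roots of inverted elements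
  have hsqrt : ∀ u ∈ P₁, (t : X) * u * (t : X)⁻¹ = u⁻¹ →
      ∃ h ∈ Subgroup.zpowers u, h ∈ P₁ ∧ h * h = u ∧ (t : X) * h * (t : X)⁻¹ = h⁻¹ ∧
        h * u = u * h := by
    intro u hu hinv
    obtain ⟨j, hj⟩ := hP ⟨u, hu.1⟩
    have hj' : u ^ p ^ j = 1 := by
      have := congrArg Subtype.val hj
      simpa using this
    obtain ⟨k, hk⟩ : ∃ k, p ^ j = 2 * k + 1 := by
      have hodd : Odd (p ^ j) := (hpp.odd_of_ne_two hp2).pow
      obtain ⟨k, hk⟩ := hodd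
      exact ⟨k, hk⟩
    refine ⟨u ^ (k + 1), Subgroup.npow_mem_zpowers u _, pow_mem hu _, ?_, ?_, ?_⟩
    · rw [← pow_add]
      have e : k + 1 + (k + 1) = (2 * k + 1) + 1 := by ring
      rw [e, pow_succ, ← hk, hj', one_mul]
    · rw [← conj_pow, hinv, inv_pow]
    · exact ((Commute.refl u).pow_left (k + 1)).eq
  obtain ⟨h₁, hh₁z, hh₁P, hh₁sq, hh₁inv, hh₁c⟩ := hsqrt e heP₁ heinv
  obtain ⟨h₂, hh₂z, hh₂P, hh₂sq, hh₂inv, hh₂c⟩ := hsqrt f hfP₁ hfinv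
  have hθh₁ : θ h₁ + θ h₁ = e₁ := by rw [← hθmul h₁ hh₁P.1 h₁ hh₁P.1, hh₁sq, hθe]
  have hθh₂ : θ h₂ + θ h₂ = f₁ := by rw [← hθmul h₂ hh₂P.1 h₂ hh₂P.1, hh₂sq, hθf]
  have hsandinv : ∀ h u : X, (t : X) * h * (t : X)⁻¹ = h⁻¹ → (t : X) * u * (t : X)⁻¹ = u⁻¹ →
      (t : X) * (h * u * h) * (t : X)⁻¹ = (h * u * h)⁻¹ := by
    intro h u hh hu
    calc (t : X) * (h * u * h) * (t : X)⁻¹
        = ((t : X) * h * (t : X)⁻¹) * ((t : X) * u * (t : X)⁻¹) * ((t : X) * h * (t : X)⁻¹) := by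
          group
      _ = h⁻¹ * u⁻¹ * h⁻¹ := by rw [hh, hu]
      _ = (h * u * h)⁻¹ := by group
  -- the action of the adjusted generators on the inverted lifts
  have ha1e : (a₁ : X) * e * (a₁ : X)⁻¹ = e := by
    refine huniq _ ((Subgroup.mem_normalizer_iff.mp ha1N _).mp heP₁) e heP₁
      (hinvconj _ ha1N hc1 e heP₁ heinv) heinv ?_
    rw [hActsθ a₁ _ _ _ _ Aa1 e heP₁.1 1 0 hθe1, hθe1]
    module
  have ha1f : (a₁ : X) * f * (a₁ : X)⁻¹ = h₁ * f * h₁ := by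
    have hs : h₁ * f * h₁ ∈ P₁ := mul_mem (mul_mem hh₁P hfP₁) hh₁P
    refine huniq _ ((Subgroup.mem_normalizer_iff.mp ha1N _).mp hfP₁) _ hs
      (hinvconj _ ha1N hc1 f hfP₁ hfinv) (hsandinv h₁ f hh₁inv hfinv) ?_
    rw [hActsθ a₁ _ _ _ _ Aa1 f hfP₁.1 0 1 hθf1, hθmul _ (mul_mem hh₁P.1 hfP₁.1) _ hh₁P.1,
      hθmul _ hh₁P.1 _ hfP₁.1, hθf]
    have e2 : θ h₁ + f₁ + θ h₁ = e₁ + f₁ := by rw [← hθh₁]; abel
    rw [e2]
    module
  have ha2f : (a₂ : X) * f * (a₂ : X)⁻¹ = f := by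
    refine huniq _ ((Subgroup.mem_normalizer_iff.mp ha2N _).mp hfP₁) f hfP₁
      (hinvconj _ ha2N hc2 f hfP₁ hfinv) hfinv ?_
    rw [hActsθ a₂ _ _ _ _ Aa2 f hfP₁.1 0 1 hθf1, hθf1]
    module
  have ha2e : (a₂ : X) * e * (a₂ : X)⁻¹ = h₂ * e * h₂ := by
    have hs : h₂ * e * h₂ ∈ P₁ := mul_mem (mul_mem hh₂P heP₁) hh₂P
    refine huniq _ ((Subgroup.mem_normalizer_iff.mp ha2N _).mp heP₁) _ hs
      (hinvconj _ ha2N hc2 e heP₁ heinv) (hsandinv h₂ e hh₂inv heinv) ?_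
    rw [hActsθ a₂ _ _ _ _ Aa2 e heP₁.1 1 0 hθe1, hθmul _ (mul_mem hh₂P.1 heP₁.1) _ hh₂P.1,
      hθmul _ hh₂P.1 _ heP₁.1, hθe]
    have e2 : θ h₂ + e₁ + θ h₂ = e₁ + f₁ := by rw [← hθh₂]; abel
    rw [e2]
    module
  -- the subgroup generated by the inverted lifts
  obtain ⟨R, hR⟩ : ∃ R : Subgroup X, R = Subgroup.closure ({e, f} : Set X) := ⟨_, rfl⟩
  have heR : e ∈ R := by rw [hR]; exact Subgroup.subset_closure (by simp)
  have hfR : f ∈ R := by rw [hR]; exact Subgroup.subset_closure (by simp)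
  have hRP₁ : R ≤ P₁ := by
    rw [hR, Subgroup.closure_le]
    intro x hx
    rcases hx with hx | hx
    · rw [hx]; exact heP₁
    · rw [Set.mem_singleton_iff.mp hx]; exact hfP₁
  have hRp : IsPGroup p R := hP₁p.to_le hRP₁
  have hzpR : ∀ u ∈ R, Subgroup.zpowers u ≤ R := fun u hu => Subgroup.zpowers_le.mpr hu
  have ha1R : (a₁ : X) ∈ Subgroup.normalizer (R : Set X) := by
    rw [hR]
    apply mem_normalizer_closure
    intro s hs
    rw [← hR]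
    rcases hs with hs | hs
    · rw [hs, ha1e]; exact heR
    · rw [Set.mem_singleton_iff.mp hs, ha1f]
      exact mul_mem (mul_mem (hzpR e heR hh₁z) hfR) (hzpR e heR hh₁z)
  have ha2R : (a₂ : X) ∈ Subgroup.normalizer (R : Set X) := by
    rw [hR]
    apply mem_normalizer_closure
    intro s hs
    rw [← hR]
    rcases hs with hs | hs
    · rw [hs, ha2e]
      exact mul_mem (mul_mem (hzpR f hfR hh₂z) heR) (hzpR f hfR hh₂z)
    · rw [Set.mem_singleton_iff.mp hs, ha2f]; exact hfR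
  -- the commutator of the two lifts
  have hcD' : ⁅e, f⁆ ∈ D := hcomD e heP₁.1 f hfP₁.1
  have ha1c : (a₁ : X) * ⁅e, f⁆ * (a₁ : X)⁻¹ = ⁅e, f⁆ := by
    rw [conj_comm, ha1e, ha1f, comm_conj_sq hh₁c]
    exact hcentral _ hcD' h₁ hh₁P.1
  obtain ⟨Zc, hZc⟩ : ∃ Zc : Subgroup X, Zc = Subgroup.zpowers ⁅e, f⁆ := ⟨_, rfl⟩
  have hZcD : Zc ≤ D := by rw [hZc]; exact Subgroup.zpowers_le.mpr hcD'
  have hcZc : ⁅e, f⁆ ∈ Zc := by rw [hZc]; exact Subgroup.mem_zpowers _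
  have hZcfix : ∀ z ∈ Zc, (a₁ : X) * z * (a₁ : X)⁻¹ = z := by
    intro z hz
    rw [hZc] at hz
    obtain ⟨n, rfl⟩ := Subgroup.mem_zpowers_iff.mp hz
    rw [← conj_zpow, ha1c]
  have hZccent : ∀ z ∈ Zc, ∀ a ∈ R, a * z * a⁻¹ = z :=
    fun z hz a ha => hcentral z (hZcD hz) a (hRP₁ ha).1
  have hstep1 : ∀ u ∈ R, ⁅u, e⁆ ∈ Zc ∧ ⁅u, f⁆ ∈ Zc := by
    intro u hu
    rw [hR] at hu
    induction hu using Subgroup.closure_induction with
    | mem s hs =>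
      rcases hs with hs | hs
      · rw [hs]
        exact ⟨by rw [commutatorElement_self]; exact one_mem _, hcZc⟩
      · rw [Set.mem_singleton_iff.mp hs]
        exact ⟨by rw [← commutatorElement_inv]; exact inv_mem hcZc,
          by rw [commutatorElement_self]; exact one_mem _⟩
    | one =>
      exact ⟨by rw [commutatorElement_one_left]; exact one_mem _,
        by rw [commutatorElement_one_left]; exact one_mem _⟩
    | mul a b ha hb iha ihb =>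
      rw [← hR] at ha
      constructor
      · rw [comm_mul_left', hZccent _ ihb.1 a ha]; exact mul_mem ihb.1 iha.1
      · rw [comm_mul_left', hZccent _ ihb.2 a ha]; exact mul_mem ihb.2 iha.2
    | inv a ha iha =>
      rw [← hR] at ha
      constructor
      · rw [comm_inv_left']
        have h1 := hZccent _ (inv_mem iha.1) a⁻¹ (inv_mem ha)
        rw [inv_inv] at h1
        rw [h1]; exact inv_mem iha.1
      · rw [comm_inv_left']
        have h1 := hZccent _ (inv_mem iha.2) a⁻¹ (inv_mem ha)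
        rw [inv_inv] at h1
        rw [h1]; exact inv_mem iha.2
  have hRcomm : ∀ u ∈ R, ∀ v ∈ R, ⁅u, v⁆ ∈ Zc := by
    intro u hu v hv
    rw [hR] at hv
    induction hv using Subgroup.closure_induction with
    | mem s hs =>
      rcases hs with hs | hs
      · rw [hs]; exact (hstep1 u hu).1
      · rw [Set.mem_singleton_iff.mp hs]; exact (hstep1 u hu).2
    | one => rw [commutatorElement_one_right]; exact one_mem _
    | mul a b ha hb iha ihb =>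
      rw [← hR] at ha
      rw [comm_mul_right', hZccent _ ihb a ha]; exact mul_mem iha ihb
    | inv a ha iha =>
      rw [← hR] at ha
      rw [comm_inv_right']
      have h1 := hZccent _ (inv_mem iha) a⁻¹ (inv_mem ha)
      rw [inv_inv] at h1
      rw [h1]; exact inv_mem iha
  have hRnorm : ∀ v ∈ R, (t : X) * v * (t : X)⁻¹ * v ∈ Zc := by
    intro v hv
    rw [hR] at hv
    induction hv using Subgroup.closure_induction with
    | mem s hs =>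
      rcases hs with hs | hs
      · rw [hs, heinv, inv_mul_cancel]; exact one_mem _
      · rw [Set.mem_singleton_iff.mp hs, hfinv, inv_mul_cancel]; exact one_mem _
    | one =>
      have e0 : (t : X) * 1 * (t : X)⁻¹ * 1 = 1 := by group
      rw [e0]; exact one_mem _
    | mul a b ha hb iha ihb =>
      rw [← hR] at ha hb
      have haP : (t : X) * a * (t : X)⁻¹ ∈ P := hconjP t a (hRP₁ ha).1
      have e0 : (t : X) * (a * b) * (t : X)⁻¹ * (a * b) =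
          ((t : X) * a * (t : X)⁻¹) * ((t : X) * b * (t : X)⁻¹ * b) * ((t : X) * a * (t : X)⁻¹)⁻¹ *
            ((t : X) * a * (t : X)⁻¹ * a) * ⁅a⁻¹, b⁻¹⁆ := by
        simp only [commutatorElement_def]; group
      rw [e0, hcentral _ (hZcD ihb) _ haP]
      exact mul_mem (mul_mem ihb iha) (hRcomm _ (inv_mem ha) _ (inv_mem hb))
    | inv a ha iha =>
      rw [← hR] at ha
      have e0 : (t : X) * a⁻¹ * (t : X)⁻¹ * a⁻¹ = (a * ((t : X) * a * (t : X)⁻¹ * a) * a⁻¹)⁻¹ := by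
        group
      rw [e0, hZccent _ iha a ha]
      exact inv_mem iha
  -- `a₁` acts quadratically on `R`
  have hquad : ⁅⁅R, Subgroup.zpowers (a₁ : X)⁆, Subgroup.zpowers (a₁ : X)⁆ = ⊥ := by
    apply quad_of_commute
    intro u huR
    obtain ⟨hu, x, y, hxy⟩ := hRP₁ huR
    have hu' : u⁻¹ ∈ P := inv_mem hu
    have hc1' : (a₁ : X) * u⁻¹ * (a₁ : X)⁻¹ ∈ P := hconjP a₁ _ hu'
    have e1 : ⁅u, (a₁ : X)⁆ = u * ((a₁ : X) * u⁻¹ * (a₁ : X)⁻¹) := by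
      rw [commutatorElement_def]; group
    have hvP : ⁅u, (a₁ : X)⁆ ∈ P := by rw [e1]; exact mul_mem hu hc1'
    have hvR : ⁅u, (a₁ : X)⁆ ∈ R := by
      rw [e1]
      exact mul_mem huR ((Subgroup.mem_normalizer_iff.mp ha1R _).mp (inv_mem huR))
    have hθu' : θ u⁻¹ = (-x) • e₁ + (-y) • f₁ := by rw [hθinv u hu, hxy]; module
    have hθv : θ ⁅u, (a₁ : X)⁆ = (-y) • e₁ + (0 : ZMod p) • f₁ := by
      rw [e1, hθmul u hu _ hc1', hActsθ a₁ _ _ _ _ Aa1 u⁻¹ hu' (-x) (-y) hθu', hxy]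
      module
    have hvP₁ : ⁅u, (a₁ : X)⁆ ∈ P₁ := ⟨hvP, _, _, hθv⟩
    have hvz : ⁅u, (a₁ : X)⁆⁻¹ * ((a₁ : X) * ⁅u, (a₁ : X)⁆ * (a₁ : X)⁻¹) ∈ D := by
      have h1 := hconjP a₁ _ hvP
      rw [← hθker _ (mul_mem (inv_mem hvP) h1), hθmul _ (inv_mem hvP) _ h1, hθinv _ hvP,
        hActsθ a₁ _ _ _ _ Aa1 _ hvP _ _ hθv, hθv]
      module
    have h2 : (a₁ : X) * ⁅u, (a₁ : X)⁆ * (a₁ : X)⁻¹ = ⁅u, (a₁ : X)⁆ := by
      refine key_fix' hp2 (t := (t : X)) ?_ ?_ ?_ ?_ ?_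
      · obtain ⟨j, hj⟩ := hP ⟨_, hDP hvz⟩
        exact ⟨j, by
          have := congrArg Subtype.val hj
          simpa using this⟩
      · exact htfixD _ hvz
      · have h3 := hcentral _ hvz _ (inv_mem hvP)
        calc ⁅u, (a₁ : X)⁆⁻¹ * ((a₁ : X) * ⁅u, (a₁ : X)⁆ * (a₁ : X)⁻¹) * ⁅u, (a₁ : X)⁆⁻¹
            = (⁅u, (a₁ : X)⁆⁻¹ * (⁅u, (a₁ : X)⁆⁻¹ * ((a₁ : X) * ⁅u, (a₁ : X)⁆ * (a₁ : X)⁻¹)) *
                ⁅u, (a₁ : X)⁆⁻¹⁻¹) * ⁅u, (a₁ : X)⁆⁻¹ := by rw [h3]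
          _ = ⁅u, (a₁ : X)⁆⁻¹ * (⁅u, (a₁ : X)⁆⁻¹ * ((a₁ : X) * ⁅u, (a₁ : X)⁆ * (a₁ : X)⁻¹)) := by
            group
      · exact hZcfix _ (hRnorm _ hvR)
      · exact hτcomm _ ha1N hc1 _ hvP₁
    show (a₁ : X) * ⁅u, (a₁ : X)⁆ = ⁅u, (a₁ : X)⁆ * (a₁ : X)
    calc (a₁ : X) * ⁅u, (a₁ : X)⁆
        = ((a₁ : X) * ⁅u, (a₁ : X)⁆ * (a₁ : X)⁻¹) * (a₁ : X) := by group
      _ = ⁅u, (a₁ : X)⁆ * (a₁ : X) := by rw [h2]
  -- stability on `R`
  obtain ⟨T, -, hNT, -, hTq, hTa⟩ := Cfsg.Agent.H57.ZJL.stab_elem hst R hRp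
  have hxT : (a₁ : X) ∈ T := hTa _ ha1R hquad
  have Aa2i : Acts ρ e₁ f₁ a₂⁻¹ 1 0 (-1) 1 := by simpa using Aa2.inv (by ring)
  have Aq : Acts ρ e₁ f₁ (a₁ * a₂⁻¹ * a₁) 0 1 (-1) 0 :=
    (Aa1.mul Aa2i (A := 0) (B := 1) (C := -1) (D := 1) (by ring) (by ring) (by ring)
      (by ring)).mul Aa1 (by ring) (by ring) (by ring) (by ring)
  have Aqi : Acts ρ e₁ f₁ (a₁ * a₂⁻¹ * a₁)⁻¹ 0 (-1) 1 0 := by simpa using Aq.inv (by ring)
  obtain ⟨y'', hy''⟩ : ∃ y'' : ↥L, y'' = (a₁ * a₂⁻¹ * a₁) * a₁ * (a₁ * a₂⁻¹ * a₁)⁻¹ := ⟨_, rfl⟩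
  have Ay : Acts ρ e₁ f₁ y'' 1 0 (-1) 1 := by
    rw [hy'']
    exact (Aq.mul Aa1 (A := 0) (B := 1) (C := -1) (D := -1) (by ring) (by ring) (by ring)
      (by ring)).mul Aqi (by ring) (by ring) (by ring) (by ring)
  have hqN : ((a₁ * a₂⁻¹ * a₁ : ↥L) : X) ∈ Subgroup.normalizer (R : Set X) :=
    mul_mem (mul_mem ha1R (inv_mem ha2R)) ha1R
  have hyT : (y'' : X) ∈ T := by
    rw [hy'']
    exact (Subgroup.mem_normalizer_iff.mp (hNT hqN) _).mp hxT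
  have Aw2 : Acts ρ e₁ f₁ (a₁ * y'' * y'') (-1) 1 (-2) 1 :=
    (Aa1.mul Ay (A := 0) (B := 1) (C := -1) (D := 1) (by ring) (by ring) (by ring)
      (by ring)).mul Ay (by ring) (by ring) (by ring) (by ring)
  have Aw'' : Acts ρ e₁ f₁ ((a₁ * y'' * y'') * (a₁ * y'' * y'')) (-1) 0 0 (-1) :=
    Aw2.mul Aw2 (by ring) (by ring) (by ring) (by ring)
  have hwT : (((a₁ * y'' * y'') * (a₁ * y'' * y'') : ↥L) : X) ∈ T :=
    mul_mem (mul_mem (mul_mem hxT hyT) hyT) (mul_mem (mul_mem hxT hyT) hyT)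
  obtain ⟨j, hj⟩ := hTq _ hwT
  have Awj : Acts ρ e₁ f₁ (((a₁ * y'' * y'') * (a₁ * y'' * y'')) ^ p ^ j) (-1) 0 0 (-1) :=
    Aw''.pow_diag_card j
  have h1 := Subgroup.mem_centralizer_iff.mp hj e heR
  have h3 := hActsθ _ _ _ _ _ Awj e heP₁.1 1 0 hθe1
  have h2 : ((((a₁ * y'' * y'') * (a₁ * y'' * y'')) ^ p ^ j : ↥L) : X) * e *
      ((((a₁ * y'' * y'') * (a₁ * y'' * y'')) ^ p ^ j : ↥L) : X)⁻¹ = e := by
    rw [Subgroup.coe_pow, ← h1, mul_inv_cancel_right]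
  rw [h2, hθe] at h3
  have h5 : e₁ = (-1 : ZMod p) • e₁ := by simpa using h3
  have h4 : (2 : ZMod p) • e₁ + (0 : ZMod p) • f₁ = 0 := by
    calc (2 : ZMod p) • e₁ + (0 : ZMod p) • f₁ = e₁ + e₁ := by module
      _ = e₁ + (-1 : ZMod p) • e₁ := by rw [← h5]
      _ = 0 := by module
  exact h2ne (hind 2 0 h4).1

end Cfsg.Agent.H57.QSL
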