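import Mathlib
import Cfsg.Prelude.Def_LocalEven
import Cfsg.Agent.H57.QSLNat2
import Cfsg.Agent.H57.QSLFsf

/-!
# Quotient stability and `Z(J)`-control for normalizer-`p`-stable groups, every odd `p`
(helper57)

The statements of `QSLCore`, `QSLQuot`, `QSLFsf` with `3 < p` weakened to `p ≠ 2`, using
`no_natConfig_odd` (the proofs are otherwise the same).
-/

set_option autoImplicit false

namespace Cfsg.Agent.H57.QSL

universe u

section core

open scoped commutatorElement
open Cfsg Cfsg.Agent.H38 Cfsg.Agent.H24.Quad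

set_option maxHeartbeats 1600000 in
theorem core_elem_odd {X : Type u} [Group X] [Finite X] {p : ℕ} [Fact p.Prime] (hp2 : p ≠ 2)
    (hst : IsNormalizerPStable p X) :
    ∀ (n : ℕ) (P E : Subgroup X), Nat.card P = n → IsPGroup p P → E ≤ P →
      ∀ a b : X, a ∈ Subgroup.normalizer (P : Set X) → a ∈ Subgroup.normalizer (E : Set X) →
      b ∈ Subgroup.normalizer (P : Set X) → b ∈ Subgroup.normalizer (E : Set X) →
      (∀ u ∈ P, ⁅a, ⁅a, u⁆⁆ ∈ E) → (∀ u ∈ P, ⁅b, ⁅b, u⁆⁆ ∈ E) →
      (∀ g ∈ Subgroup.closure ({a, b} : Set X), ∃ j : ℕ,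
        g ^ p ^ j ∈ Subgroup.centralizer (E : Set X)) →
      ∀ g ∈ Subgroup.closure ({a, b} : Set X), ∃ j : ℕ,
        g ^ p ^ j ∈ Subgroup.centralizer (P : Set X) := by
  intro n
  induction n using Nat.strong_induction_on with
  | _ n ih =>
  intro P E hn hP hEP a b haP haE hbP hbE hqa hqb hLE
  have hpp : p.Prime := Fact.out
  obtain ⟨L, hL⟩ : ∃ L : Subgroup X, L = Subgroup.closure ({a, b} : Set X) := ⟨_, rfl⟩
  rw [← hL] at hLE ⊢
  have haL : a ∈ L := by rw [hL]; exact Subgroup.subset_closure (by simp)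
  have hbL : b ∈ L := by rw [hL]; exact Subgroup.subset_closure (by simp)
  have hLP : L ≤ Subgroup.normalizer (P : Set X) := by
    rw [hL, Subgroup.closure_le]
    rintro x (rfl | hx)
    · exact haP
    · rw [Set.mem_singleton_iff.mp hx]; exact hbP
  obtain ⟨J, m, hm, hcard⟩ :=
    Nat.exists_eq_pow_mul_and_not_dvd (Nat.card_pos (α := X)).ne' p hpp.ne_one
  have hcop : m.Coprime p := ((Nat.Prime.coprime_iff_not_dvd hpp).mpr hm).symm
  have hpowm : ∀ g : X, (g ^ p ^ J) ^ m = 1 := by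
    intro g
    rw [← pow_mul, ← hcard]
    exact pow_card_eq_one'
  -- the `p'`-elements of `L` and their centralizer in `P`
  obtain ⟨SK, hSK⟩ : ∃ SK : Set X, SK = {k | k ∈ L ∧ k ^ m = 1} := ⟨_, rfl⟩
  have hSKmem : ∀ k, k ∈ SK ↔ k ∈ L ∧ k ^ m = 1 := by intro k; rw [hSK]; rfl
  obtain ⟨D, hD⟩ : ∃ D : Subgroup X, D = P ⊓ Subgroup.centralizer SK := ⟨_, rfl⟩
  have hDmem : ∀ d, d ∈ D ↔ d ∈ P ∧ d ∈ Subgroup.centralizer SK := by
    intro d; rw [hD, Subgroup.mem_inf]
  have hDP : D ≤ P := by rw [hD]; exact inf_le_left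
  have hSKD : ∀ k ∈ L, k ^ m = 1 → k ∈ Subgroup.centralizer (D : Set X) := by
    intro k hk hkm
    rw [Subgroup.mem_centralizer_iff]
    intro d hd
    exact (Subgroup.mem_centralizer_iff.mp ((hDmem d).mp hd).2 k ((hSKmem k).mpr ⟨hk, hkm⟩)).symm
  have hpr : ∀ R : Subgroup X, R ≤ P →
      (∀ g ∈ L, ∃ j : ℕ, g ^ p ^ j ∈ Subgroup.centralizer (R : Set X)) → R ≤ D := by
    intro R hRP hR r hr
    rw [hDmem]
    refine ⟨hRP hr, ?_⟩
    rw [Subgroup.mem_centralizer_iff]
    intro k hk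
    obtain ⟨hkL, hkm⟩ := (hSKmem k).mp hk
    obtain ⟨j, hj⟩ := hR k hkL
    have hk' : k ∈ Subgroup.centralizer (R : Set X) :=
      mem_of_pow_mem_coprime _ (Nat.Coprime.pow_left j hcop.symm) hj
        (by rw [hkm]; exact one_mem _)
    exact (Subgroup.mem_centralizer_iff.mp hk' r hr).symm
  by_cases hDeq : D = P
  · intro g hg
    refine ⟨J, ?_⟩
    have h1 := hSKD (g ^ p ^ J) (pow_mem hg _) (hpowm g)
    rwa [hDeq] at h1
  exfalso
  -- `L` normalizes `D`
  have hLD : L ≤ Subgroup.normalizer (D : Set X) := by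
    intro g hg
    apply Cfsg.Agent.H14.mem_normalizer_of_conj_mem
    intro d hd
    obtain ⟨hdP, hdS⟩ := (hDmem d).mp hd
    rw [hDmem]
    refine ⟨(Subgroup.mem_normalizer_iff.mp (hLP hg) d).mp hdP, ?_⟩
    rw [Subgroup.mem_centralizer_iff]
    intro k hk
    obtain ⟨hkL, hkm⟩ := (hSKmem k).mp hk
    have hk' : g⁻¹ * k * g ∈ SK := by
      rw [hSKmem]
      refine ⟨mul_mem (mul_mem (inv_mem hg) hkL) hg, ?_⟩
      have e : (g⁻¹ * k * g) ^ m = g⁻¹ * k ^ m * g := by
        have := conj_pow (a := g⁻¹) (b := k) (i := m)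
        simpa using this
      rw [e, hkm]; group
    have h1 := Subgroup.mem_centralizer_iff.mp hdS _ hk'
    calc k * (g * d * g⁻¹) = g * ((g⁻¹ * k * g) * d) * g⁻¹ := by group
      _ = g * (d * (g⁻¹ * k * g)) * g⁻¹ := by rw [h1]
      _ = (g * d * g⁻¹) * k := by group
  have hED : E ≤ D := hpr E hEP hLE
  -- proper invariant subgroups lie in `D`
  have hF2 : ∀ P₁ : Subgroup X, P₁ < P → L ≤ Subgroup.normalizer (P₁ : Set X) → P₁ ≤ D := by
    intro P₁ hlt hLP₁
    apply hpr P₁ hlt.le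
    have hcardlt : Nat.card P₁ < n := by rw [← hn]; exact Cfsg.Agent.H29.card_lt_of_lt hlt
    have hconj : ∀ c ∈ L, ∀ u ∈ P₁, ⁅c, u⁆ ∈ P₁ := by
      intro c hc u hu
      rw [commutatorElement_def]
      exact mul_mem ((Subgroup.mem_normalizer_iff.mp (hLP₁ hc) u).mp hu) (inv_mem hu)
    have key := ih (Nat.card P₁) hcardlt P₁ (E ⊓ P₁) rfl (hP.to_le hlt.le) inf_le_right a b
      (hLP₁ haL) (Cfsg.Agent.H57.ZJL.mem_normalizer_inf haE (hLP₁ haL)) (hLP₁ hbL)
      (Cfsg.Agent.H57.ZJL.mem_normalizer_inf hbE (hLP₁ hbL))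
      (fun u hu => ⟨hqa u (hlt.le hu), hconj a haL _ (hconj a haL u hu)⟩)
      (fun u hu => ⟨hqb u (hlt.le hu), hconj b hbL _ (hconj b hbL u hu)⟩)
    rw [← hL] at key
    exact key (fun g hg => by
      obtain ⟨j, hj⟩ := hLE g hg
      exact ⟨j, Subgroup.centralizer_le (by
        intro z hz
        exact (Subgroup.mem_inf.mp hz).1) hj⟩)
  have hPbot : P ≠ ⊥ := by
    intro hPb
    apply hDeq
    refine le_antisymm hDP ?_
    rw [hPb]; exact bot_le
  -- commutators and `p`-th powers of `P` lie in `D`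
  obtain ⟨Φ, hΦ⟩ : ∃ Φ : Subgroup X, Φ = Subgroup.closure
      ({z | ∃ u ∈ P, ∃ v ∈ P, z = ⁅u, v⁆} ∪ {z | ∃ u ∈ P, z = u ^ p}) := ⟨_, rfl⟩
  have hΦfr : Φ ≤ (frattini ↥P).map P.subtype := by
    obtain ⟨hcomm, hpow⟩ := Cfsg.Agent.S0012.result (G := ↥P) p hP
    rw [hΦ, Subgroup.closure_le]
    rintro z (⟨u, hu, v, hv, rfl⟩ | ⟨u, hu, rfl⟩)
    · have h1 : ⁅(⟨u, hu⟩ : P), ⟨v, hv⟩⁆ ∈ commutator P := by
        rw [commutator_def]
        exact Subgroup.commutator_mem_commutator (Subgroup.mem_top _) (Subgroup.mem_top _)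
      exact ⟨_, hcomm h1, rfl⟩
    · exact ⟨_, hpow ⟨u, hu⟩, rfl⟩
  have hΦlt : Φ < P := lt_of_le_of_lt hΦfr (Cfsg.Agent.H58.frattini_map_lt P hPbot)
  have hLΦ : L ≤ Subgroup.normalizer (Φ : Set X) := by
    intro g hg
    rw [hΦ]
    apply mem_normalizer_closure
    have hgP : ∀ u ∈ P, g * u * g⁻¹ ∈ P :=
      fun u hu => (Subgroup.mem_normalizer_iff.mp (hLP hg) u).mp hu
    rintro z (⟨u, hu, v, hv, rfl⟩ | ⟨u, hu, rfl⟩)
    · apply Subgroup.subset_closure
      left
      refine ⟨g * u * g⁻¹, hgP u hu, g * v * g⁻¹, hgP v hv, ?_⟩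
      simp only [commutatorElement_def]; group
    · apply Subgroup.subset_closure
      right
      exact ⟨g * u * g⁻¹, hgP u hu, by rw [conj_pow]⟩
  have hΦD : Φ ≤ D := hF2 Φ hΦlt hLΦ
  have hcommD : ∀ u ∈ P, ∀ v ∈ P, ⁅u, v⁆ ∈ D := fun u hu v hv =>
    hΦD (by rw [hΦ]; exact Subgroup.subset_closure (Or.inl ⟨u, hu, v, hv, rfl⟩))
  have hpowD : ∀ u ∈ P, u ^ p ∈ D := fun u hu =>
    hΦD (by rw [hΦ]; exact Subgroup.subset_closure (Or.inr ⟨u, hu, rfl⟩))
  -- if the `p'`-elements of `L` act trivially on `P / D`, then `D = P`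
  have hend : (∀ k ∈ L, k ^ m = 1 → ∀ u ∈ P, k * u * k⁻¹ * u⁻¹ ∈ D) → False := by
    intro h
    apply hDeq
    refine le_antisymm hDP ?_
    intro u hu
    rw [hDmem]
    refine ⟨hu, ?_⟩
    rw [Subgroup.mem_centralizer_iff]
    intro k hk
    obtain ⟨hkL, hkm⟩ := (hSKmem k).mp hk
    have hk' := cent_of_coprime hP hDP hcop hkm (hSKD k hkL hkm) (h k hkL hkm)
    exact (Subgroup.mem_centralizer_iff.mp hk' u hu).symm
  -- `D` is central in `P`
  have hDZ : D ≤ Subgroup.centralizer (P : Set X) := by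
    by_contra hnot
    obtain ⟨C, hC⟩ : ∃ C : Subgroup X, C = P ⊓ Subgroup.centralizer (D : Set X) := ⟨_, rfl⟩
    have hCmem : ∀ x, x ∈ C ↔ x ∈ P ∧ x ∈ Subgroup.centralizer (D : Set X) := by
      intro x; rw [hC, Subgroup.mem_inf]
    have hCP : C ≤ P := by rw [hC]; exact inf_le_left
    have hCne : C ≠ P := by
      intro hCeq
      apply hnot
      intro d hd
      rw [Subgroup.mem_centralizer_iff]
      intro u hu
      have hu' : u ∈ C := by rw [hCeq]; exact hu
      exact (Subgroup.mem_centralizer_iff.mp ((hCmem u).mp hu').2 d hd).symm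
    have hClt : C < P := lt_of_le_of_ne hCP hCne
    have hLC : L ≤ Subgroup.normalizer (C : Set X) := by
      intro g hg
      apply Cfsg.Agent.H14.mem_normalizer_of_conj_mem
      intro x hx
      obtain ⟨hxP, hxD⟩ := (hCmem x).mp hx
      rw [hCmem]
      refine ⟨(Subgroup.mem_normalizer_iff.mp (hLP hg) x).mp hxP, ?_⟩
      rw [Subgroup.mem_centralizer_iff]
      intro d hd
      have hd' : g⁻¹ * d * g ∈ D := by
        have := (Subgroup.mem_normalizer_iff.mp (hLD (inv_mem hg)) d).mp hd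
        simpa using this
      have h1 := Subgroup.mem_centralizer_iff.mp hxD _ hd'
      calc d * (g * x * g⁻¹) = g * ((g⁻¹ * d * g) * x) * g⁻¹ := by group
        _ = g * (x * (g⁻¹ * d * g)) * g⁻¹ := by rw [h1]
        _ = (g * x * g⁻¹) * d := by group
    have hCD : C ≤ D := hF2 C hClt hLC
    apply hend
    intro k hkL hkm u hu
    apply hCD
    have hkP : k * u * k⁻¹ ∈ P := (Subgroup.mem_normalizer_iff.mp (hLP hkL) u).mp hu
    rw [hCmem]
    refine ⟨mul_mem hkP (inv_mem hu), ?_⟩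
    rw [Subgroup.mem_centralizer_iff]
    intro d hd
    have hkD := hSKD k hkL hkm
    have hud : u⁻¹ * d * u ∈ D := by
      have e1 : u⁻¹ * d * u = ⁅u⁻¹, d⁆ * d := by rw [commutatorElement_def]; group
      rw [e1]; exact mul_mem (hcommD _ (inv_mem hu) _ (hDP hd)) hd
    have h1 := Subgroup.mem_centralizer_iff.mp hkD d hd
    have h2 := Subgroup.mem_centralizer_iff.mp hkD _ hud
    have h2' : k⁻¹ * (u⁻¹ * d * u) = (u⁻¹ * d * u) * k⁻¹ := by
      have := congrArg (fun z => k⁻¹ * z * k⁻¹) h2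
      simpa [mul_assoc] using this
    calc d * (k * u * k⁻¹ * u⁻¹) = (d * k) * u * k⁻¹ * u⁻¹ := by group
      _ = (k * d) * u * k⁻¹ * u⁻¹ := by rw [h1]
      _ = k * u * ((u⁻¹ * d * u) * k⁻¹) * u⁻¹ := by group
      _ = k * u * (k⁻¹ * (u⁻¹ * d * u)) * u⁻¹ := by rw [h2']
      _ = (k * u * k⁻¹ * u⁻¹) * d := by group
  -- the module model of `P / D`
  obtain ⟨V, iV, iMod, iFin, θ, ρ, hθmul, hθker, hθsurj, hρ⟩ :=
    exists_model (p := p) hDP hcommD hpowD hLP hLD
  have hθ1 : θ 1 = 0 := by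
    have h := hθmul 1 (one_mem P) 1 (one_mem P)
    rw [mul_one] at h
    exact left_eq_add.mp h
  have hθinv : ∀ u ∈ P, θ u⁻¹ = - θ u := by
    intro u hu
    have h := hθmul u⁻¹ (inv_mem hu) u hu
    rw [inv_mul_cancel, hθ1] at h
    exact eq_neg_of_add_eq_zero_left h.symm
  have hquadρ : ∀ (c : X) (hc : c ∈ L), (∀ u ∈ P, ⁅c, ⁅c, u⁆⁆ ∈ E) →
      (ρ ⟨c, hc⟩ - 1) ^ 2 = 0 := by
    intro c hc hq
    have hcP : ∀ u ∈ P, c * u * c⁻¹ ∈ P :=
      fun u hu => (Subgroup.mem_normalizer_iff.mp (hLP hc) u).mp hu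
    have hcomP : ∀ u ∈ P, ⁅c, u⁆ ∈ P := fun u hu => by
      rw [commutatorElement_def]; exact mul_mem (hcP u hu) (inv_mem hu)
    have h1 : ∀ u ∈ P, (ρ ⟨c, hc⟩ - 1) (θ u) = θ ⁅c, u⁆ := by
      intro u hu
      rw [LinearMap.sub_apply, Module.End.one_apply, ← hρ ⟨c, hc⟩ u hu, commutatorElement_def,
        hθmul _ (hcP u hu) _ (inv_mem hu), hθinv u hu, sub_eq_add_neg]
    ext v
    obtain ⟨u, hu, rfl⟩ := hθsurj v
    rw [sq, Module.End.mul_apply, h1 u hu, h1 _ (hcomP u hu), LinearMap.zero_apply]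
    exact (hθker _ (hcomP _ (hcomP u hu))).mpr (hED (hq u hu))
  have hgen : Subgroup.closure {(⟨a, haL⟩ : ↥L), ⟨b, hbL⟩} = ⊤ := by
    subst hL
    have := Subgroup.closure_closure_coe_preimage (k := ({a, b} : Set X))
    convert this using 2
    ext z
    simp [Subtype.ext_iff]
  rcases coreHyp_of_dickson (dicksonHyp_of_odd hp2) hp2 V ↥L ⟨a, haL⟩ ⟨b, hbL⟩ hgen ρ
    (hquadρ a haL hqa) (hquadρ b hbL hqb) with hPG | hNat
  · apply hend
    intro k hkL hkm u hu
    obtain ⟨j, hj⟩ := hPG ⟨k, hkL⟩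
    have hρm : ρ ⟨k, hkL⟩ ^ m = 1 := by
      rw [← map_pow]
      have e : (⟨k, hkL⟩ : ↥L) ^ m = 1 := Subtype.ext (by simpa using hkm)
      rw [e, map_one]
    have hρ1 : ρ ⟨k, hkL⟩ = 1 :=
      (pow_eq_one_iff_of_coprime (Nat.Coprime.pow_left j hcop.symm)).mp ⟨hj, hρm⟩
    have hkP : k * u * k⁻¹ ∈ P := (Subgroup.mem_normalizer_iff.mp (hLP hkL) u).mp hu
    have h1 := hρ ⟨k, hkL⟩ u hu
    rw [hρ1, Module.End.one_apply] at h1
    rw [← hθker _ (mul_mem hkP (inv_mem hu)), hθmul _ hkP _ (inv_mem hu), hθinv u hu, h1,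
      add_neg_cancel]
  · refine no_natConfig_odd hp2 hst hP hDP hDZ hLP ?_ θ hθmul hθker hθsurj ρ hρ hNat
    intro g hg m' hm' hgm
    apply hSKD g hg
    have h1 : orderOf g ∣ m' := orderOf_dvd_of_pow_eq_one hgm
    have h2 : orderOf g ∣ p ^ J * m := by rw [← hcard]; exact orderOf_dvd_natCard g
    have h3 : (orderOf g).Coprime (p ^ J) :=
      Nat.Coprime.pow_right J (Nat.Coprime.coprime_dvd_left h1 hm')
    exact orderOf_dvd_iff_pow_eq_one.mp (h3.dvd_of_dvd_mul_left h2)

end core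

section quot

open scoped commutatorElement
open Cfsg Cfsg.Agent.H14 Cfsg.Agent.H29

/-- Baer–Suzuki form of `core_elem`. -/
theorem star_odd {X : Type u} [Group X] [Finite X] {p : ℕ} [Fact p.Prime] (hp2 : p ≠ 2)
    (hst : IsNormalizerPStable p X) (P E : Subgroup X) (hP : IsPGroup p P) (hEP : E ≤ P)
    (hNE : Subgroup.normalizer (P : Set X) ≤ Subgroup.normalizer (E : Set X))
    (hCE : ∀ g ∈ Subgroup.normalizer (P : Set X), ∃ j : ℕ,
      g ^ p ^ j ∈ Subgroup.centralizer (E : Set X))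
    (g : X) (hg : g ∈ Subgroup.normalizer (P : Set X)) (hq : ∀ u ∈ P, ⁅g, ⁅g, u⁆⁆ ∈ E) :
    (QuotientGroup.mk (s := (Subgroup.centralizer (P : Set X)).subgroupOf
        (Subgroup.normalizer (P : Set X))) (⟨g, hg⟩ : ↥(Subgroup.normalizer (P : Set X)))) ∈
      pCore p (↥(Subgroup.normalizer (P : Set X)) ⧸
        (Subgroup.centralizer (P : Set X)).subgroupOf (Subgroup.normalizer (P : Set X))) := by
  set N := Subgroup.normalizer (P : Set X) with hN
  set π := QuotientGroup.mk' ((Subgroup.centralizer (P : Set X)).subgroupOf N) with hπ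
  have hπ1 : ∀ (y : ↥N) (k : ℕ), (π y) ^ k = 1 ↔ (y : X) ^ k ∈ Subgroup.centralizer (P : Set X) := by
    intro y k
    rw [← map_pow, hπ, QuotientGroup.mk'_apply, QuotientGroup.eq_one_iff, Subgroup.mem_subgroupOf,
      Subgroup.coe_pow]
  -- pairs of conjugates generate `p`-groups
  have hpair : ∀ n : ↥N, ∀ y : ↥N,
      (y : X) ∈ Subgroup.closure ({g, (n : X) * g * (n : X)⁻¹} : Set X) →
      ∃ j : ℕ, (π y) ^ p ^ j = 1 := by
    intro n y hy
    have hb : (n : X) * g * (n : X)⁻¹ ∈ N := mul_mem (mul_mem n.2 hg) (inv_mem n.2)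
    have hqb : ∀ u ∈ P, ⁅(n : X) * g * (n : X)⁻¹, ⁅(n : X) * g * (n : X)⁻¹, u⁆⁆ ∈ E := by
      intro u hu
      rw [conj_comm_comm]
      have hu' : (n : X)⁻¹ * u * (n : X) ∈ P := by
        have := (Subgroup.mem_normalizer_iff.mp (inv_mem n.2) u).mp hu
        simpa using this
      exact (Subgroup.mem_normalizer_iff.mp (hNE n.2) _).mp (hq _ hu')
    have hcl : Subgroup.closure ({g, (n : X) * g * (n : X)⁻¹} : Set X) ≤ N := by
      rw [Subgroup.closure_le]
      rintro x (rfl | hx)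
      · exact hg
      · rw [Set.mem_singleton_iff.mp hx]; exact hb
    obtain ⟨j, hj⟩ := core_elem_odd hp2 hst _ P E rfl hP hEP g ((n : X) * g * (n : X)⁻¹) hg (hNE hg)
      hb (hNE hb) hq hqb (fun z hz => hCE z (hcl hz)) (y : X) hy
    exact ⟨j, (hπ1 y _).mpr hj⟩
  have hX : IsPGroup p (Subgroup.zpowers (π ⟨g, hg⟩)) := by
    obtain ⟨j, hj⟩ := hpair 1 ⟨g, hg⟩ (Subgroup.subset_closure (by simp))
    exact isPGroup_zpowers_pow hj
  have hBS : ∀ gb : ↥N ⧸ (Subgroup.centralizer (P : Set X)).subgroupOf N,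
      IsPGroup p ↥(Subgroup.zpowers (π ⟨g, hg⟩) ⊔
        (Subgroup.zpowers (π ⟨g, hg⟩)).map (MulAut.conj gb).toMonoidHom) := by
    intro gb
    obtain ⟨n, rfl⟩ := QuotientGroup.mk'_surjective _ gb
    have hle : Subgroup.zpowers (π ⟨g, hg⟩) ⊔
        (Subgroup.zpowers (π ⟨g, hg⟩)).map (MulAut.conj (π n)).toMonoidHom ≤
        ((Subgroup.closure ({g, (n : X) * g * (n : X)⁻¹} : Set X)).subgroupOf N).map π := by
      refine sup_le ?_ ?_
      · rw [Subgroup.zpowers_le]
        exact ⟨⟨g, hg⟩, Subgroup.mem_subgroupOf.mpr (Subgroup.subset_closure (by simp)), rfl⟩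
      · rw [MonoidHom.map_zpowers, Subgroup.zpowers_le]
        refine ⟨n * ⟨g, hg⟩ * n⁻¹, Subgroup.mem_subgroupOf.mpr
          (Subgroup.subset_closure (by simp)), ?_⟩
        simp
    intro z
    obtain ⟨y, hy, hz⟩ := hle z.2
    obtain ⟨j, hj⟩ := hpair n y (Subgroup.mem_subgroupOf.mp hy)
    refine ⟨j, Subtype.ext ?_⟩
    rw [Subgroup.coe_pow, Subgroup.coe_one, ← hz]
    exact hj
  obtain ⟨Nb, hNbn, hNbp, hXN⟩ := Cfsg.Agent.H5.baer_suzuki _ hX hBS
  exact (le_pCore hNbn hNbp) (hXN (Subgroup.mem_zpowers _))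

/-- **Quotient stability**: if `Q` is a normal `p`-subgroup of the normalizer-`p`-stable group
`X` (`p` odd) and `X / C_X(Q)` is a `p`-group, then `X / Q` is normalizer-`p`-stable. -/
theorem stable_quotient_odd {X : Type u} [Group X] [Finite X] {p : ℕ} [Fact p.Prime] (hp2 : p ≠ 2)
    (hst : IsNormalizerPStable p X) (Q : Subgroup X) [hQn : Q.Normal] (hQ : IsPGroup p Q)
    (hCQ : ∀ g : X, ∃ j : ℕ, g ^ p ^ j ∈ Subgroup.centralizer (Q : Set X)) :
    IsNormalizerPStable p (X ⧸ Q) := by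
  intro Pb hPb gb hgb hquad
  have hπs : Function.Surjective (QuotientGroup.mk' Q) := QuotientGroup.mk'_surjective Q
  obtain ⟨g, rfl⟩ := hπs gb
  set P := Pb.comap (QuotientGroup.mk' Q) with hPdef
  have hP : IsPGroup p P :=
    hPb.comap_of_ker_isPGroup (QuotientGroup.mk' Q) (by rw [QuotientGroup.ker_mk']; exact hQ)
  have hQP : Q ≤ P := by
    intro x hx
    rw [hPdef, Subgroup.mem_comap]
    have : QuotientGroup.mk' Q x = 1 := (QuotientGroup.eq_one_iff x).mpr hx
    rw [this]; exact one_mem _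
  have hPmap : P.map (QuotientGroup.mk' Q) = Pb :=
    Subgroup.map_comap_eq_self_of_surjective hπs Pb
  have hNeq : Subgroup.normalizer (P : Set X) =
      (Subgroup.normalizer (Pb : Set (X ⧸ Q))).comap (QuotientGroup.mk' Q) := by
    rw [hPdef]
    exact (Subgroup.comap_normalizer_eq_of_surjective Pb hπs).symm
  have hmemN : ∀ x : X, x ∈ Subgroup.normalizer (P : Set X) ↔
      QuotientGroup.mk' Q x ∈ Subgroup.normalizer (Pb : Set (X ⧸ Q)) := by
    intro x; rw [hNeq, Subgroup.mem_comap]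
  have hg : g ∈ Subgroup.normalizer (P : Set X) := (hmemN g).mpr hgb
  have hq : ∀ u ∈ P, ⁅g, ⁅g, u⁆⁆ ∈ Q := by
    intro u hu
    rw [← QuotientGroup.eq_one_iff, ← QuotientGroup.mk'_apply, map_commutatorElement,
      map_commutatorElement]
    set gb := QuotientGroup.mk' Q g
    set ub := QuotientGroup.mk' Q u
    have hub : ub ∈ Pb := hu
    have h1 : ⁅ub, gb⁆ ∈ ⁅Pb, Subgroup.zpowers gb⁆ :=
      Subgroup.commutator_mem_commutator hub (Subgroup.mem_zpowers gb)
    have h2 : ⁅⁅ub, gb⁆, gb⁆ ∈ ⁅⁅Pb, Subgroup.zpowers gb⁆, Subgroup.zpowers gb⁆ :=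
      Subgroup.commutator_mem_commutator h1 (Subgroup.mem_zpowers gb)
    rw [hquad, Subgroup.mem_bot] at h2
    have h3 : ⁅gb, ⁅ub, gb⁆⁆ = 1 := by
      rw [← commutatorElement_inv, h2, inv_one]
    have h4 : ⁅gb, ⁅gb, ub⁆⁆ = 1 := by
      rw [← commutatorElement_inv ub gb]
      rw [commutatorElement_eq_one_iff_commute] at h3 ⊢
      exact h3.inv_right
    exact h4
  have hNQ : Subgroup.normalizer (P : Set X) ≤ Subgroup.normalizer (Q : Set X) := by
    rw [Subgroup.normalizer_eq_top Q]; exact le_top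
  have key := star_odd hp2 hst P Q hP hQP hNQ (fun x _ => hCQ x) g hg hq
  -- transfer to the quotient
  let f : ↥(Subgroup.normalizer (P : Set X)) →* ↥(Subgroup.normalizer (Pb : Set (X ⧸ Q))) :=
    { toFun := fun x => ⟨QuotientGroup.mk' Q (x : X), (hmemN x).mp x.2⟩
      map_one' := rfl
      map_mul' := fun _ _ => rfl }
  have hfs : Function.Surjective f := by
    rintro ⟨y, hy⟩
    obtain ⟨x, rfl⟩ := hπs y
    exact ⟨⟨x, (hmemN x).mpr hy⟩, rfl⟩
  have hC : (Subgroup.centralizer (P : Set X)).subgroupOf (Subgroup.normalizer (P : Set X)) ≤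
      ((Subgroup.centralizer (Pb : Set (X ⧸ Q))).subgroupOf
        (Subgroup.normalizer (Pb : Set (X ⧸ Q)))).comap f := by
    intro x hx
    rw [Subgroup.mem_comap, Subgroup.mem_subgroupOf]
    rw [Subgroup.mem_subgroupOf] at hx
    rw [Subgroup.mem_centralizer_iff] at hx ⊢
    intro y hy
    rw [← hPmap] at hy
    obtain ⟨z, hz, rfl⟩ := hy
    have := hx z hz
    show QuotientGroup.mk' Q z * QuotientGroup.mk' Q (x : X) =
      QuotientGroup.mk' Q (x : X) * QuotientGroup.mk' Q z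
    rw [← map_mul, ← map_mul, this]
  exact pCore_transfer _ _ f hfs hC ⟨g, hg⟩ key

end quot

section fsf

open Cfsg Cfsg.Agent.H39 Cfsg.Agent.H40.Sec Cfsg.Agent.H29 Cfsg.Agent.H29.ZC

local notation "cj(" g ", " Q ")" => Subgroup.map (MulEquiv.toMonoidHom (MulAut.conj g)) Q
local notation "N(" Q ")" => Subgroup.normalizer (SetLike.coe (Q : Subgroup _))

/-- Glauberman's local-to-global induction (helper40's `fsf_of_hyp`) run inside the class of
normalizer-`p`-stable groups, `p` odd, for the functor `Z(J_o)`. -/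
theorem fsf_of_stable_odd {p : ℕ} [Fact p.Prime] (hp2 : p ≠ 2) :
    ∀ (n : ℕ) (X : Type u) [Group X] [Finite X], Nat.card X = n →
      IsNormalizerPStable p X →
      ∀ S : Sylow p X, FSF (IndFam 𝓦o X) ⊤ (S : Subgroup X) := by
  have h𝓦o : ∀ W ∈ 𝓦o, IsCharPFunctor.{u} p W := by
    rintro W rfl
    exact isCharPFunctor_WJo
  intro n
  induction n using Nat.strong_induction_on with
  | _ n ih =>
  intro X _ _ hn hst S
  have hSp : IsPGroup p (S : Subgroup X) := S.isPGroup'
  -- proper subgroups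
  have ihSub : ∀ M : Subgroup X, M ≠ ⊤ → ∀ T : Subgroup X, SylIn p T M →
      FSF (IndFam 𝓦o X) M T := by
    intro M hM T hT
    have hcard : Nat.card ↥M < n := by
      rw [← hn]
      exact lt_of_le_of_ne (Subgroup.card_le_card_group M)
        (fun h => hM (Subgroup.eq_top_of_card_eq M h))
    have hst' := Cfsg.Agent.S3836.result hst M
    let T₀ : Sylow p ↥M := (hT.2.1.comap_subtype : IsPGroup p (T.subgroupOf M)).toSylow hT.2.2
    have h1 := ih _ hcard ↥M rfl hst' T₀
    have h2 := FSF.of_subtype h𝓦o M T₀.isPGroup' h1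
    have h3 : ((T₀ : Subgroup ↥M)).map M.subtype = T := Subgroup.map_subgroupOf_eq_of_le hT.1
    rwa [h3] at h2
  -- proper quotients
  have ihQuot : ∀ (N : Subgroup X) [N.Normal], N ≠ ⊥ → IsNormalizerPStable p (X ⧸ N) →
      ∀ T : Subgroup (X ⧸ N), SylIn p T ⊤ → FSF (IndFam 𝓦o (X ⧸ N)) ⊤ T := by
    intro N _ hN hst' T hT
    have hcard : Nat.card (X ⧸ N) < n := by
      rw [← hn, Subgroup.card_eq_card_quotient_mul_card_subgroup N]
      have h1 : 1 < Nat.card N := (Subgroup.one_lt_card_iff_ne_bot N).mpr hN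
      have h2 : 0 < Nat.card (X ⧸ N) := Nat.card_pos
      nlinarith
    let T₀ : Sylow p (X ⧸ N) :=
      hT.2.1.toSylow (by rw [← Subgroup.relIndex_top_right]; exact hT.2.2)
    exact ih _ hcard (X ⧸ N) rfl hst' T₀
  -- the Sylow subgroup itself
  have hself : GoodOn (IndFam 𝓦o X) (S : Subgroup X) (S : Subgroup X) := by
    have hc : Constr p ↥(S : Subgroup X) := constr_of_isPGroup hSp
    have h1 : FamilyControlsStrongFusionIn p (IndFam 𝓦o ↥(S : Subgroup X)) ⊤ :=
      fcsf_of_constr_qstabS hp2 (qstabS_of_qstab (qstab_of_isNormalizerPStable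
        (Cfsg.Agent.S3836.result hst (S : Subgroup X)))) hc
    rw [familyControlsStrongFusionIn_iff] at h1
    obtain ⟨T₀, hT₀, hfsf⟩ := h1
    have hT₀top : (⊤ : Subgroup ↥(S : Subgroup X)) = T₀ :=
      hT₀.eq_of_le le_top le_rfl (hSp.to_subgroup ⊤)
    rw [← hT₀top] at hfsf
    have h2 := FSF.of_subtype h𝓦o (S : Subgroup X) (hSp.to_subgroup ⊤) hfsf
    have h3 : (⊤ : Subgroup ↥(S : Subgroup X)).map (S : Subgroup X).subtype = S := by
      rw [← MonoidHom.range_eq_map, Subgroup.range_subtype]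
    rw [h3] at h2
    exact goodOn_of_fsf h2
  have hQn : (pCore p X).Normal := pCore_normal' p
  have hQp : IsPGroup p (pCore p X) := pCore_isPGroup p
  have hQS : pCore p X ≤ (S : Subgroup X) := pCore_le_sylow S
  by_cases hQ : pCore p X = ⊥
  · apply fsf_of_local S (indFam_cf h𝓦o X)
    intro U hUS hU hUsyl
    apply ihSub _ _ _ hUsyl
    intro htop
    apply hU
    have hUn : U.Normal := Subgroup.normalizer_eq_top_iff.mp htop
    have h1 := le_pCore hUn (hSp.to_le hUS)
    rw [hQ] at h1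
    exact le_bot_iff.mp h1
  · by_cases hSC : (S : Subgroup X) ⊔ Subgroup.centralizer ((pCore p X : Subgroup X) : Set X) = ⊤
    · by_cases hSQ : (S : Subgroup X) = pCore p X
      · intro B hB g _ hg
        have hg' : g ∈ (S : Subgroup X) ⊔
            Subgroup.centralizer ((pCore p X : Subgroup X) : Set X) := by rw [hSC]; trivial
        obtain ⟨s, hs, c, hc, rfl⟩ := Subgroup.mem_sup_of_normal_right.mp hg'
        have hcB : ∀ b ∈ B, c * b * c⁻¹ = b := by
          intro b hb
          have hbQ : b ∈ pCore p X := by rw [← hSQ]; exact hB hb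
          have := Subgroup.mem_centralizer_iff.mp hc b hbQ
          rw [← this]; group
        have g1 : Good (IndFam 𝓦o X) ⊤ (S : Subgroup X) B c := Good.of_centralizes hcB
        have e : cj(c, B) = B := by
          have h1 : cj(c, B) = cj((1 : X), B) :=
            conjMap_congr (fun b hb => by rw [hcB b hb]; group)
          rw [h1, conjMap_one]
        have g2 : Good (IndFam 𝓦o X) ⊤ (S : Subgroup X) (cj(c, B)) s := by
          rw [e]
          refine hself B hB s hs ?_
          rw [conjMap_le_iff]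
          intro q hq
          exact mul_mem (mul_mem hs (hB hq)) (inv_mem hs)
        exact g1.trans g2
      · have hstQ : IsNormalizerPStable p (X ⧸ pCore p X) := by
          refine stable_quotient_odd hp2 hst (pCore p X) hQp ?_
          intro g
          have hg' : g ∈ (S : Subgroup X) ⊔
              Subgroup.centralizer ((pCore p X : Subgroup X) : Set X) := by rw [hSC]; trivial
          obtain ⟨s, hs, c, hc, rfl⟩ := Subgroup.mem_sup_of_normal_right.mp hg'
          obtain ⟨j, hj⟩ := hSp ⟨s, hs⟩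
          have hj' : s ^ p ^ j = 1 := by
            have := congrArg Subtype.val hj
            simpa using this
          refine ⟨j, ?_⟩
          rw [← QuotientGroup.eq_one_iff, QuotientGroup.mk_pow, QuotientGroup.mk_mul,
            (QuotientGroup.eq_one_iff c).mpr hc, mul_one, ← QuotientGroup.mk_pow, hj']
          rfl
        refine fsf_case_ii S (pCore p X) hQS hSC
          (ihQuot (pCore p X) hQ hstQ _ (sylIn_map_mk S (pCore p X))) ?_ hself
        intro W hW
        have hSbp : IsPGroup p ((S : Subgroup X).map (QuotientGroup.mk' (pCore p X))) :=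
          hSp.map _
        have hcf := isConjugacyFunctor_induced (G := X ⧸ pCore p X) (h𝓦o W hW)
        have hle : (S : Subgroup X) ≤ (N(inducedFunctor W
            ((S : Subgroup X).map (QuotientGroup.mk' (pCore p X))))).comap
              (QuotientGroup.mk' (pCore p X)) := by
          intro s hs
          rw [Subgroup.mem_comap]
          exact sylow_le_normalizer_induced (h𝓦o W hW) hSbp (Subgroup.mem_map_of_mem _ hs)
        have hne : (N(inducedFunctor W
            ((S : Subgroup X).map (QuotientGroup.mk' (pCore p X))))).comap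
              (QuotientGroup.mk' (pCore p X)) ≠ ⊤ := by
          intro htop
          have h1 : N(inducedFunctor W
              ((S : Subgroup X).map (QuotientGroup.mk' (pCore p X)))) = ⊤ :=
            Subgroup.comap_injective (QuotientGroup.mk'_surjective (pCore p X))
              (by rw [htop, Subgroup.comap_top])
          have hn : (inducedFunctor W
              ((S : Subgroup X).map (QuotientGroup.mk' (pCore p X)))).Normal :=
            Subgroup.normalizer_eq_top_iff.mp h1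
          have h2 := le_pCore hn (hSbp.to_le (cf_le hcf hSbp))
          rw [pCore_quotient_pCore_eq_bot] at h2
          have h3 : (S : Subgroup X).map (QuotientGroup.mk' (pCore p X)) = ⊥ := by
            by_contra hne'
            exact cf_ne_bot hcf hSbp hne' (le_bot_iff.mp h2)
          have h4 : (S : Subgroup X) ≤ pCore p X := by
            rw [Subgroup.map_eq_bot_iff, QuotientGroup.ker_mk'] at h3
            exact h3
          exact hSQ (le_antisymm h4 hQS)
        exact goodOn_of_fsf (ihSub _ hne S (sylIn_of_sylow_le S hle))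
    · by_cases hNQ : N((S : Subgroup X) ⊓ (pCore p X ⊔
          Subgroup.centralizer ((pCore p X : Subgroup X) : Set X))) = ⊤
      · have hn : ((S : Subgroup X) ⊓ (pCore p X ⊔
            Subgroup.centralizer ((pCore p X : Subgroup X) : Set X))).Normal :=
          Subgroup.normalizer_eq_top_iff.mp hNQ
        have hle := le_pCore hn (hSp.to_le inf_le_left)
        have hSCQ : (S : Subgroup X) ⊓ Subgroup.centralizer ((pCore p X : Subgroup X) : Set X) ≤
            pCore p X := (inf_le_inf_left _ le_sup_right).trans hle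
        have hcon := constr_quotient_pPrimeCore S hSCQ
        have h1 : FamilyControlsStrongFusionIn p (IndFam 𝓦o (X ⧸ pPrimeCore p X)) ⊤ :=
          fcsf_of_constr_qstabS hp2 (qstabS_quotient_of_stable hst) hcon
        rw [familyControlsStrongFusionIn_iff] at h1
        obtain ⟨T', hT', hfsf⟩ := h1
        have h2 := FSF.of_sylIn (indFam_cf h𝓦o _) hfsf hT' (sylIn_map_mk S (pPrimeCore p X))
        exact fsf_lift_coprime h𝓦o S _ (Cfsg.Agent.H40.card_pPrimeCore_coprime p X) h2
      · have hSN : (S : Subgroup X) ≤ N((S : Subgroup X) ⊓ (pCore p X ⊔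
            Subgroup.centralizer ((pCore p X : Subgroup X) : Set X))) := by
          intro s hs
          apply mem_normalizer_of_conjMap_le
          refine le_inf ?_ (conjMap_normal_le _ s inf_le_right)
          rw [conjMap_le_iff]
          intro q hq
          exact mul_mem (mul_mem hs hq.1) (inv_mem hs)
        exact fsf_case_i S (pCore p X ⊔ Subgroup.centralizer ((pCore p X : Subgroup X) : Set X))
          ((S : Subgroup X) ⊔ Subgroup.centralizer ((pCore p X : Subgroup X) : Set X))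
          (N((S : Subgroup X) ⊓ (pCore p X ⊔
            Subgroup.centralizer ((pCore p X : Subgroup X) : Set X))))
          le_sup_left (sup_le (hQS.trans le_sup_left) le_sup_right) le_rfl
          (goodOn_of_fsf (ihSub _ hSC S (sylIn_of_sylow_le S le_sup_left)))
          (goodOn_of_fsf (ihSub _ hNQ S (sylIn_of_sylow_le S hSN)))

end fsf

end Cfsg.Agent.H57.QSL
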