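import Mathlib
import Cfsg.Agent.H38.QuadCore
import Cfsg.Agent.H38.QdStable
import Cfsg.Agent.H57.RFNeg
import Cfsg.Agent.H57.RFBase
import Cfsg.Agent.S2834
import Cfsg.Agent.H29.ZJ
import Cfsg.Agent.H58.QStab
import Cfsg.Agent.H39.Cores
import Cfsg.Agent.H39.CoreOf

/-!
# Quadratic elements in `T`-minimal groups with an odd maximal subgroup (helper57)

`SHyp p H`: `H` is generated by the conjugates of a Sylow `p`-subgroup `T`, and all proper
subgroups containing `T` lie in one subgroup of odd order.  Using the L-Lemma (S2834) and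
Dickson's theorem (central involution on an irreducible section) we show that such groups are
internally `p`-stable (`QStab`), hence satisfy Glauberman's ZJ-theorem when of characteristic `p`.
-/

set_option autoImplicit false
set_option linter.unusedSectionVars false
set_option linter.style.haveILetI false
set_option linter.unusedVariables false

namespace Cfsg.Agent.H57.RF

open Polynomial Cfsg Cfsg.Agent.H24.Quad Cfsg.Agent.H38
open scoped commutatorElement

universe u v w

section ClaimZ

variable {p : ℕ} [Fact p.Prime]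

theorem two_ne_zero_zmod (hp2 : p ≠ 2) : (2 : ZMod p) ≠ 0 := by
  intro h
  have h2 : ((2 : ℕ) : ZMod p) = 0 := by exact_mod_cast h
  rw [ZMod.natCast_eq_zero_iff] at h2
  exact hp2 ((Nat.prime_dvd_prime_iff_eq (Fact.out : p.Prime) Nat.prime_two).1 h2)

/-- A `p`-group acting linearly on a nontrivial finite `F_p`-module fixes a nonzero vector. -/
theorem exists_fixed_of_pgroup {Λ : Type w} [Group Λ] {V : Type v} [AddCommGroup V]
    [Module (ZMod p) V] [Finite V] [Nontrivial V] (ρ : Λ →* Module.End (ZMod p) V)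
    (Q : Subgroup Λ) (hQ : IsPGroup p Q) : ∃ v : V, v ≠ 0 ∧ ∀ q ∈ Q, ρ q v = v := by
  letI : MulAction Q V :=
    { smul := fun q v => ρ (q : Λ) v
      one_smul := fun v => by
        show ρ ((1 : Q) : Λ) v = v
        rw [Subgroup.coe_one, map_one]; rfl
      mul_smul := fun a b v => by
        show ρ ((a * b : Q) : Λ) v = ρ a (ρ b v)
        rw [Subgroup.coe_mul, map_mul]; rfl }
  have hp : p ∣ Nat.card V := by
    obtain ⟨v, hv⟩ := exists_ne (0 : V)
    have h1 : addOrderOf v = p := by
      apply addOrderOf_eq_prime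
      · rw [← Nat.cast_smul_eq_nsmul (ZMod p), ZMod.natCast_self, zero_smul]
      · exact hv
    rw [← h1]
    exact addOrderOf_dvd_natCard v
  have h0 : (0 : V) ∈ MulAction.fixedPoints Q V := fun q => by
    show ρ (q : Λ) 0 = 0
    exact map_zero _
  obtain ⟨b, hb, hne⟩ := hQ.exists_fixed_point_of_prime_dvd_card_of_fixed_point V hp h0
  exact ⟨b, fun h => hne h.symm, fun q hq => hb ⟨q, hq⟩⟩

/-- **Key module-level statement**: a finite group generated, modulo a normal `p`-subgroup `Q`, by
two elements acting quadratically and not as a `p`-group has a proper subgroup of even order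
containing `Q` and the first generator. -/
theorem exists_even_proper (hp2 : p ≠ 2) {Λ : Type w} [Group Λ] [Finite Λ] (x y : Λ)
    (Q : Subgroup Λ) [hQn : Q.Normal] (hQ : IsPGroup p Q)
    (hgen : Subgroup.closure {x, y} ⊔ Q = ⊤) (n : ℕ) :
    ∀ (V : Type v) [AddCommGroup V] [Module (ZMod p) V] [Finite V], Nat.card V = n →
      ∀ ρ : Λ →* Module.End (ZMod p) V, (ρ x - 1) ^ 2 = 0 → (ρ y - 1) ^ 2 = 0 → ¬ PG p ρ →
      ∃ Y : Subgroup Λ, Y ≠ ⊤ ∧ x ∈ Y ∧ Q ≤ Y ∧ 2 ∣ Nat.card Y := by
  induction n using Nat.strong_induction_on with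
  | _ n ih =>
  intro V _ _ _ hn ρ hx hy hpg
  by_cases hirr : ∀ W₀ : Submodule (ZMod p) V, (∀ g, ρ g ∈ stab W₀) → W₀ = ⊥ ∨ W₀ = ⊤
  swap
  · -- reducible case
    push Not at hirr
    obtain ⟨W₀, hst, hbot, htop⟩ := hirr
    obtain ⟨ρ', hρ'⟩ : ∃ ρ' : Λ →* stab W₀, ρ' = ρ.codRestrict (stab W₀) hst := ⟨_, rfl⟩
    have hρ'c : ∀ g, ((ρ' g : stab W₀) : Module.End (ZMod p) V) = ρ g := fun g => by
      rw [hρ']; rfl
    have hr : ∀ g, resRep ρ W₀ hst g = resHom W₀ (ρ' g) := fun g => by rw [hρ']; rfl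
    have hq : ∀ g, quoRep ρ W₀ hst g = quoHom W₀ (ρ' g) := fun g => by rw [hρ']; rfl
    have hsq' : ∀ g, (ρ g - 1) ^ 2 = 0 → (ρ' g - 1) ^ 2 = 0 := by
      intro g hg
      apply Subtype.ext
      simpa [hρ'c] using hg
    have hcard := Submodule.card_eq_card_quotient_mul_card W₀
    have hW1 : 1 < Nat.card W₀ := by
      haveI : Nontrivial W₀ := Submodule.nontrivial_iff_ne_bot.mpr hbot
      exact Finite.one_lt_card
    haveI hfinq : Finite (V ⧸ W₀) :=
      Finite.of_surjective (Submodule.mkQ W₀) (Submodule.mkQ_surjective W₀)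
    have hW2 : 1 < Nat.card (V ⧸ W₀) := by
      haveI : Nontrivial (V ⧸ W₀) := Submodule.Quotient.nontrivial_iff.mpr htop
      exact Finite.one_lt_card
    by_cases h1 : PG p (resRep ρ W₀ hst)
    · by_cases h2 : PG p (quoRep ρ W₀ hst)
      · exfalso
        apply hpg
        intro g
        obtain ⟨j1, hj1⟩ := h1 g
        obtain ⟨j2, hj2⟩ := h2 g
        refine ⟨j1 + j2 + 1, ?_⟩
        have hr1 : resHom W₀ (ρ' g ^ p ^ (j1 + j2)) = 1 := by
          rw [map_pow, ← hr, pow_add, pow_mul, hj1, one_pow]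
        have hq1 : quoHom W₀ (ρ' g ^ p ^ (j1 + j2)) = 1 := by
          rw [map_pow, ← hq, pow_add, mul_comm, pow_mul, hj2, one_pow]
        have := sq_zero_of_res_quo _ hr1 hq1
        have h5 := pow_char_of_sq_zero (ZMod p) p this
        rw [pow_succ, pow_mul]
        simpa [hρ'c] using h5
      · have hlt : Nat.card (V ⧸ W₀) < n := by
          rw [← hn, hcard]
          nlinarith
        exact ih _ hlt (V ⧸ W₀) rfl (quoRep ρ W₀ hst)
          (by rw [hq, ← map_one (quoHom W₀), ← map_sub, ← map_pow, hsq' x hx, map_zero])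
          (by rw [hq, ← map_one (quoHom W₀), ← map_sub, ← map_pow, hsq' y hy, map_zero]) h2
    · have hlt : Nat.card W₀ < n := by
        rw [← hn, hcard]
        nlinarith
      exact ih _ hlt W₀ rfl (resRep ρ W₀ hst)
        (by rw [hr, ← map_one (resHom W₀), ← map_sub, ← map_pow, hsq' x hx, map_zero])
        (by rw [hr, ← map_one (resHom W₀), ← map_sub, ← map_pow, hsq' y hy, map_zero]) h1
  · -- irreducible case
    have hVnt : Nontrivial V := by
      by_contra hnt
      rw [not_nontrivial_iff_subsingleton] at hnt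
      exact hpg (fun g => ⟨0, LinearMap.ext fun w => Subsingleton.elim _ _⟩)
    -- `Q` acts trivially
    have hQ1 : ∀ q ∈ Q, ρ q = 1 := by
      let F : Submodule (ZMod p) V :=
        { carrier := {v | ∀ q ∈ Q, ρ q v = v}
          add_mem' := fun {a b} ha hb q hq => by rw [map_add, ha q hq, hb q hq]
          zero_mem' := fun q hq => map_zero _
          smul_mem' := fun c v hv q hq => by rw [map_smul, hv q hq] }
      have hFst : ∀ g, ρ g ∈ stab F := by
        intro g v hv q hq
        have h1 : q * g = g * (g⁻¹ * q * g) := by group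
        have h2 : g⁻¹ * q * g ∈ Q := by
          have := hQn.conj_mem q hq g⁻¹
          simpa using this
        rw [← Module.End.mul_apply, ← map_mul, h1, map_mul, Module.End.mul_apply, hv _ h2]
      obtain ⟨v, hv0, hv⟩ := exists_fixed_of_pgroup ρ Q hQ
      rcases hirr F hFst with h | h
      · exfalso
        apply hv0
        have h3 : v ∈ F := hv
        rw [h, Submodule.mem_bot] at h3
        exact h3
      · intro q hq
        ext w
        have h3 : w ∈ F := by rw [h]; trivial
        rw [h3 q hq]; rfl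
    -- every element acts as a word in `x`, `y`
    have hword : ∀ h : Λ, ∃ γ ∈ Subgroup.closure ({x, y} : Set Λ), ρ h = ρ γ := by
      intro h
      have hh : h ∈ Subgroup.closure ({x, y} : Set Λ) ⊔ Q := by rw [hgen]; trivial
      obtain ⟨γ, hγ, q, hq, rfl⟩ := Subgroup.mem_sup_of_normal_right.mp hh
      exact ⟨γ, hγ, by rw [map_mul, hQ1 q hq, mul_one]⟩
    have hind : ∀ (P : Module.End (ZMod p) V → Prop), P 1 → P (ρ x) → P (ρ y) →
        (∀ a b, P a → P b → P (a * b)) → ∀ h, P (ρ h) := by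
      intro P h1 hPx hPy hmul h
      have hall : ∀ γ ∈ Submonoid.closure ({x, y} : Set Λ), P (ρ γ) := by
        intro γ hγ'
        induction hγ' using Submonoid.closure_induction with
        | mem z hz =>
          rcases hz with rfl | hz
          · exact hPx
          · rw [Set.mem_singleton_iff.mp hz]; exact hPy
        | one => rw [map_one]; exact h1
        | mul a b _ _ ha hb => rw [map_mul]; exact hmul _ _ ha hb
      obtain ⟨γ, hγ, hh⟩ := hword h
      rw [hh]
      apply hall
      rw [← Subgroup.closure_toSubmonoid_of_finite]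
      exact hγ
    obtain ⟨α, hα⟩ : ∃ α, α = ρ x - 1 := ⟨_, rfl⟩
    obtain ⟨β, hβ⟩ : ∃ β, β = ρ y - 1 := ⟨_, rfl⟩
    obtain ⟨t, ht⟩ : ∃ t, t = α * β + β * α := ⟨_, rfl⟩
    have hρx : ρ x = 1 + α := by rw [hα]; abel
    have hρy : ρ y = 1 + β := by rw [hβ]; abel
    have hαα : α * α = 0 := by rw [← sq, hα]; exact hx
    have hββ : β * β = 0 := by rw [← sq, hβ]; exact hy
    have hαt : Commute α t := by
      show α * t = t * α
      rw [ht, mul_add, add_mul, ← mul_assoc α α β, hαα, zero_mul, zero_add, mul_assoc β α α, hαα,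
        mul_zero, add_zero, mul_assoc]
    have hβt : Commute β t := by
      show β * t = t * β
      rw [ht, mul_add, add_mul, ← mul_assoc β β α, hββ, zero_mul, add_zero, mul_assoc α β β, hββ,
        mul_zero, zero_add, mul_assoc]
    haveI : Module.Finite (ZMod p) V := Module.Finite.of_finite
    have hnil : ¬ IsNilpotent t := by
      intro hnil
      apply hpg
      have hxΓ : x ∈ Subgroup.closure ({x, y} : Set Λ) := Subgroup.subset_closure (by simp)
      have hyΓ : y ∈ Subgroup.closure ({x, y} : Set Λ) := Subgroup.subset_closure (by simp)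
      have hgen0 : Subgroup.closure {(⟨x, hxΓ⟩ : Subgroup.closure ({x, y} : Set Λ)),
          ⟨y, hyΓ⟩} = ⊤ := by
        have := Subgroup.closure_closure_coe_preimage (k := ({x, y} : Set Λ))
        convert this using 2
        ext z
        simp [Subtype.ext_iff]
      have hpgΓ : PG p (ρ.comp (Subgroup.subtype (Subgroup.closure ({x, y} : Set Λ)))) :=
        pg_of_nilpotent hgen0 _ V rfl
          (ρ.comp (Subgroup.subtype (Subgroup.closure ({x, y} : Set Λ)))) hx hy
          (by rw [ht, hα, hβ] at hnil; exact hnil)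
      intro h
      obtain ⟨γ, hγ, hh⟩ := hword h
      obtain ⟨k, hk⟩ := hpgΓ ⟨γ, hγ⟩
      exact ⟨k, by rw [hh]; exact hk⟩
    obtain ⟨f, hf, hfX, hker⟩ := exists_irreducible_of_not_nilpotent t hnil
    have hcomm : ∀ h, Commute (ρ h) t := by
      refine hind (fun a => Commute a t) ?_ ?_ ?_ ?_
      · exact Commute.one_left t
      · show Commute (ρ x) t
        rw [hρx]; exact (Commute.one_left t).add_left hαt
      · show Commute (ρ y) t
        rw [hρy]; exact (Commute.one_left t).add_left hβt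
      · intro a b ha hb; exact Commute.mul_left ha hb
    have hstab : ∀ g, ρ g ∈ stab (LinearMap.ker (aeval t f)) := by
      intro g w hw
      rw [LinearMap.mem_ker] at hw ⊢
      have h1 : Commute (ρ g) (aeval t f) := by
        have h2 : ∀ q : (ZMod p)[X], Commute (ρ g) (aeval t q) := by
          intro q
          induction q using Polynomial.induction_on' with
          | add q r hq hr => rw [map_add]; exact hq.add_right hr
          | monomial n c =>
            rw [aeval_monomial]
            exact (Algebra.commute_algebraMap_right c (ρ g)).mul_right ((hcomm g).pow_right n)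
        exact h2 f
      have h3 := congrArg (fun T : Module.End (ZMod p) V => T w) h1.eq
      simp only [Module.End.mul_apply] at h3
      rw [← h3, hw, map_zero]
    have hft : aeval t f = 0 := by
      rcases hirr _ hstab with h | h
      · exact absurd h hker
      · ext w
        have h3 : w ∈ LinearMap.ker (aeval t f) := by rw [h]; trivial
        exact LinearMap.mem_ker.mp h3
    obtain ⟨g, J, hJ0, hJx, hJy, hJg⟩ := exists_negOne (dicksonHyp_of_odd hp2) hp2 x y ρ hx hy f hf
      hfX (by rw [← hα, ← hβ, ← ht]; exact hft)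
    have hJst : ∀ h, ρ h ∈ stab J := by
      refine hind (fun a => a ∈ stab J) ?_ ?_ ?_ ?_
      · exact (stab J).one_mem
      · exact hJx
      · exact hJy
      · intro a b ha hb; exact (stab J).mul_mem ha hb
    have hJtop : J = ⊤ := (hirr J hJst).resolve_left hJ0
    have hg : ρ g = -1 := by
      ext w
      rw [hJg w (by rw [hJtop]; trivial)]
      rfl
    have hinvρ : ∀ h, ρ h⁻¹ * ρ h = 1 := fun h => by rw [← map_mul, inv_mul_cancel, map_one]
    have hinvρ' : ∀ h, ρ h * ρ h⁻¹ = 1 := fun h => by rw [← map_mul, mul_inv_cancel, map_one]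
    let Y : Subgroup Λ :=
      { carrier := {h | Commute (ρ h) (ρ x)}
        one_mem' := by
          show Commute (ρ 1) (ρ x)
          rw [map_one]; exact Commute.one_left _
        mul_mem' := fun {a b} ha hb => by
          show Commute (ρ (a * b)) (ρ x)
          rw [map_mul]; exact Commute.mul_left ha hb
        inv_mem' := fun {a} ha => by
          show ρ a⁻¹ * ρ x = ρ x * ρ a⁻¹
          have ha' : ρ a * ρ x = ρ x * ρ a := ha
          calc ρ a⁻¹ * ρ x = ρ a⁻¹ * ρ x * (ρ a * ρ a⁻¹) := by rw [hinvρ', mul_one]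
            _ = ρ a⁻¹ * (ρ x * ρ a) * ρ a⁻¹ := by simp only [mul_assoc]
            _ = ρ a⁻¹ * (ρ a * ρ x) * ρ a⁻¹ := by rw [ha']
            _ = (ρ a⁻¹ * ρ a) * ρ x * ρ a⁻¹ := by simp only [mul_assoc]
            _ = ρ x * ρ a⁻¹ := by rw [hinvρ, one_mul] }
    refine ⟨Y, ?_, ?_, ?_, ?_⟩
    · intro hY
      have hyY : y ∈ Y := by rw [hY]; trivial
      have hc : Commute (ρ y) (ρ x) := hyY
      apply hnil
      have hβα : Commute β α := by
        rw [hα, hβ]
        exact (hc.sub_left (Commute.one_left _)).sub_right (Commute.one_right _)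
      have h1 : t = α * β + α * β := by rw [ht, hβα.eq]
      have h2 : α * β * (α * β) = 0 := by
        calc α * β * (α * β) = α * (β * α) * β := by simp only [mul_assoc]
          _ = α * (α * β) * β := by rw [hβα.eq]
          _ = (α * α) * β * β := by simp only [mul_assoc]
          _ = 0 := by rw [hαα, zero_mul, zero_mul]
      refine ⟨2, ?_⟩
      rw [sq, h1, add_mul, mul_add, h2]
      simp
    · show Commute (ρ x) (ρ x)
      exact Commute.refl _
    · intro q hq
      show Commute (ρ q) (ρ x)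
      rw [hQ1 q hq]; exact Commute.one_left _
    · have hgY : g ∈ Y := by
        show Commute (ρ g) (ρ x)
        rw [hg]; exact Commute.neg_one_left _
      have h2 : 2 ∣ orderOf g := by
        by_contra hodd
        have hodd' : Odd (orderOf g) := by
          rw [← Nat.not_even_iff_odd, even_iff_two_dvd]; exact hodd
        obtain ⟨v, hv⟩ := exists_ne (0 : V)
        have h3 : ρ g ^ orderOf g = 1 := by rw [← map_pow, pow_orderOf_eq_one, map_one]
        rw [hg, Odd.neg_one_pow hodd'] at h3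
        have h5 := congrArg (fun T : Module.End (ZMod p) V => T v) h3
        simp only [LinearMap.neg_apply, Module.End.one_apply] at h5
        have h6 : (2 : ZMod p) • v = 0 := by
          rw [two_smul]
          nth_rewrite 1 [← h5]
          exact neg_add_cancel v
        rcases smul_eq_zero.mp h6 with h7 | h7
        · exact two_ne_zero_zmod hp2 h7
        · exact hv h7
      have h3 := orderOf_dvd_natCard (⟨g, hgY⟩ : Y)
      rw [← Subgroup.orderOf_coe] at h3
      exact h2.trans h3

end ClaimZ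

section SHyp

variable {p : ℕ} [Fact p.Prime]

/-- `H` is generated by the conjugates of a Sylow `p`-subgroup `T`, and the proper subgroups
containing `T` all lie in one subgroup of odd order. -/
def SHyp (p : ℕ) [Fact p.Prime] (H : Type*) [Group H] : Prop :=
  ∃ T : Sylow p H, Subgroup.normalClosure ((T : Subgroup H) : Set H) = ⊤ ∧
    ∃ M : Subgroup H, Odd (Nat.card M) ∧ (M = ⊤ → (T : Subgroup H) = ⊤) ∧
      ∀ X : Subgroup H, (T : Subgroup H) ≤ X → X ≠ ⊤ → X ≤ M

theorem SHyp.map {H : Type u} {H' : Type v} [Group H] [Group H'] [Finite H] (f : H →* H')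
    (hf : Function.Surjective f) (h : SHyp p H) : SHyp p H' := by
  obtain ⟨T, hncl, M, hMo, hMT, hMX⟩ := h
  refine ⟨T.mapSurjective hf, ?_, M.map f, ?_, ?_, ?_⟩
  · rw [Sylow.coe_mapSurjective, Subgroup.coe_map, ← Subgroup.map_normalClosure _ f hf, hncl,
      Subgroup.map_top_of_surjective f hf]
  · exact Odd.of_dvd_nat hMo (M.card_map_dvd f)
  · intro hMtop
    rw [Sylow.coe_mapSurjective]
    by_cases hT : (T : Subgroup H) = ⊤
    · rw [hT, Subgroup.map_top_of_surjective f hf]
    · have hM : M ≠ ⊤ := fun h => hT (hMT h)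
      by_contra hT'
      have hX := hMX (((T : Subgroup H).map f).comap f) (Subgroup.le_comap_map f _)
        (fun h => hT' (by
          rw [← Subgroup.map_comap_eq_self_of_surjective hf ((T : Subgroup H).map f), h,
            Subgroup.map_top_of_surjective f hf]))
      have hker : f.ker ≤ M := (Subgroup.ker_le_comap f _).trans hX
      apply hM
      rw [← Subgroup.comap_map_eq_self hker, hMtop, Subgroup.comap_top]
  · intro X hTX hXtop
    rw [Sylow.coe_mapSurjective] at hTX
    have h1 := hMX (X.comap f) (Subgroup.map_le_iff_le_comap.mp hTX)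
      (fun h => hXtop (by
        rw [← Subgroup.map_comap_eq_self_of_surjective hf X, h,
          Subgroup.map_top_of_surjective f hf]))
    rw [← Subgroup.map_comap_eq_self_of_surjective hf X]
    exact Subgroup.map_mono h1

/-- **Faithful case**: in a group with `SHyp`, an element acting quadratically on a faithful
`F_p`-module lies in `O_p`. -/
theorem mem_pCore_of_quad (hp2 : p ≠ 2) {H : Type u} [Group H] [Finite H] (hS : SHyp p H)
    {V : Type v} [AddCommGroup V] [Module (ZMod p) V] [Finite V]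
    (ρ : H →* Module.End (ZMod p) V) (hinj : Function.Injective ρ) (a : H)
    (ha : (ρ a - 1) ^ 2 = 0) : a ∈ Cfsg.pCore p H := by
  by_contra haQ
  obtain ⟨T, hncl, M, hMo, hMT, hMX⟩ := hS
  have hap : a ^ p = 1 := hinj (by
    rw [map_pow, map_one]; exact pow_char_of_sq_zero (ZMod p) p ha)
  have hAp : IsPGroup p (Subgroup.zpowers a) := isPGroup_zpowers_of_pow_eq_one hap
  obtain ⟨P, hP⟩ := hAp.exists_le_sylow
  obtain ⟨c, hc⟩ := MulAction.exists_smul_eq H P T
  obtain ⟨a', ha'⟩ : ∃ a' : H, a' = c * a * c⁻¹ := ⟨_, rfl⟩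
  have ha'T : a' ∈ (T : Subgroup H) := by
    rw [← hc, Sylow.coe_subgroup_smul, Subgroup.mem_pointwise_smul_iff_inv_smul_mem, ha']
    have : (MulAut.conj c)⁻¹ • (c * a * c⁻¹) = a := by
      simp [MulAut.smul_def, mul_assoc]
    rw [this]
    exact hP (Subgroup.mem_zpowers a)
  have ha'q : (ρ a' - 1) ^ 2 = 0 := by rw [ha']; exact conj_sq_zero ρ ha c
  have hQn : (Cfsg.pCore p H).Normal := Cfsg.Agent.H39.pCore_normal' p
  have ha'Q : a' ∉ Cfsg.pCore p H := by
    intro h
    apply haQ
    have := hQn.conj_mem a' h c⁻¹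
    rw [ha'] at this
    have e : c⁻¹ * (c * a * c⁻¹) * c⁻¹⁻¹ = a := by group
    rwa [e] at this
  have hT : (T : Subgroup H) ≠ ⊤ := by
    intro hT
    apply ha'Q
    have hn : (⊤ : Subgroup H).Normal := inferInstance
    exact (Cfsg.Agent.H39.le_pCore hn (hT ▸ T.isPGroup')) (Subgroup.mem_top _)
  have hM : M ≠ ⊤ := fun h => hT (hMT h)
  have hTM : (T : Subgroup H) ≤ M := hMX _ le_rfl hT
  have hMco : IsCoatom M := ⟨hM, fun b hb => by
    by_contra hb'
    exact (not_le_of_gt hb) (hMX b (hTM.trans hb.le) hb')⟩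
  have hmin : Cfsg.IsMinimalOver (T : Subgroup H) := by
    refine ⟨hncl, M, ⟨hMco, hTM⟩, ?_⟩
    rintro M' ⟨hM'co, hTM'⟩
    have h1 : M' ≤ M := hMX M' hTM' hM'co.1
    by_contra hne
    exact hM (hM'co.2 M (lt_of_le_of_ne h1 hne))
  obtain ⟨L, hAL, L₀, hAL₀, hL₀lt, hLmax, ⟨g, hL₀g⟩, hLgen⟩ :=
    Cfsg.Agent.S2834.result T hmin M ⟨hMco, hTM⟩ (Subgroup.zpowers a')
      (by rwa [Subgroup.zpowers_le]) (by rw [Subgroup.zpowers_le]; exact ha'Q)
  obtain ⟨x₁, hx₁L, hx₁⟩ := SetLike.exists_of_lt hL₀lt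
  have hLgen' := hLgen x₁ hx₁L hx₁
  have ha'L : a' ∈ L := hAL (Subgroup.mem_sup_left (Subgroup.mem_zpowers a'))
  obtain ⟨b, hb⟩ : ∃ b : H, b = x₁ * a' * x₁⁻¹ := ⟨_, rfl⟩
  have hbL : b ∈ L := by rw [hb]; exact L.mul_mem (L.mul_mem hx₁L ha'L) (L.inv_mem hx₁L)
  have hbq : (ρ b - 1) ^ 2 = 0 := by rw [hb]; exact conj_sq_zero ρ ha'q x₁
  haveI hQLn : (Cfsg.pCore p ↥L).Normal := Cfsg.Agent.H39.pCore_normal' p
  have hQp : IsPGroup p (Cfsg.pCore p ↥L) := Cfsg.Agent.H39.pCore_isPGroup p
  have hgenL : Subgroup.closure {(⟨a', ha'L⟩ : ↥L), ⟨b, hbL⟩} ⊔ Cfsg.pCore p ↥L = ⊤ := by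
    apply Subgroup.map_injective L.subtype_injective
    rw [Subgroup.map_sup, MonoidHom.map_closure, ← MonoidHom.range_eq_map, Subgroup.range_subtype]
    have himg : L.subtype '' {(⟨a', ha'L⟩ : ↥L), ⟨b, hbL⟩} = {a', b} := by
      rw [Set.image_pair]; rfl
    rw [himg]
    have hcl : Subgroup.closure ({a', b} : Set H) = Subgroup.zpowers a' ⊔
        (Subgroup.zpowers a').map (MulAut.conj x₁).toMonoidHom := by
      rw [MonoidHom.map_zpowers, Subgroup.zpowers_eq_closure, Subgroup.zpowers_eq_closure,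
        ← Subgroup.closure_union, hb]
      rfl
    rw [hcl]
    exact hLgen'
  have hnpg : ¬ PG p (ρ.comp L.subtype) := by
    intro hpgL
    have hLp : IsPGroup p ↥L := by
      intro l
      obtain ⟨k, hk⟩ := hpgL l
      refine ⟨k, ?_⟩
      apply Subtype.ext
      apply hinj
      rw [Subgroup.coe_pow, map_pow, Subgroup.coe_one, map_one]
      exact hk
    have h1 : L ≤ Cfsg.pCoreOf p L := Cfsg.Agent.H39.le_pCoreOf le_rfl Subgroup.le_normalizer hLp
    exact (not_le_of_gt hL₀lt) ((h1.trans le_sup_right).trans hAL₀)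
  obtain ⟨Y, hYtop, haY, hQY, h2Y⟩ := exists_even_proper hp2 (⟨a', ha'L⟩ : ↥L) ⟨b, hbL⟩
    (Cfsg.pCore p ↥L) hQp hgenL _ V rfl (ρ.comp L.subtype) ha'q hbq hnpg
  have hY'le : Y.map L.subtype ≤ L := Subgroup.map_subtype_le Y
  have hY'lt : Y.map L.subtype < L := lt_of_le_of_ne hY'le (fun h => hYtop (by
    apply Subgroup.map_injective L.subtype_injective
    rw [h, ← MonoidHom.range_eq_map, Subgroup.range_subtype]))
  have hAY : Subgroup.zpowers a' ⊔ Cfsg.pCoreOf p L ≤ Y.map L.subtype := by
    refine sup_le ?_ (Subgroup.map_mono hQY)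
    rw [Subgroup.zpowers_le]
    exact ⟨⟨a', ha'L⟩, haY, rfl⟩
  have hYL₀ := hLmax _ hAY hY'lt
  have hcard : Nat.card (Y.map L.subtype) = Nat.card Y :=
    Subgroup.card_map_of_injective L.subtype_injective
  have hdvd : Nat.card (Y.map L.subtype) ∣ Nat.card M := by
    have h1 : Y.map L.subtype ≤ M.map (MulAut.conj g).toMonoidHom := by
      rw [hL₀g] at hYL₀
      exact hYL₀.trans inf_le_right
    have h2 := Subgroup.card_dvd_of_le h1
    have h3 : Nat.card (M.map (MulAut.conj g).toMonoidHom) = Nat.card M :=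
      Subgroup.card_map_of_injective (f := (MulAut.conj g).toMonoidHom) (MulAut.conj g).injective
    rwa [h3] at h2
  rw [hcard] at hdvd
  exact (Nat.not_even_iff_odd.mpr hMo) (even_iff_two_dvd.mpr (h2Y.trans hdvd))

/-- **Module level**: in a group with `SHyp`, an element acting quadratically lies in a normal
subgroup acting as a `p`-group. -/
theorem quad_normal_S (hp2 : p ≠ 2) {H : Type u} [Group H] [Finite H] (hS : SHyp p H)
    {V : Type v} [AddCommGroup V] [Module (ZMod p) V] [Finite V]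
    (ρ : H →* Module.End (ZMod p) V) (a : H) (ha : (ρ a - 1) ^ 2 = 0) :
    ∃ N : Subgroup H, N.Normal ∧ a ∈ N ∧ ∀ g ∈ N, ∃ k : ℕ, ρ g ^ p ^ k = 1 := by
  haveI hkn : ρ.ker.Normal := ρ.normal_ker
  have hS' : SHyp p (H ⧸ ρ.ker) := hS.map (QuotientGroup.mk' ρ.ker) (QuotientGroup.mk'_surjective _)
  obtain ⟨ρb, hρb⟩ : ∃ ρb : H ⧸ ρ.ker →* Module.End (ZMod p) V,
      ρb = QuotientGroup.lift ρ.ker ρ le_rfl := ⟨_, rfl⟩
  have hmk : ∀ g, ρb (QuotientGroup.mk' ρ.ker g) = ρ g := fun g => by rw [hρb]; rfl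
  have hinj : Function.Injective ρb := by
    intro a b hab
    obtain ⟨a, rfl⟩ := QuotientGroup.mk'_surjective ρ.ker a
    obtain ⟨b, rfl⟩ := QuotientGroup.mk'_surjective ρ.ker b
    rw [hmk, hmk] at hab
    rw [QuotientGroup.mk'_apply, QuotientGroup.mk'_apply, QuotientGroup.eq, MonoidHom.mem_ker,
      map_mul, ← hab, ← map_mul, inv_mul_cancel, map_one]
  have hmem := mem_pCore_of_quad hp2 hS' ρb hinj (QuotientGroup.mk' ρ.ker a)
    (by rw [hmk]; exact ha)
  refine ⟨(Cfsg.pCore p (H ⧸ ρ.ker)).comap (QuotientGroup.mk' ρ.ker),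
    (Cfsg.Agent.H39.pCore_normal' p).comap _, hmem, ?_⟩
  intro g hg
  obtain ⟨k, hk⟩ := (Cfsg.Agent.H39.pCore_isPGroup (G := H ⧸ ρ.ker) p) ⟨_, hg⟩
  refine ⟨k, ?_⟩
  have h1 := congrArg Subtype.val hk
  simp only [Subgroup.coe_pow, Subgroup.coe_one] at h1
  rw [← hmk, ← map_pow, h1, map_one]

/-- Group level, elementary abelian normal subgroups. -/
theorem quad_normal_group_S (hp2 : p ≠ 2) {H : Type u} [Group H] [Finite H] (hS : SHyp p H)
    (V : Subgroup H) (hV : Cfsg.IsElementaryAbelian p V) (hVn : V.Normal) (a : H)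
    (hq : ⁅⁅V, Subgroup.zpowers a⁆, Subgroup.zpowers a⁆ = ⊥) :
    ∃ N : Subgroup H, N.Normal ∧ a ∈ N ∧
      ∀ g ∈ N, ∃ k : ℕ, g ^ p ^ k ∈ Subgroup.centralizer (V : Set H) := by
  have hι : ∀ γ : H, (MonoidHom.id H) γ ∈ Subgroup.normalizer (V : Set H) := by
    intro γ
    rw [Subgroup.normalizer_eq_top]; trivial
  obtain ⟨M, iM, iMod, iFin, e, ρ, he, hρ⟩ := exists_conj_rep V hV (MonoidHom.id H) hι
  obtain ⟨N, hN, haN, hNp⟩ := quad_normal_S hp2 hS ρ a (rep_sq_zero he hρ a hq)
  refine ⟨N, hN, haN, fun g hg => ?_⟩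
  obtain ⟨k, hk⟩ := hNp g hg
  exact ⟨k, rep_pow_mem_centralizer hρ g _ hk⟩

/-- Group level for real-free groups (helper38's chain with real-freeness in place of
`Qd(p)`-freeness). -/
theorem quad_normal_group_RF (hp2 : p ≠ 2) {H : Type u} [Group H] [Finite H] (hR : RF p H)
    (V : Subgroup H) (hV : Cfsg.IsElementaryAbelian p V) (hVn : V.Normal) (a : H)
    (hq : ⁅⁅V, Subgroup.zpowers a⁆, Subgroup.zpowers a⁆ = ⊥) :
    ∃ N : Subgroup H, N.Normal ∧ a ∈ N ∧
      ∀ g ∈ N, ∃ k : ℕ, g ^ p ^ k ∈ Subgroup.centralizer (V : Set H) := by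
  have hι : ∀ γ : H, (MonoidHom.id H) γ ∈ Subgroup.normalizer (V : Set H) := by
    intro γ
    rw [Subgroup.normalizer_eq_top]; trivial
  obtain ⟨M, iM, iMod, iFin, e, ρ, he, hρ⟩ := exists_conj_rep V hV (MonoidHom.id H) hι
  have hno : ¬ NatConfig ρ := by
    rintro ⟨g₁, g₂, e₁, f₁, hind, h11, h12, h21, h22⟩
    have hinv2 : ∀ m, ρ g₂⁻¹ (ρ g₂ m) = m := fun m => by
      rw [← Module.End.mul_apply, ← map_mul, inv_mul_cancel, map_one]; rfl
    have h2f : ρ g₂⁻¹ f₁ = f₁ := by
      have := hinv2 f₁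
      rwa [h22] at this
    have h2e : ρ g₂⁻¹ e₁ = e₁ - f₁ := by
      have := hinv2 e₁
      rw [h21, map_add, h2f] at this
      exact eq_sub_of_add_eq this
    obtain ⟨w, hw⟩ : ∃ w : H, w = g₁ * g₂⁻¹ * g₁ := ⟨_, rfl⟩
    have hwe : ρ w e₁ = -f₁ := by
      rw [hw, map_mul, map_mul, Module.End.mul_apply, Module.End.mul_apply, h11, h2e, map_sub, h11,
        h12]
      abel
    have hwf : ρ w f₁ = e₁ := by
      rw [hw, map_mul, map_mul, Module.End.mul_apply, Module.End.mul_apply, h12, map_add, h2f, h2e]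
      have : f₁ + (e₁ - f₁) = e₁ := by abel
      rw [this, h11]
    have hwwe : ρ (w * w) e₁ = -e₁ := by
      rw [map_mul, Module.End.mul_apply, hwe, map_neg, hwf]
    have he1 : e₁ ≠ 0 := by
      intro h0
      have := hind 1 0 (by rw [h0]; simp)
      exact one_ne_zero this.1
    have hx1 : ((e e₁ : V) : H) ≠ 1 := by
      intro h
      apply he1
      apply e.injective
      rw [model_zero he]
      exact Subtype.ext h
    apply hx1
    apply hR ((e e₁ : V) : H) (w * w) ⟨1, by rw [pow_one]; exact hV.2 _ (e e₁).2⟩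
    have h1 := hρ (w * w) e₁
    rw [hwwe] at h1
    simp only [MonoidHom.id_apply] at h1
    rw [← h1]
    have h2 := model_sub he 0 e₁
    rw [zero_sub, model_zero he, one_mul] at h2
    rw [h2]; rfl
  obtain ⟨N, hN, haN, hNp⟩ := quad_normal' (coreHyp_of_dickson (dicksonHyp_of_odd hp2) hp2) ρ a
    (rep_sq_zero he hρ a hq) hno
  refine ⟨N, hN, haN, fun g hg => ?_⟩
  obtain ⟨k, hk⟩ := hNp g hg
  exact ⟨k, rep_pow_mem_centralizer hρ g _ hk⟩

end SHyp

end Cfsg.Agent.H57.RF
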