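import Mathlib
import Cfsg.Agent.H57.RFCore
import Cfsg.Agent.H38.QuadStab

/-!
# Internal `p`-stability from a quotient-closed group-level hypothesis (helper57)

Generic version of helper38's `exists_normal_quad'`, then instantiated for `SHyp` and for
real-free groups; consequences for `Z(J(T))` (helper29's `nZ_normal`).
-/

set_option autoImplicit false
set_option linter.unusedSectionVars false
set_option linter.style.haveILetI false
set_option linter.unusedVariables false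

namespace Cfsg.Agent.H57.RF

open Cfsg Cfsg.Agent.H24.Quad Cfsg.Agent.H38
open scoped commutatorElement

universe u

variable {p : ℕ} [Fact p.Prime]

/-- Generic form of `exists_normal_quad'`. -/
theorem exists_normal_quad_gen (hp2 : p ≠ 2) (C : ∀ (H : Type u) [Group H], Prop)
    (hCq : ∀ (H : Type u) [Group H] [Finite H], C H → ∀ (N : Subgroup H) [N.Normal],
      IsPGroup p N → C (H ⧸ N))
    (hCm : ∀ (H : Type u) [Group H] [Finite H], C H → ∀ (V : Subgroup H),
      Cfsg.IsElementaryAbelian p V → V.Normal → ∀ a : H,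
      ⁅⁅V, Subgroup.zpowers a⁆, Subgroup.zpowers a⁆ = ⊥ →
      ∃ N : Subgroup H, N.Normal ∧ a ∈ N ∧
        ∀ g ∈ N, ∃ k : ℕ, g ^ p ^ k ∈ Subgroup.centralizer (V : Set H))
    {G : Type u} [Group G] [Finite G] (hG : C G) :
    ∀ (n : ℕ) (P : Subgroup G), P.Normal → IsPGroup p P → Nat.card P = n → ∀ a : G,
      ⁅⁅P, Subgroup.zpowers a⁆, Subgroup.zpowers a⁆ = ⊥ →
      ∃ M : Subgroup G, M.Normal ∧ a ∈ M ∧
        ∀ g ∈ M, ∃ k : ℕ, g ^ p ^ k ∈ Subgroup.centralizer (P : Set G) := by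
  intro n
  induction n using Nat.strong_induction_on with
  | _ n ih =>
  intro P hPn hPp hcard a hq
  by_cases hbot : P = ⊥
  · refine ⟨⊤, inferInstance, Subgroup.mem_top _, fun g _ => ⟨0, ?_⟩⟩
    subst hbot
    rw [Subgroup.mem_centralizer_iff]
    intro x hx
    have hx1 : x = 1 := by simpa using hx
    rw [hx1, one_mul, mul_one]
  · have := hPn
    set P1 := (frattini ↥P).map P.subtype with hP1
    have hlt : P1 < P := Cfsg.Agent.H58.frattini_map_lt P hbot
    haveI hP1n : P1.Normal := Cfsg.Agent.H58.frattini_map_normal P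
    have hP1p : IsPGroup p P1 := hPp.to_le hlt.le
    have hq1 : ⁅⁅P1, Subgroup.zpowers a⁆, Subgroup.zpowers a⁆ = ⊥ := by
      rw [eq_bot_iff, ← hq]
      exact Subgroup.commutator_mono (Subgroup.commutator_mono hlt.le le_rfl) le_rfl
    have hcardlt : Nat.card P1 < n := by
      rw [← hcard]
      exact Cfsg.Agent.H29.card_lt_of_lt hlt
    obtain ⟨M2, hM2n, haM2, hM2⟩ := ih (Nat.card P1) hcardlt P1 hP1n hP1p rfl a hq1
    obtain ⟨hcomm, hpow⟩ := Cfsg.Agent.S0012.result (G := ↥P) p hPp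
    have hsurj := QuotientGroup.mk'_surjective P1
    have hea : IsElementaryAbelian p (P.map (QuotientGroup.mk' P1)) := by
      rw [Cfsg.Agent.H13.ea_iff]
      constructor
      · rintro _ ⟨x, hx, rfl⟩ _ ⟨y, hy, rfl⟩
        have h1 : ⁅(⟨x, hx⟩ : P), ⟨y, hy⟩⁆ ∈ commutator P := by
          rw [commutator_def]
          exact Subgroup.commutator_mem_commutator (Subgroup.mem_top _) (Subgroup.mem_top _)
        have h2 : ⁅x, y⁆ ∈ P1 := ⟨_, hcomm h1, rfl⟩
        have h3 : QuotientGroup.mk' P1 ⁅x, y⁆ = 1 := (QuotientGroup.eq_one_iff _).mpr h2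
        rw [commutatorElement_def, map_mul, map_mul, map_mul, map_inv, map_inv,
          mul_inv_eq_one, mul_inv_eq_iff_eq_mul] at h3
        exact h3
      · rintro _ ⟨x, hx, rfl⟩
        have h2 : x ^ p ∈ P1 := ⟨_, hpow ⟨x, hx⟩, rfl⟩
        rw [← map_pow]
        exact (QuotientGroup.eq_one_iff _).mpr h2
    have hqb : ⁅⁅P.map (QuotientGroup.mk' P1), Subgroup.zpowers (QuotientGroup.mk' P1 a)⁆,
        Subgroup.zpowers (QuotientGroup.mk' P1 a)⁆ = ⊥ := by
      rw [← MonoidHom.map_zpowers, ← Subgroup.map_commutator, ← Subgroup.map_commutator, hq,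
        Subgroup.map_bot]
    have hVn : (P.map (QuotientGroup.mk' P1)).Normal := hPn.map _ hsurj
    have hCQ : C (G ⧸ P1) := hCq G hG P1 hP1p
    obtain ⟨N', hN', haN', hNp'⟩ := hCm (G ⧸ P1) hCQ
      (P.map (QuotientGroup.mk' P1)) hea hVn (QuotientGroup.mk' P1 a) hqb
    set N : Subgroup G := N'.comap (QuotientGroup.mk' P1) with hNdef
    have hN : N.Normal := hN'.comap _
    have haN : a ∈ N := haN'
    have hNp : ∀ g ∈ N, ∃ k : ℕ, QuotientGroup.mk' P1 g ^ p ^ k ∈ Subgroup.centralizer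
        ((P.map (QuotientGroup.mk' P1) : Subgroup (G ⧸ P1)) : Set (G ⧸ P1)) :=
      fun g hg => hNp' _ hg
    refine ⟨N ⊓ M2, Subgroup.normal_inf_normal N M2, ⟨haN, haM2⟩, ?_⟩
    rintro g ⟨hgN, hgM⟩
    obtain ⟨k1, hk1⟩ := hNp g hgN
    obtain ⟨k2, hk2⟩ := hM2 g hgM
    obtain ⟨j, hj⟩ := hP1p.exists_card_eq
    set h := g ^ p ^ (k1 + k2) with hh
    have hC1 : h ∈ Subgroup.centralizer (P1 : Set G) := by
      rw [hh, pow_add, mul_comm, pow_mul]
      exact pow_mem hk2 _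
    have hC2 : QuotientGroup.mk' P1 h ∈ Subgroup.centralizer
        ((P.map (QuotientGroup.mk' P1) : Subgroup (G ⧸ P1)) : Set (G ⧸ P1)) := by
      rw [hh, pow_add, pow_mul, map_pow, map_pow]
      exact pow_mem hk1 _
    refine ⟨k1 + k2 + j, ?_⟩
    have hgh : g ^ p ^ (k1 + k2 + j) = h ^ p ^ j := by
      rw [hh, ← pow_mul, ← pow_add]
    rw [hgh, Subgroup.mem_centralizer_iff]
    intro x hx
    have hc : h * x * h⁻¹ * x⁻¹ ∈ P1 := by
      have h1 := Subgroup.mem_centralizer_iff.mp hC2 (QuotientGroup.mk' P1 x) ⟨x, hx, rfl⟩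
      rw [← QuotientGroup.eq_one_iff, ← QuotientGroup.mk'_apply, map_mul, map_mul, map_mul,
        map_inv, map_inv, ← h1]
      group
    have h2 := Cfsg.Agent.H58.conj_pow_of_comm hC1 hc (p ^ j)
    have h3 : (h * x * h⁻¹ * x⁻¹) ^ p ^ j = 1 := by
      have := pow_card_eq_one' (G := ↥P1) (x := ⟨_, hc⟩)
      rw [hj] at this
      exact congrArg Subtype.val this
    rw [h3, one_mul] at h2
    calc x * h ^ p ^ j = (h ^ p ^ j * x * (h ^ p ^ j)⁻¹) * h ^ p ^ j := by rw [h2]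
      _ = h ^ p ^ j * x := by group

/-- Internal `p`-stability from the generic hypothesis. -/
theorem qstab_gen (hp2 : p ≠ 2) (C : ∀ (H : Type u) [Group H], Prop)
    (hCq : ∀ (H : Type u) [Group H] [Finite H], C H → ∀ (N : Subgroup H) [N.Normal],
      IsPGroup p N → C (H ⧸ N))
    (hCm : ∀ (H : Type u) [Group H] [Finite H], C H → ∀ (V : Subgroup H),
      Cfsg.IsElementaryAbelian p V → V.Normal → ∀ a : H,
      ⁅⁅V, Subgroup.zpowers a⁆, Subgroup.zpowers a⁆ = ⊥ →
      ∃ N : Subgroup H, N.Normal ∧ a ∈ N ∧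
        ∀ g ∈ N, ∃ k : ℕ, g ^ p ^ k ∈ Subgroup.centralizer (V : Set H))
    {G : Type u} [Group G] [Finite G] (hG : C G) : Cfsg.Agent.H29.QStab p G := by
  apply Cfsg.Agent.H29.qstab_of_isPStableOn
  intro P _ hP a hq
  obtain ⟨N, hN, haN, hNp⟩ := exists_normal_quad_gen hp2 C hCq hCm hG _ P inferInstance hP rfl a hq
  have hpg : IsPGroup p (N.map (QuotientGroup.mk' (Subgroup.centralizer (P : Set G)))) := by
    rintro ⟨z, g, hg, rfl⟩
    obtain ⟨k, hk⟩ := hNp g hg
    refine ⟨k, Subtype.ext ?_⟩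
    rw [Subgroup.coe_pow, Subgroup.coe_one, ← map_pow]
    exact (QuotientGroup.eq_one_iff _).mpr hk
  have hle : N.map (QuotientGroup.mk' (Subgroup.centralizer (P : Set G))) ≤
      pCore p (G ⧸ Subgroup.centralizer (P : Set G)) :=
    le_sSup ⟨hN.map _ (QuotientGroup.mk'_surjective _), hpg⟩
  exact hle ⟨a, haN, rfl⟩

/-- Groups with `SHyp` are internally `p`-stable. -/
theorem qstab_of_SHyp (hp2 : p ≠ 2) {G : Type u} [Group G] [Finite G] (hS : SHyp p G) :
    Cfsg.Agent.H29.QStab p G :=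
  qstab_gen hp2 (fun H _ => SHyp p H)
    (fun H _ _ hH N _ _ => hH.map (QuotientGroup.mk' N) (QuotientGroup.mk'_surjective N))
    (fun H _ _ hH V hV hVn a hq => quad_normal_group_S hp2 hH V hV hVn a hq) hS

/-- Real-free groups are internally `p`-stable. -/
theorem qstab_of_RF (hp2 : p ≠ 2) {G : Type u} [Group G] [Finite G] (hR : RF p G) :
    Cfsg.Agent.H29.QStab p G :=
  qstab_gen hp2 (fun H _ => RF p H)
    (fun H _ _ hH N _ hN => rf_quotient hp2 hH N hN)
    (fun H _ _ hH V hV hVn a hq => quad_normal_group_RF hp2 hH V hV hVn a hq) hR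

/-- **ZJ-theorem** under `SHyp` and characteristic `p`. -/
theorem nZ_normal_of_SHyp (hp2 : p ≠ 2) {G : Type u} [Group G] [Finite G] (hS : SHyp p G)
    (hc : Subgroup.centralizer (Cfsg.pCore p G : Set G) ≤ Cfsg.pCore p G) (S : Sylow p G) :
    (Cfsg.Agent.H29.nZ 0 (S : Subgroup G)).Normal :=
  Cfsg.Agent.H29.nZ_normal hp2 0 hc (qstab_of_SHyp hp2 hS) S _
    (Cfsg.Agent.H29.isStronglyClosed_self _)

/-- **ZJ-theorem** for real-free groups of characteristic `p`. -/
theorem nZ_normal_of_RF (hp2 : p ≠ 2) {G : Type u} [Group G] [Finite G] (hR : RF p G)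
    (hc : Subgroup.centralizer (Cfsg.pCore p G : Set G) ≤ Cfsg.pCore p G) (S : Sylow p G) :
    (Cfsg.Agent.H29.nZ 0 (S : Subgroup G)).Normal :=
  Cfsg.Agent.H29.nZ_normal hp2 0 hc (qstab_of_RF hp2 hR) S _
    (Cfsg.Agent.H29.isStronglyClosed_self _)

end Cfsg.Agent.H57.RF
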