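import Mathlib
import Cfsg.Agent.H57.RFStab
import Cfsg.Agent.H14.Coprime
import Cfsg.Agent.H14.GReplace
import Cfsg.Agent.H29.ZJ3
import Cfsg.Agent.H29.ZJ2
import Cfsg.Agent.H39.Fusion

/-!
# `N(Z(J(T)))` detects real `p`-elements (helper57)

Main theorem `rf_of_HN`: for `p` odd, if no nontrivial element of a Sylow `p`-subgroup `T` of the
finite group `G` is inverted by an element of `N_G(Z(J(T)))`, then no nontrivial `p`-element of
`G` is conjugate to its inverse.  Proof by minimal counterexample: `O_p(G) ≠ 1`, `G / O_p(G)`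
real-free, `O_{p'}(G) = 1`, `C_G(O_p(G)) ≤ O_p(G)`, `N_G(Z(J(T)))` is the unique maximal subgroup
containing `T` and has odd order; then `RFStab` gives `Z(J(T)) ⊴ G`.
-/

set_option autoImplicit false
set_option linter.unusedSectionVars false
set_option linter.style.haveILetI false
set_option linter.unusedVariables false

namespace Cfsg.Agent.H57.RF

open Cfsg Cfsg.Agent.H29

universe u

variable {p : ℕ} [Fact p.Prime]

section HNdef

variable {G : Type u} [Group G]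

/-- No nontrivial element of `T` is inverted by an element of `N_G(Z(J(T)))`. -/
def HN (T : Subgroup G) : Prop :=
  ∀ x ∈ T, ∀ g ∈ Subgroup.normalizer ((nZ 0 T : Subgroup G) : Set G), g * x * g⁻¹ = x⁻¹ → x = 1

theorem HN.conj {T : Subgroup G} (h : HN T) (c : G) :
    HN (T.map (MulAut.conj c).toMonoidHom) := by
  intro x hx g hg hinv
  obtain ⟨x', hx', rfl⟩ := hx
  rw [← nZ_map (MulAut.conj c) 0 T, ← Subgroup.map_equiv_normalizer_eq] at hg
  obtain ⟨g', hg', rfl⟩ := hg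
  have h1 : g' * x' * g'⁻¹ = x'⁻¹ := by
    apply (MulAut.conj c).injective
    rw [map_mul, map_mul, map_inv, map_inv]
    exact hinv
  rw [h x' hx' g' hg' h1, map_one]

theorem sylow_eq_map_conj {P T : Sylow p G} {c : G} (hc : c • T = P) :
    (P : Subgroup G) = (T : Subgroup G).map (MulAut.conj c).toMonoidHom := by
  rw [← hc, Sylow.coe_subgroup_smul]
  ext x
  rw [Subgroup.mem_pointwise_smul_iff_inv_smul_mem, Subgroup.mem_map]
  have e1 : ∀ z : G, (MulAut.conj c)⁻¹ • z = c⁻¹ * z * c := by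
    intro z
    rw [MulAut.smul_def, ← map_inv, MulAut.conj_apply, inv_inv]
  rw [e1]
  constructor
  · intro hx
    refine ⟨_, hx, ?_⟩
    show c * (c⁻¹ * x * c) * c⁻¹ = x
    group
  · rintro ⟨y, hy, rfl⟩
    have e2 : c⁻¹ * (MulAut.conj c).toMonoidHom y * c = y := by
      show c⁻¹ * (c * y * c⁻¹) * c = y
      group
    rw [e2]; exact hy

theorem hn_sylow [Finite G] {T P : Sylow p G} (h : HN (T : Subgroup G)) : HN (P : Subgroup G) := by
  obtain ⟨c, hc⟩ := MulAction.exists_smul_eq G T P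
  rw [sylow_eq_map_conj hc]
  exact h.conj c

theorem HN.subgroupOf [Finite G] {T H : Subgroup G} (h : HN T) (hTH : T ≤ H) :
    HN (T.subgroupOf H) := by
  intro x hx g hg hinv
  have hmap : (nZ 0 (T.subgroupOf H)).map H.subtype = nZ 0 T := by
    rw [nZ_map_hom H.subtype (fun x _ hx => Subtype.ext hx), Subgroup.map_subgroupOf_eq_of_le hTH]
  have hg' : (g : G) ∈ Subgroup.normalizer ((nZ 0 T : Subgroup G) : Set G) := by
    rw [← hmap]
    exact Subgroup.le_normalizer_map H.subtype ⟨g, hg, rfl⟩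
  have h1 := h (x : G) (Subgroup.mem_subgroupOf.mp hx) (g : G) hg' (by
    have := congrArg Subtype.val hinv
    simpa using this)
  exact Subtype.ext h1

theorem rf_of_normal [Finite G] {T : Sylow p G} (h : HN (T : Subgroup G))
    (hn : Subgroup.normalizer ((nZ 0 (T : Subgroup G) : Subgroup G) : Set G) = ⊤) : RF p G := by
  intro x g ⟨k, hk⟩ hinv
  obtain ⟨P, hP⟩ := (isPGroup_zpowers' hk).exists_le_sylow
  obtain ⟨c, hc⟩ := MulAction.exists_smul_eq G P T
  have hxT : c * x * c⁻¹ ∈ (T : Subgroup G) := by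
    rw [sylow_eq_map_conj hc]
    exact ⟨x, hP (Subgroup.mem_zpowers x), rfl⟩
  have h1 := h _ hxT (c * g * c⁻¹) (by rw [hn]; trivial) (by
    have e : c * g * c⁻¹ * (c * x * c⁻¹) * (c * g * c⁻¹)⁻¹ = c * (g * x * g⁻¹) * c⁻¹ := by group
    rw [e, hinv]; group)
  have : x = c⁻¹ * (c * x * c⁻¹) * c := by group
  rw [this, h1]; group

/-- Conjugating a `p`-subgroup of `P K` (`K` a normal `p'`-subgroup) into `P` by an element of
`K`. -/
theorem exists_conj_mem_of_le_sup [Finite G] (K : Subgroup G) [hKn : K.Normal]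
    (hK : (Nat.card K).Coprime p) {P P' : Subgroup G} (hP : IsPGroup p P) (hP' : IsPGroup p P')
    (hle : P' ≤ P ⊔ K) : ∃ k ∈ K, ∀ y ∈ P', k * y * k⁻¹ ∈ P := by
  obtain ⟨E, hE⟩ : ∃ E : Subgroup G, E = P ⊔ K := ⟨_, rfl⟩
  have hPE : P ≤ E := by rw [hE]; exact le_sup_left
  have hmaxP : ∀ S : Subgroup G, IsPGroup p S → P ≤ S → S ≤ E → S = P := by
    intro S hS hPS hSE
    apply le_antisymm _ hPS
    intro y hy
    have hyE := hSE hy
    rw [hE] at hyE
    obtain ⟨u, hu, k, hk, rfl⟩ := Subgroup.mem_sup_of_normal_right.mp hyE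
    have hkS : k ∈ S := by
      have : k = u⁻¹ * (u * k) := by group
      rw [this]; exact S.mul_mem (S.inv_mem (hPS hu)) hy
    have hk1 : k ∈ S ⊓ K := ⟨hkS, hk⟩
    rw [Cfsg.Agent.H14.pGroup_inf_coprime_eq_bot hS hK, Subgroup.mem_bot] at hk1
    rw [hk1, mul_one]; exact hu
  obtain ⟨SP, hSP⟩ := (hP.comap_subtype (K := E)).exists_le_sylow
  obtain ⟨SP', hSP'⟩ := (hP'.comap_subtype (K := E)).exists_le_sylow
  obtain ⟨e, he⟩ := MulAction.exists_smul_eq ↥E SP' SP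
  have hSPeq : (SP : Subgroup ↥E).map E.subtype = P := by
    apply hmaxP _ (SP.isPGroup'.map _) _ (Subgroup.map_subtype_le _)
    have := Subgroup.map_mono (f := E.subtype) hSP
    rwa [Subgroup.comap_subtype, Subgroup.map_subgroupOf_eq_of_le hPE] at this
  have heE : (e : G) ∈ P ⊔ K := by rw [← hE]; exact e.2
  obtain ⟨u, hu, k, hk, huk⟩ := Subgroup.mem_sup_of_normal_right.mp heE
  refine ⟨k, hk, fun y hy => ?_⟩
  have hyE : y ∈ E := by rw [hE]; exact hle hy
  have h1 : e * ⟨y, hyE⟩ * e⁻¹ ∈ (SP : Subgroup ↥E) := by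
    rw [sylow_eq_map_conj he]
    exact ⟨⟨y, hyE⟩, hSP' (Subgroup.mem_comap.mpr hy), rfl⟩
  have h2 : (e : G) * y * (e : G)⁻¹ ∈ P := by
    rw [← hSPeq]
    exact ⟨_, h1, by simp⟩
  rw [← huk] at h2
  have : k * y * k⁻¹ = u⁻¹ * (u * k * y * (u * k)⁻¹) * u := by group
  rw [this]
  exact P.mul_mem (P.mul_mem (P.inv_mem hu) h2) hu

end HNdef

/-- Minimal counterexample data. -/
structure MinCE (p : ℕ) [Fact p.Prime] (G : Type u) [Group G] [Finite G] : Prop where
  hp2 : p ≠ 2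
  ih : ∀ (G' : Type u) [Group G'] [Finite G'], Nat.card G' < Nat.card G →
    ∀ T' : Sylow p G', HN (T' : Subgroup G') → RF p G'
  hHN : ∀ T : Sylow p G, HN (T : Subgroup G)
  hnrf : ¬ RF p G

namespace MinCE

variable {G : Type u} [Group G] [Finite G]

theorem rfin_of_sylow_le (h : MinCE p G) {H : Subgroup G} (hH : H ≠ ⊤) (P : Sylow p G)
    (hPH : (P : Subgroup G) ≤ H) : RFin p H := by
  have hcard : Nat.card ↥H < Nat.card G :=
    lt_of_le_of_ne (Subgroup.card_le_card_group H) (fun e => hH (Subgroup.eq_top_of_card_eq H e))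
  have h1 : HN ((P.subtype hPH : Sylow p ↥H) : Subgroup ↥H) := by
    rw [Sylow.coe_subtype]
    exact (h.hHN P).subgroupOf hPH
  exact rfin_of_rf (h.ih ↥H hcard (P.subtype hPH) h1)

theorem pCore_ne_bot (h : MinCE p G) : Cfsg.pCore p G ≠ ⊥ := by
  classical
  have hp2 := h.hp2
  have hnrf := h.hnrf
  unfold RF at hnrf
  push Not at hnrf
  obtain ⟨x₀, g₀, ⟨k₀, hk₀⟩, hinv₀, hx₀⟩ := hnrf
  let 𝒳 : Set (Subgroup G) := {H | ¬ RFin p H ∧ ∃ D : Subgroup G, D ≠ ⊥ ∧ IsPGroup p D ∧ D ≤ H ∧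
    H ≤ Subgroup.normalizer (D : Set G)}
  let 𝒴 : Set (Subgroup G) := {S | IsPGroup p S ∧ ∃ H ∈ 𝒳, S ≤ H ∧
    ∀ S' : Subgroup G, IsPGroup p S' → S ≤ S' → S' ≤ H → S' = S}
  have hexmax : ∀ (H S : Subgroup G), IsPGroup p S → S ≤ H → ∃ S₁ : Subgroup G, IsPGroup p S₁ ∧
      S ≤ S₁ ∧ S₁ ≤ H ∧ ∀ S' : Subgroup G, IsPGroup p S' → S₁ ≤ S' → S' ≤ H → S' = S₁ := by
    intro H S hS hSH
    obtain ⟨S₁, ⟨hS₁p, hSS₁, hS₁H⟩, hmax⟩ := Set.exists_max_image
      {S' : Subgroup G | IsPGroup p S' ∧ S ≤ S' ∧ S' ≤ H} (fun S' => Nat.card S')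
      (Set.toFinite _) ⟨S, hS, le_rfl, hSH⟩
    refine ⟨S₁, hS₁p, hSS₁, hS₁H, fun S' hS'p hle hS'H => ?_⟩
    exact (Subgroup.eq_of_le_of_card_ge hle (hmax S' ⟨hS'p, hSS₁.trans hle, hS'H⟩)).symm
  have hH₀ : Subgroup.normalizer ((Subgroup.zpowers x₀ : Subgroup G) : Set G) ∈ 𝒳 := by
    refine ⟨?_, Subgroup.zpowers x₀, ?_, isPGroup_zpowers' hk₀, Subgroup.le_normalizer, le_rfl⟩
    · intro hrf
      apply hx₀
      refine hrf x₀ (Subgroup.le_normalizer (Subgroup.mem_zpowers x₀)) g₀ ?_ ⟨k₀, hk₀⟩ hinv₀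
      apply Cfsg.Agent.H14.mem_normalizer_of_conj_mem
      intro y hy
      obtain ⟨i, rfl⟩ := Subgroup.mem_zpowers_iff.mp hy
      rw [← conj_zpow, hinv₀]
      exact Subgroup.zpow_mem _ (Subgroup.inv_mem _ (Subgroup.mem_zpowers x₀)) i
    · intro hbot
      apply hx₀
      have : x₀ ∈ (⊥ : Subgroup G) := hbot ▸ Subgroup.mem_zpowers x₀
      simpa using this
  have h𝒴ne : 𝒴.Nonempty := by
    obtain ⟨S₁, hS₁p, -, hS₁H, hmax⟩ := hexmax _ ⊥ IsPGroup.of_bot bot_le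
    exact ⟨S₁, hS₁p, _, hH₀, hS₁H, hmax⟩
  obtain ⟨S, ⟨hSp, H, hH𝒳, hSH, hSmax⟩, hScard⟩ := Set.exists_max_image 𝒴
    (fun S' => Nat.card S') (Set.toFinite _) h𝒴ne
  obtain ⟨hHnrf, D, hD0, hDp, hDH, hHD⟩ := hH𝒳
  by_cases hHtop : H = ⊤
  · rw [hHtop] at hHD
    have hDn : D.Normal := Subgroup.normalizer_eq_top_iff.mp (top_le_iff.mp hHD)
    intro hbot
    apply hD0
    have := Cfsg.Agent.H39.le_pCore hDn hDp
    rw [hbot] at this
    exact le_bot_iff.mp this
  · exfalso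
    let S_H : Sylow p ↥H :=
      { toSubgroup := S.subgroupOf H
        isPGroup' := hSp.comap_subtype
        is_maximal' := by
          intro Q hQ hle
          have h1 : Q.map H.subtype = S := by
            apply hSmax _ (hQ.map H.subtype) ?_ (Subgroup.map_subtype_le Q)
            have := Subgroup.map_mono (f := H.subtype) hle
            rwa [Subgroup.map_subgroupOf_eq_of_le hSH] at this
          rw [← h1]
          exact (Subgroup.comap_map_eq_self_of_injective H.subtype_injective Q).symm }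
    have hcard : Nat.card ↥H < Nat.card G :=
      lt_of_le_of_ne (Subgroup.card_le_card_group H)
        (fun e => hHtop (Subgroup.eq_top_of_card_eq H e))
    have hnHN : ¬ HN (S.subgroupOf H) := fun hh => hHnrf (rfin_of_rf (h.ih ↥H hcard S_H hh))
    unfold HN at hnHN
    push Not at hnHN
    obtain ⟨x, hx, g, hg, hinv, hx1⟩ := hnHN
    have hmap : (nZ 0 (S.subgroupOf H)).map H.subtype = nZ 0 S := by
      rw [nZ_map_hom H.subtype (fun x _ hx => Subtype.ext hx),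
        Subgroup.map_subgroupOf_eq_of_le hSH]
    have hxS : (x : G) ∈ S := Subgroup.mem_subgroupOf.mp hx
    have hgN : (g : G) ∈ Subgroup.normalizer ((nZ 0 S : Subgroup G) : Set G) := by
      rw [← hmap]
      exact Subgroup.le_normalizer_map H.subtype ⟨g, hg, rfl⟩
    have hinv' : (g : G) * x * (g : G)⁻¹ = (x : G)⁻¹ := by
      have := congrArg Subtype.val hinv
      simpa using this
    have hx1' : (x : G) ≠ 1 := fun e => hx1 (Subtype.ext e)
    have hS0 : S ≠ ⊥ := by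
      intro e
      rw [e] at hxS
      exact hx1' (by simpa using hxS)
    obtain ⟨H', hH'⟩ : ∃ H' : Subgroup G,
        H' = Subgroup.normalizer ((nZ 0 S : Subgroup G) : Set G) := ⟨_, rfl⟩
    have hSH' : S ≤ H' := by
      rw [hH']
      exact Subgroup.le_normalizer.trans (normalizer_le_normalizer_nZ 0 S)
    have hH'𝒳 : H' ∈ 𝒳 := by
      refine ⟨?_, nZ 0 S, nZ_zero_ne_bot hSp hS0, hSp.to_le (nZ_le 0 S), ?_, ?_⟩
      · intro hrf
        obtain ⟨k, hk⟩ := hSp ⟨x, hxS⟩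
        exact hx1' (hrf x (hSH' hxS) g (hH' ▸ hgN)
          ⟨k, by simpa using congrArg Subtype.val hk⟩ hinv')
      · rw [hH']; exact Subgroup.le_normalizer
      · rw [hH']
    obtain ⟨S₁, hS₁p, hSS₁, hS₁H', hS₁max⟩ := hexmax H' S hSp hSH'
    have hS₁𝒴 : S₁ ∈ 𝒴 := ⟨hS₁p, H', hH'𝒳, hS₁H', hS₁max⟩
    have hS₁S : S₁ = S := (Subgroup.eq_of_le_of_card_ge hSS₁ (hScard S₁ hS₁𝒴)).symm
    obtain ⟨P, hP⟩ := hSp.exists_le_sylow
    have hSP : S = (P : Subgroup G) := by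
      by_contra hne
      have hlt : S < (P : Subgroup G) := lt_of_le_of_ne hP hne
      have h2 := Cfsg.Agent.H39.lt_inf_normalizer P.isPGroup' hlt
      have h3 : (P : Subgroup G) ⊓ Subgroup.normalizer (S : Set G) = S₁ := by
        apply hS₁max _ (P.isPGroup'.to_le inf_le_left) (hS₁S ▸ h2.le)
        rw [hH']
        exact inf_le_right.trans (normalizer_le_normalizer_nZ 0 S)
      rw [hS₁S] at h3
      exact (ne_of_gt h2) h3
    have hxP : (x : G) ∈ (P : Subgroup G) := by rw [← hSP]; exact hxS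
    have hgP : (g : G) ∈ Subgroup.normalizer ((nZ 0 (P : Subgroup G) : Subgroup G) : Set G) := by
      rw [← hSP]; exact hgN
    exact hx1' (h.hHN P (x : G) hxP g hgP hinv')

theorem rf_quot (h : MinCE p G) : RF p (G ⧸ Cfsg.pCore p G) := by
  have hp2 := h.hp2
  have hR0 := h.pCore_ne_bot
  haveI hRn : (Cfsg.pCore p G).Normal := Cfsg.Agent.H39.pCore_normal' p
  have hRp : IsPGroup p (Cfsg.pCore p G) := Cfsg.Agent.H39.pCore_isPGroup p
  obtain ⟨π, hπ⟩ : ∃ π : G →* G ⧸ Cfsg.pCore p G, π = QuotientGroup.mk' (Cfsg.pCore p G) :=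
    ⟨_, rfl⟩
  have hπ1 : ∀ z : G, π z = 1 ↔ z ∈ Cfsg.pCore p G := fun z => by
    rw [hπ]; exact QuotientGroup.eq_one_iff z
  have hπs : Function.Surjective π := by rw [hπ]; exact QuotientGroup.mk'_surjective _
  have hπker : π.ker = Cfsg.pCore p G := by rw [hπ]; exact QuotientGroup.ker_mk' _
  have hcard : Nat.card (G ⧸ Cfsg.pCore p G) < Nat.card G := by
    rw [Subgroup.card_eq_card_quotient_mul_card_subgroup (Cfsg.pCore p G)]
    have h1 : 1 < Nat.card (Cfsg.pCore p G) := by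
      haveI : Nontrivial (Cfsg.pCore p G) := (Subgroup.nontrivial_iff_ne_bot _).mpr hR0
      exact Finite.one_lt_card
    have h2 : 0 < Nat.card (G ⧸ Cfsg.pCore p G) := Nat.card_pos
    nlinarith
  obtain ⟨T⟩ : Nonempty (Sylow p G) := inferInstance
  apply h.ih (G ⧸ Cfsg.pCore p G) hcard (T.mapSurjective hπs)
  rw [Sylow.coe_mapSurjective]
  intro xb hxb gb hgb hinv
  obtain ⟨x, hxT, rfl⟩ := hxb
  obtain ⟨g, rfl⟩ := hπs gb
  obtain ⟨Tb, hTb⟩ : ∃ Tb : Subgroup (G ⧸ Cfsg.pCore p G), Tb = (T : Subgroup G).map π :=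
    ⟨_, rfl⟩
  rw [← hTb] at hgb
  have hTbp : IsPGroup p Tb := by rw [hTb]; exact T.isPGroup'.map _
  obtain ⟨M, hM⟩ : ∃ M : Subgroup G, M = (Subgroup.normalizer
      ((nZ 0 Tb : Subgroup (G ⧸ Cfsg.pCore p G)) : Set (G ⧸ Cfsg.pCore p G))).comap π := ⟨_, rfl⟩
  have hTM : (T : Subgroup G) ≤ M := by
    intro t ht
    rw [hM, Subgroup.mem_comap]
    exact (normalizer_le_normalizer_nZ 0 Tb) (Subgroup.le_normalizer (hTb ▸ ⟨t, ht, rfl⟩))
  by_cases hMtop : M = ⊤
  · have hnorm : Subgroup.normalizer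
        ((nZ 0 Tb : Subgroup (G ⧸ Cfsg.pCore p G)) : Set (G ⧸ Cfsg.pCore p G)) = ⊤ := by
      rw [eq_top_iff]
      intro y _
      obtain ⟨z, rfl⟩ := hπs y
      have : z ∈ M := by rw [hMtop]; trivial
      rw [hM] at this
      exact this
    have hZn : (nZ 0 Tb).Normal := Subgroup.normalizer_eq_top_iff.mp hnorm
    have hDp : IsPGroup p ((nZ 0 Tb).comap π) := by
      apply IsPGroup.comap_of_ker_isPGroup (hTbp.to_le (nZ_le 0 Tb))
      rw [hπker]; exact hRp
    have hDR : (nZ 0 Tb).comap π ≤ Cfsg.pCore p G := Cfsg.Agent.H39.le_pCore (hZn.comap _) hDp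
    have hZbot : nZ 0 Tb = ⊥ := by
      rw [eq_bot_iff]
      intro y hy
      obtain ⟨z, rfl⟩ := hπs y
      rw [Subgroup.mem_bot]
      exact (hπ1 z).mpr (hDR hy)
    have hTb0 : Tb = ⊥ := by
      by_contra hne
      exact nZ_zero_ne_bot hTbp hne hZbot
    have : π x ∈ Tb := by rw [hTb]; exact ⟨x, hxT, rfl⟩
    rw [hTb0] at this
    exact Subgroup.mem_bot.mp this
  · have hMrf : RFin p M := h.rfin_of_sylow_le hMtop T hTM
    have hRM : Cfsg.pCore p G ≤ M := (hRp.le_sylow_of_normal T).trans hTM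
    have hgM : g ∈ M := by rw [hM]; exact hgb
    have hxR : x ∈ Cfsg.pCore p G := by
      obtain ⟨k, hk⟩ := T.isPGroup' ⟨x, hxT⟩
      apply mem_of_inverted_mod hp2 hMrf (Cfsg.pCore p G) hRp hRM (hTM hxT) hgM
      · refine ⟨k, ?_⟩
        have : x ^ p ^ k = 1 := by simpa using congrArg Subtype.val hk
        rw [this]; exact one_mem _
      · rw [← hπ1, map_mul, map_mul, map_mul, map_inv, hinv, inv_mul_cancel]
    exact (hπ1 x).mpr hxR

theorem real_mem_pCore (h : MinCE p G) {x g : G} (hx : ∃ k : ℕ, x ^ p ^ k = 1)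
    (hinv : g * x * g⁻¹ = x⁻¹) : x ∈ Cfsg.pCore p G := by
  haveI : (Cfsg.pCore p G).Normal := Cfsg.Agent.H39.pCore_normal' p
  obtain ⟨k, hk⟩ := hx
  have h1 := h.rf_quot (QuotientGroup.mk' _ x) (QuotientGroup.mk' _ g)
    ⟨k, by rw [← map_pow, hk, map_one]⟩ (by rw [← map_inv, ← map_mul, ← map_mul, hinv, map_inv])
  exact (QuotientGroup.eq_one_iff x).mp h1

theorem coprime_normal_eq_bot (h : MinCE p G) (K : Subgroup G) [hKn : K.Normal]
    (hK : (Nat.card K).Coprime p) : K = ⊥ := by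
  by_contra hK0
  have hp2 := h.hp2
  apply h.hnrf
  obtain ⟨π, hπ⟩ : ∃ π : G →* G ⧸ K, π = QuotientGroup.mk' K := ⟨_, rfl⟩
  have hπ1 : ∀ z : G, π z = 1 ↔ z ∈ K := fun z => by rw [hπ]; exact QuotientGroup.eq_one_iff z
  have hπs : Function.Surjective π := by rw [hπ]; exact QuotientGroup.mk'_surjective _
  have hcard : Nat.card (G ⧸ K) < Nat.card G := by
    rw [Subgroup.card_eq_card_quotient_mul_card_subgroup K]
    have h1 : 1 < Nat.card K := by
      haveI : Nontrivial K := (Subgroup.nontrivial_iff_ne_bot _).mpr hK0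
      exact Finite.one_lt_card
    have h2 : 0 < Nat.card (G ⧸ K) := Nat.card_pos
    nlinarith
  obtain ⟨T⟩ : Nonempty (Sylow p G) := inferInstance
  have hinjT : ∀ P : Subgroup G, IsPGroup p P → ∀ y ∈ P, y ∈ K → y = 1 := by
    intro P hP y hy hyK
    have : y ∈ P ⊓ K := ⟨hy, hyK⟩
    rw [Cfsg.Agent.H14.pGroup_inf_coprime_eq_bot hP hK, Subgroup.mem_bot] at this
    exact this
  have hRFq : RF p (G ⧸ K) := by
    apply h.ih (G ⧸ K) hcard (T.mapSurjective hπs)
    rw [Sylow.coe_mapSurjective]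
    intro xb hxb gb hgb hinv
    obtain ⟨x, hxT, rfl⟩ := hxb
    obtain ⟨g, rfl⟩ := hπs gb
    obtain ⟨Z, hZ⟩ : ∃ Z : Subgroup G, Z = nZ 0 (T : Subgroup G) := ⟨_, rfl⟩
    have hZmap : Z.map π = nZ 0 ((T : Subgroup G).map π) := by
      rw [hZ]
      exact nZ_map_hom π (fun y hy h1 => hinjT _ T.isPGroup' y hy ((hπ1 y).mp h1))
    rw [← hZmap] at hgb
    have hZT : Z ≤ (T : Subgroup G) := by rw [hZ]; exact nZ_le 0 _
    obtain ⟨P, hPdef⟩ : ∃ P : Subgroup G, P = Z ⊔ Subgroup.zpowers x := ⟨_, rfl⟩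
    have hZP : Z ≤ P := by rw [hPdef]; exact le_sup_left
    have hxP : x ∈ P := by rw [hPdef]; exact Subgroup.mem_sup_right (Subgroup.mem_zpowers x)
    have hPT : P ≤ (T : Subgroup G) := by
      rw [hPdef]
      exact sup_le hZT (by rw [Subgroup.zpowers_le]; exact hxT)
    have hPp : IsPGroup p P := T.isPGroup'.to_le hPT
    have hgZ : ∀ z ∈ Z, ∃ z' ∈ Z, z'⁻¹ * (g * z * g⁻¹) ∈ K := by
      intro z hz
      have h1 : π g * π z * (π g)⁻¹ ∈ Z.map π :=
        (Subgroup.mem_normalizer_iff.mp hgb _).mp ⟨z, hz, rfl⟩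
      obtain ⟨z', hz', hzz⟩ := h1
      refine ⟨z', hz', ?_⟩
      rw [← hπ1, map_mul, map_inv, map_mul, map_mul, map_inv, hzz, inv_mul_cancel]
    have hgx : x * (g * x * g⁻¹) ∈ K := by
      rw [← hπ1, map_mul, map_mul, map_mul, map_inv, hinv, mul_inv_cancel]
    have hsub : Z ⊔ Subgroup.zpowers x ≤ (P ⊔ K).comap (MulAut.conj g).toMonoidHom := by
      refine sup_le ?_ ?_
      · intro z hz
        obtain ⟨z', hz', hk⟩ := hgZ z hz
        rw [Subgroup.mem_comap]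
        show g * z * g⁻¹ ∈ _
        have : g * z * g⁻¹ = z' * (z'⁻¹ * (g * z * g⁻¹)) := by group
        rw [this]
        exact Subgroup.mul_mem _ (Subgroup.mem_sup_left (hZP hz')) (Subgroup.mem_sup_right hk)
      · rw [Subgroup.zpowers_le, Subgroup.mem_comap]
        show g * x * g⁻¹ ∈ _
        have : g * x * g⁻¹ = x⁻¹ * (x * (g * x * g⁻¹)) := by group
        rw [this]
        exact Subgroup.mul_mem _ (Subgroup.mem_sup_left (Subgroup.inv_mem _ hxP))
          (Subgroup.mem_sup_right hgx)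
    have hconj : ∀ y ∈ P, g * y * g⁻¹ ∈ P ⊔ K := by
      intro y hy
      rw [hPdef] at hy
      exact hsub hy
    obtain ⟨k, hkK, hk⟩ := exists_conj_mem_of_le_sup K hK hPp
      (P' := P.map (MulAut.conj g).toMonoidHom) (hPp.map _) (by
        rintro _ ⟨y, hy, rfl⟩
        exact hconj y hy)
    have hg'P : ∀ y ∈ P, (k * g) * y * (k * g)⁻¹ ∈ P := by
      intro y hy
      have := hk (g * y * g⁻¹) ⟨y, hy, rfl⟩
      have e : k * g * y * (k * g)⁻¹ = k * (g * y * g⁻¹) * k⁻¹ := by group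
      rw [e]; exact this
    have hg'Z : k * g ∈ Subgroup.normalizer ((Z : Subgroup G) : Set G) := by
      apply Cfsg.Agent.H14.mem_normalizer_of_conj_mem
      intro z hz
      have h1 : (k * g) * z * (k * g)⁻¹ ∈ P := hg'P z (hZP hz)
      obtain ⟨z', hz', hkz⟩ := hgZ z hz
      have h2 : z'⁻¹ * ((k * g) * z * (k * g)⁻¹) ∈ K := by
        have e : z'⁻¹ * ((k * g) * z * (k * g)⁻¹) =
            (z'⁻¹ * k * z'⁻¹⁻¹) * (z'⁻¹ * (g * z * g⁻¹)) * k⁻¹ := by group
        rw [e]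
        exact K.mul_mem (K.mul_mem (hKn.conj_mem k hkK z'⁻¹) hkz) (K.inv_mem hkK)
      have h3 := hinjT P hPp _ (P.mul_mem (P.inv_mem (hZP hz')) h1) h2
      have e2 : (k * g) * z * (k * g)⁻¹ = z' * (z'⁻¹ * ((k * g) * z * (k * g)⁻¹)) := by group
      rw [e2, h3, mul_one]; exact hz'
    have hg'x : (k * g) * x * (k * g)⁻¹ = x⁻¹ := by
      have h1 : (k * g) * x * (k * g)⁻¹ ∈ P := hg'P x hxP
      have h2 : x * ((k * g) * x * (k * g)⁻¹) ∈ K := by
        have e : x * ((k * g) * x * (k * g)⁻¹) = (x * k * x⁻¹) * (x * (g * x * g⁻¹)) * k⁻¹ := by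
          group
        rw [e]
        exact K.mul_mem (K.mul_mem (hKn.conj_mem k hkK x) hgx) (K.inv_mem hkK)
      have h3 := hinjT P hPp _ (P.mul_mem hxP h1) h2
      exact eq_inv_of_mul_eq_one_right h3
    rw [hZ] at hg'Z
    have hx1 := h.hHN T x hxT (k * g) hg'Z hg'x
    rw [hx1, map_one]
  intro x g ⟨k, hk⟩ hinv
  have h1 := hRFq (π x) (π g) ⟨k, by rw [← map_pow, hk, map_one]⟩
    (by rw [← map_inv, ← map_mul, ← map_mul, hinv, map_inv])
  exact hinjT _ (isPGroup_zpowers' hk) x (Subgroup.mem_zpowers x) ((hπ1 x).mp h1)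

end MinCE

end Cfsg.Agent.H57.RF
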