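import Mathlib
import Cfsg.Agent.H57.RFMin

/-!
# `N(Z(J(T)))` detects real `p`-elements: end of the minimal counterexample (helper57)

`MinCE.centralizer_le`, `MinCE.le_normalizer_nZ`, `MinCE.odd_card`, `MinCE.false`, and the main
theorem `rf_of_HN`.
-/

set_option autoImplicit false
set_option linter.unusedSectionVars false
set_option linter.style.haveILetI false
set_option linter.unusedVariables false

namespace Cfsg.Agent.H57.RF

open Cfsg Cfsg.Agent.H29

universe u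

variable {p : ℕ} [Fact p.Prime]

namespace MinCE

variable {G : Type u} [Group G] [Finite G]

theorem centralizer_le (h : MinCE p G) :
    Subgroup.centralizer ((Cfsg.pCore p G : Subgroup G) : Set G) ≤ Cfsg.pCore p G := by
  have hp2 := h.hp2
  haveI hRn : (Cfsg.pCore p G).Normal := Cfsg.Agent.H39.pCore_normal' p
  have hRp : IsPGroup p (Cfsg.pCore p G) := Cfsg.Agent.H39.pCore_isPGroup p
  have hnrf := h.hnrf
  unfold RF at hnrf
  push Not at hnrf
  obtain ⟨x₀, g₀, hk₀, hinv₀, hx₀⟩ := hnrf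
  have hx₀R : x₀ ∈ Cfsg.pCore p G := h.real_mem_pCore hk₀ hinv₀
  obtain ⟨C, hC⟩ : ∃ C : Subgroup G,
      C = Subgroup.centralizer ((Cfsg.pCore p G : Subgroup G) : Set G) := ⟨_, rfl⟩
  haveI hCn : C.Normal := by rw [hC]; infer_instance
  have hCcent : ∀ c ∈ C, ∀ r ∈ Cfsg.pCore p G, r * c = c * r := by
    intro c hc
    rw [hC] at hc
    exact Subgroup.mem_centralizer_iff.mp hc
  rw [← hC]
  obtain ⟨P⟩ : Nonempty (Sylow p ↥C) := inferInstance
  have hfr := Sylow.normalizer_sup_eq_top P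
  obtain ⟨P₁, hP₁⟩ : ∃ P₁ : Subgroup G, P₁ = (P : Subgroup ↥C).map C.subtype := ⟨_, rfl⟩
  rw [← hP₁] at hfr
  have hP₁p : IsPGroup p P₁ := by rw [hP₁]; exact P.isPGroup'.map _
  have hP₁C : P₁ ≤ C := by rw [hP₁]; exact Subgroup.map_subtype_le _
  obtain ⟨T', hT'⟩ := hP₁p.exists_le_sylow
  have hinf : (T' : Subgroup G) ⊓ C = P₁ := by
    apply le_antisymm _ (le_inf hT' hP₁C)
    have h1 : IsPGroup p (((T' : Subgroup G) ⊓ C).subgroupOf C) :=
      (T'.isPGroup'.to_le inf_le_left).comap_subtype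
    have h2 : (P : Subgroup ↥C) ≤ ((T' : Subgroup G) ⊓ C).subgroupOf C := by
      intro y hy
      rw [Subgroup.mem_subgroupOf]
      exact ⟨hT' (by rw [hP₁]; exact ⟨y, hy, rfl⟩), y.2⟩
    have h3 := P.is_maximal' h1 h2
    intro y hy
    rw [hP₁]
    refine ⟨⟨y, hy.2⟩, ?_, rfl⟩
    have : (⟨y, hy.2⟩ : ↥C) ∈ ((T' : Subgroup G) ⊓ C).subgroupOf C :=
      Subgroup.mem_subgroupOf.mpr hy
    rw [h3] at this
    exact this
  have hT'N : (T' : Subgroup G) ≤ Subgroup.normalizer (P₁ : Set G) := by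
    intro t ht
    apply Cfsg.Agent.H14.mem_normalizer_of_conj_mem
    intro y hy
    rw [← hinf] at hy ⊢
    exact ⟨Subgroup.mul_mem _ (Subgroup.mul_mem _ ht hy.1) (Subgroup.inv_mem _ ht),
      hCn.conj_mem y hy.2 t⟩
  have hg₀ : g₀ ∈ Subgroup.normalizer (P₁ : Set G) ⊔ C := by rw [hfr]; trivial
  obtain ⟨n, hn, c, hc, hnc⟩ := Subgroup.mem_sup_of_normal_right.mp hg₀
  have hcx : c * x₀ * c⁻¹ = x₀ := by
    rw [← hCcent c hc x₀ hx₀R, mul_inv_cancel_right]
  have hnx : n * x₀ * n⁻¹ = x₀⁻¹ := by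
    rw [← hinv₀, ← hnc]
    have : n * c * x₀ * (n * c)⁻¹ = n * (c * x₀ * c⁻¹) * n⁻¹ := by group
    rw [this, hcx]
  have hNtop : Subgroup.normalizer (P₁ : Set G) = ⊤ := by
    by_contra hne
    have hrf := h.rfin_of_sylow_le hne T' hT'N
    exact hx₀ (hrf x₀ (hT'N ((hRp.le_sylow_of_normal T') hx₀R)) n hn hk₀ hnx)
  haveI hP₁n : P₁.Normal := Subgroup.normalizer_eq_top_iff.mp hNtop
  have hP₁R : P₁ ≤ Cfsg.pCore p G := Cfsg.Agent.H39.le_pCore hP₁n hP₁p
  have hPcent : ∀ u ∈ (P : Subgroup ↥C), ∀ c : ↥C, c * u = u * c := by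
    intro u hu c
    have huR : (u : G) ∈ Cfsg.pCore p G := hP₁R (by rw [hP₁]; exact ⟨u, hu, rfl⟩)
    apply Subtype.ext
    simpa using (hCcent c c.2 u huR).symm
  have hPN : Subgroup.normalizer ((P : Subgroup ↥C) : Set ↥C) ≤
      Subgroup.centralizer ((P : Subgroup ↥C) : Set ↥C) := by
    intro c _
    rw [Subgroup.mem_centralizer_iff]
    intro u hu
    exact (hPcent u hu c).symm
  obtain ⟨φ, hφ⟩ : ∃ φ : ↥C →* ↥(P : Subgroup ↥C), φ = MonoidHom.transferSylow P hPN := ⟨_, rfl⟩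
  have hcompl : Subgroup.IsComplement' φ.ker (P : Subgroup ↥C) := by
    rw [hφ]; exact MonoidHom.ker_transferSylow_isComplement' P hPN
  have hndvd : ¬ p ∣ Nat.card φ.ker := by
    rw [hφ]; exact MonoidHom.not_dvd_card_ker_transferSylow P hPN
  have hcop : (Nat.card φ.ker).Coprime p :=
    Nat.Coprime.symm ((Fact.out : p.Prime).coprime_iff_not_dvd.mpr hndvd)
  obtain ⟨K, hK⟩ : ∃ K : Subgroup G, K = φ.ker.map C.subtype := ⟨_, rfl⟩
  have hKcard : Nat.card K = Nat.card φ.ker := by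
    rw [hK]; exact Subgroup.card_map_of_injective C.subtype_injective
  have hKmem : ∀ y : G, y ∈ K ↔ y ∈ C ∧ y ^ Nat.card φ.ker = 1 := by
    intro y
    constructor
    · intro hy
      rw [hK] at hy
      obtain ⟨c, hc, rfl⟩ := hy
      refine ⟨c.2, ?_⟩
      have h1 : (⟨c, hc⟩ : φ.ker) ^ Nat.card φ.ker = 1 := pow_card_eq_one'
      have h2 := congrArg (fun z : φ.ker => ((z : ↥C) : G)) h1
      simpa using h2
    · rintro ⟨hyC, hy⟩
      rw [hK]
      refine ⟨⟨y, hyC⟩, ?_, rfl⟩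
      apply MonoidHom.mem_ker.mpr
      have h1 : φ ⟨y, hyC⟩ ^ Nat.card φ.ker = 1 := by
        rw [← map_pow]
        have : (⟨y, hyC⟩ : ↥C) ^ Nat.card φ.ker = 1 := Subtype.ext (by simpa using hy)
        rw [this, map_one]
      obtain ⟨j, hj⟩ := P.isPGroup' (φ ⟨y, hyC⟩)
      have hcop' : Nat.Coprime (Nat.card φ.ker) (p ^ j) := Nat.Coprime.pow_right _ hcop
      have h2 : orderOf (φ ⟨y, hyC⟩) ∣ Nat.gcd (Nat.card φ.ker) (p ^ j) :=
        Nat.dvd_gcd (orderOf_dvd_of_pow_eq_one h1) (orderOf_dvd_of_pow_eq_one hj)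
      rw [Nat.Coprime.gcd_eq_one hcop', Nat.dvd_one] at h2
      exact orderOf_eq_one_iff.mp h2
  haveI hKn : K.Normal := by
    constructor
    intro y hy g
    rw [hKmem] at hy ⊢
    refine ⟨hCn.conj_mem y hy.1 g, ?_⟩
    rw [conj_pow, hy.2]
    group
  have hKcop : (Nat.card K).Coprime p := by rw [hKcard]; exact hcop
  have hK0 : K = ⊥ := h.coprime_normal_eq_bot K hKcop
  have hker : φ.ker = ⊥ := by
    rw [eq_bot_iff]
    intro c hc
    have : (c : G) ∈ K := by rw [hK]; exact ⟨c, hc, rfl⟩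
    rw [hK0, Subgroup.mem_bot] at this
    rw [Subgroup.mem_bot]
    exact Subtype.ext this
  have hPtop : (P : Subgroup ↥C) = ⊤ := by
    have := hcompl.sup_eq_top
    rwa [hker, bot_sup_eq] at this
  intro c hc
  apply hP₁R
  rw [hP₁]
  refine ⟨⟨c, hc⟩, ?_, rfl⟩
  rw [hPtop]; trivial

theorem le_normalizer_nZ (h : MinCE p G) (T : Sylow p G) {H : Subgroup G} (hH : H ≠ ⊤)
    (hTH : (T : Subgroup G) ≤ H) :
    H ≤ Subgroup.normalizer ((nZ 0 (T : Subgroup G) : Subgroup G) : Set G) := by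
  have hp2 := h.hp2
  haveI hRn : (Cfsg.pCore p G).Normal := Cfsg.Agent.H39.pCore_normal' p
  have hRp : IsPGroup p (Cfsg.pCore p G) := Cfsg.Agent.H39.pCore_isPGroup p
  have hrf : RF p ↥H := rf_subtype (h.rfin_of_sylow_le hH T hTH)
  have hRH : Cfsg.pCore p G ≤ H := (hRp.le_sylow_of_normal T).trans hTH
  have h1 : (Cfsg.pCore p G).subgroupOf H ≤ Cfsg.pCore p ↥H :=
    Cfsg.Agent.H39.le_pCore (hRn.subgroupOf H) hRp.comap_subtype
  have hc : Subgroup.centralizer ((Cfsg.pCore p ↥H : Subgroup ↥H) : Set ↥H) ≤ Cfsg.pCore p ↥H := by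
    intro c hcc
    apply h1
    rw [Subgroup.mem_subgroupOf]
    apply h.centralizer_le
    rw [Subgroup.mem_centralizer_iff]
    intro r hr
    have h2 := Subgroup.mem_centralizer_iff.mp hcc ⟨r, hRH hr⟩ (h1 (Subgroup.mem_subgroupOf.mpr hr))
    simpa using congrArg Subtype.val h2
  have hn := nZ_normal_of_RF hp2 hrf hc (T.subtype hTH)
  rw [Sylow.coe_subtype] at hn
  have hmap : (nZ 0 ((T : Subgroup G).subgroupOf H)).map H.subtype = nZ 0 (T : Subgroup G) := by
    rw [nZ_map_hom H.subtype (fun x _ hx => Subtype.ext hx), Subgroup.map_subgroupOf_eq_of_le hTH]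
  intro g hg
  rw [← hmap]
  apply Subgroup.le_normalizer_map H.subtype
  refine ⟨⟨g, hg⟩, ?_, rfl⟩
  rw [Subgroup.normalizer_eq_top_iff.mpr hn]; trivial

theorem odd_card (h : MinCE p G) (T : Sylow p G) {H : Subgroup G} (hH : H ≠ ⊤)
    (hTH : (T : Subgroup G) ≤ H) : Odd (Nat.card H) := by
  by_contra hodd
  rw [Nat.not_odd_iff_even] at hodd
  haveI hRn : (Cfsg.pCore p G).Normal := Cfsg.Agent.H39.pCore_normal' p
  have hRp : IsPGroup p (Cfsg.pCore p G) := Cfsg.Agent.H39.pCore_isPGroup p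
  have hrf := h.rfin_of_sylow_le hH T hTH
  have hRH : Cfsg.pCore p G ≤ H := (hRp.le_sylow_of_normal T).trans hTH
  obtain ⟨u, hu⟩ := exists_prime_orderOf_dvd_card' (G := ↥H) 2 hodd.two_dvd
  have hu2 : orderOf (u : G) = 2 := by rw [Subgroup.orderOf_coe]; exact hu
  have hupow : (u : G) ^ 2 ^ 1 = 1 := by rw [pow_one, ← hu2]; exact pow_orderOf_eq_one _
  have hun : (u : G) ∈ Subgroup.normalizer ((Cfsg.pCore p G : Subgroup G) : Set G) := by
    rw [Subgroup.normalizer_eq_top_iff.mpr hRn]; trivial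
  have hcent := centralizes_of_two_elt hrf hRp hRH 1 (u : G) u.2 hun hupow
  have huC : (u : G) ∈ Subgroup.centralizer ((Cfsg.pCore p G : Subgroup G) : Set G) := by
    rw [Subgroup.mem_centralizer_iff]
    intro r hr
    have h1 := hcent r hr
    calc r * (u : G) = ((u : G) * r * (u : G)⁻¹) * (u : G) := by rw [h1]
      _ = (u : G) * r := by group
  have huR := h.centralizer_le huC
  obtain ⟨k, hk⟩ := hRp ⟨(u : G), huR⟩
  have hk' : (u : G) ^ p ^ k = 1 := by simpa using congrArg Subtype.val hk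
  have hdvd : 2 ∣ p ^ k := by rw [← hu2]; exact orderOf_dvd_of_pow_eq_one hk'
  have h2 := (Nat.prime_dvd_prime_iff_eq Nat.prime_two (Fact.out : p.Prime)).mp
    (Nat.prime_two.dvd_of_dvd_pow hdvd)
  exact h.hp2 h2.symm

theorem false (h : MinCE p G) : False := by
  have hp2 := h.hp2
  obtain ⟨T⟩ : Nonempty (Sylow p G) := inferInstance
  obtain ⟨N, hN⟩ : ∃ N : Subgroup G,
      N = Subgroup.normalizer ((nZ 0 (T : Subgroup G) : Subgroup G) : Set G) := ⟨_, rfl⟩
  have hNtop : N ≠ ⊤ := by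
    intro e
    rw [hN] at e
    exact h.hnrf (rf_of_normal (h.hHN T) e)
  have hTN : (T : Subgroup G) ≤ N := by
    rw [hN]; exact Subgroup.le_normalizer.trans (normalizer_le_normalizer_nZ 0 _)
  have hncl : Subgroup.normalClosure ((T : Subgroup G) : Set G) = ⊤ := by
    by_contra hne
    obtain ⟨K, hK⟩ : ∃ K : Subgroup G, K = Subgroup.normalClosure ((T : Subgroup G) : Set G) :=
      ⟨_, rfl⟩
    rw [← hK] at hne
    have hTK : (T : Subgroup G) ≤ K := by rw [hK]; exact Subgroup.le_normalClosure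
    haveI hKn : K.Normal := by rw [hK]; exact Subgroup.normalClosure_normal
    have hKN : K ≤ N := by rw [hN]; exact h.le_normalizer_nZ T hne hTK
    have hfr := Sylow.normalizer_sup_eq_top' T hTK
    apply hNtop
    rw [eq_top_iff, ← hfr]
    exact sup_le (by rw [hN]; exact normalizer_le_normalizer_nZ 0 _) hKN
  have hS : SHyp p G := by
    refine ⟨T, hncl, N, ?_, fun e => absurd e hNtop, ?_⟩
    · exact h.odd_card T hNtop hTN
    · intro X hTX hX
      rw [hN]; exact h.le_normalizer_nZ T hX hTX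
  have hn := nZ_normal_of_SHyp hp2 hS h.centralizer_le T
  exact hNtop (by rw [hN]; exact Subgroup.normalizer_eq_top_iff.mpr hn)

end MinCE

/-- **Main theorem**: for `p` odd, if no nontrivial element of a Sylow `p`-subgroup `T` is
inverted by an element of `N_G(Z(J(T)))`, then `G` is `p`-real-free. -/
theorem rf_of_HN (hp2 : p ≠ 2) : ∀ (n : ℕ) (G : Type u) [Group G] [Finite G], Nat.card G = n →
    ∀ T : Sylow p G, HN (T : Subgroup G) → RF p G := by
  intro n
  induction n using Nat.strong_induction_on with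
  | _ n ih =>
  intro G _ _ hcard T hT
  by_contra hnrf
  exact MinCE.false ⟨hp2, fun G' _ _ hlt T' hT' => ih (Nat.card G') (hcard ▸ hlt) G' rfl T' hT',
    fun P => hn_sylow hT, hnrf⟩

end Cfsg.Agent.H57.RF
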