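import Mathlib
import Cfsg.Agent.H57.RFMin2
import Cfsg.Agent.H5.BaerSuzuki

/-!
# Real-free for all odd primes iff normal Sylow `2`-subgroup (helper57)

* `rf_quotient_coprime`: `p`-real-freeness passes to quotients by normal `p'`-subgroups.
* `normal_sylow_two_of_rf`: if no nontrivial element of odd prime-power order is conjugate to
  its inverse, the Sylow `2`-subgroup is normal (Baer–Suzuki).
* `rf_of_normal_sylow_two`: the converse.
* `sylow_normal_subgroup`: normal Sylow subgroups pass to subgroups.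
-/

set_option autoImplicit false
set_option linter.unusedSectionVars false
set_option linter.style.haveILetI false
set_option linter.unusedVariables false

namespace Cfsg.Agent.H57.RF

open Cfsg Cfsg.Agent.H29

universe u

theorem rf_quotient_coprime {G : Type u} [Group G] [Finite G] {p : ℕ} [Fact p.Prime]
    (h : RF p G) (K : Subgroup G) [hKn : K.Normal] (hK : (Nat.card K).Coprime p) :
    RF p (G ⧸ K) := by
  intro xb gb ⟨k, hk⟩ hinv
  obtain ⟨x, rfl⟩ := QuotientGroup.mk'_surjective K xb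
  obtain ⟨g, rfl⟩ := QuotientGroup.mk'_surjective K gb
  obtain ⟨π, hπ⟩ : ∃ π : G →* G ⧸ K, π = QuotientGroup.mk' K := ⟨_, rfl⟩
  rw [← hπ] at hk hinv ⊢
  have hπ1 : ∀ z : G, π z = 1 ↔ z ∈ K := fun z => by rw [hπ]; exact QuotientGroup.eq_one_iff z
  obtain ⟨m, hm⟩ : ∃ m : ℕ, m = Nat.card K := ⟨_, rfl⟩
  obtain ⟨y, hy⟩ : ∃ y : G, y = x ^ m := ⟨_, rfl⟩
  have hyp : y ^ p ^ k = 1 := by
    have h1 : x ^ p ^ k ∈ K := by rw [← hπ1, map_pow]; exact hk
    have h2 : (⟨x ^ p ^ k, h1⟩ : K) ^ Nat.card K = 1 := pow_card_eq_one'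
    have h3 : (x ^ p ^ k) ^ Nat.card K = 1 := congrArg Subtype.val h2
    rw [hy, ← pow_mul, mul_comm, pow_mul, hm]
    exact h3
  have hPp : IsPGroup p (Subgroup.zpowers y) := isPGroup_zpowers' hyp
  have hinjP : ∀ z ∈ Subgroup.zpowers y, z ∈ K → z = 1 := by
    intro z hz hzK
    have : z ∈ Subgroup.zpowers y ⊓ K := ⟨hz, hzK⟩
    rw [Cfsg.Agent.H14.pGroup_inf_coprime_eq_bot hPp hK, Subgroup.mem_bot] at this
    exact this
  have hgy : y * (g * y * g⁻¹) ∈ K := by
    have e : π (g * y * g⁻¹) = (π y)⁻¹ := by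
      rw [hy, map_mul, map_mul, map_inv, map_pow, ← conj_pow, hinv, inv_pow]
    rw [← hπ1, map_mul, e, mul_inv_cancel]
  have hle : (Subgroup.zpowers y).map (MulAut.conj g).toMonoidHom ≤ Subgroup.zpowers y ⊔ K := by
    rw [MonoidHom.map_zpowers, Subgroup.zpowers_le]
    show g * y * g⁻¹ ∈ _
    have e : g * y * g⁻¹ = y⁻¹ * (y * (g * y * g⁻¹)) := by group
    rw [e]
    exact Subgroup.mul_mem _
      (Subgroup.mem_sup_left (Subgroup.inv_mem _ (Subgroup.mem_zpowers y)))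
      (Subgroup.mem_sup_right hgy)
  obtain ⟨c, hcK, hc⟩ := exists_conj_mem_of_le_sup K hK hPp (hPp.map _) hle
  have h1 : c * (g * y * g⁻¹) * c⁻¹ ∈ Subgroup.zpowers y :=
    hc _ ⟨y, Subgroup.mem_zpowers y, rfl⟩
  have h2 : y * (c * (g * y * g⁻¹) * c⁻¹) ∈ K := by
    have e : y * (c * (g * y * g⁻¹) * c⁻¹) = (y * c * y⁻¹) * (y * (g * y * g⁻¹)) * c⁻¹ := by
      group
    rw [e]
    exact K.mul_mem (K.mul_mem (hKn.conj_mem c hcK y) hgy) (K.inv_mem hcK)
  have h3 := hinjP _ (Subgroup.mul_mem _ (Subgroup.mem_zpowers y) h1) h2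
  have h4 : (c * g) * y * (c * g)⁻¹ = y⁻¹ := by
    have e : (c * g) * y * (c * g)⁻¹ = c * (g * y * g⁻¹) * c⁻¹ := by group
    rw [e]; exact eq_inv_of_mul_eq_one_right h3
  have hy1 : y = 1 := h y (c * g) ⟨k, hyp⟩ h4
  have h5 : π x ^ m = 1 := by rw [← map_pow, ← hy, hy1, map_one]
  have hcop : Nat.Coprime m (p ^ k) := by rw [hm]; exact Nat.Coprime.pow_right _ hK
  have h6 : orderOf (π x) ∣ Nat.gcd m (p ^ k) :=
    Nat.dvd_gcd (orderOf_dvd_of_pow_eq_one h5) (orderOf_dvd_of_pow_eq_one hk)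
  rw [Nat.Coprime.gcd_eq_one hcop, Nat.dvd_one] at h6
  exact orderOf_eq_one_iff.mp h6

/-- If no nontrivial element of odd prime-power order is conjugate to its inverse, then the
Sylow `2`-subgroups are normal. -/
theorem normal_sylow_two_of_rf {G : Type u} [Group G] [Finite G]
    (h : ∀ (q : ℕ) [Fact q.Prime], q ≠ 2 → RF q G) (P : Sylow 2 G) :
    (P : Subgroup G).Normal := by
  haveI : Fact (Nat.Prime 2) := ⟨Nat.prime_two⟩
  obtain ⟨O, hO⟩ : ∃ O : Subgroup G, O = Cfsg.pCore 2 G := ⟨_, rfl⟩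
  haveI hOn : O.Normal := by rw [hO]; exact Cfsg.Agent.H39.pCore_normal' 2
  have hOp : IsPGroup 2 O := by rw [hO]; exact Cfsg.Agent.H39.pCore_isPGroup 2
  have hOle : ∀ M : Subgroup G, M.Normal → IsPGroup 2 M → M ≤ O := by
    intro M hMn hMp
    rw [hO]; exact Cfsg.Agent.H39.le_pCore hMn hMp
  obtain ⟨π, hπ⟩ : ∃ π : G →* G ⧸ O, π = QuotientGroup.mk' O := ⟨_, rfl⟩
  have hπ1 : ∀ z : G, π z = 1 ↔ z ∈ O := fun z => by rw [hπ]; exact QuotientGroup.eq_one_iff z
  have hπs : Function.Surjective π := by rw [hπ]; exact QuotientGroup.mk'_surjective _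
  have hπker : π.ker = O := by rw [hπ]; exact QuotientGroup.ker_mk' _
  have hrfq : ∀ (q : ℕ) [Fact q.Prime], q ≠ 2 → RF q (G ⧸ O) := by
    intro q hq hq2
    apply rf_quotient_coprime (h q hq2) O
    obtain ⟨a, ha⟩ := hOp.exists_card_eq
    rw [ha]
    apply Nat.Coprime.pow_left
    rw [Nat.coprime_primes Nat.prime_two hq.out]
    exact fun e => hq2 e.symm
  have hodd : Odd (Nat.card (G ⧸ O)) := by
    by_contra hev
    rw [Nat.not_odd_iff_even] at hev
    obtain ⟨t, ht⟩ := exists_prime_orderOf_dvd_card' (G := G ⧸ O) 2 hev.two_dvd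
    have ht2 : t * t = 1 := by rw [← pow_two, ← ht]; exact pow_orderOf_eq_one t
    have htinv : t⁻¹ = t := inv_eq_of_mul_eq_one_left ht2
    have ht1 : t ≠ 1 := by
      intro e
      rw [e, orderOf_one] at ht
      exact absurd ht (by norm_num)
    have hXp : IsPGroup 2 (Subgroup.zpowers t) :=
      isPGroup_zpowers' (p := 2) (k := 1) (by rw [pow_one, pow_two]; exact ht2)
    have hBS : ∀ g : G ⧸ O, IsPGroup 2
        ↥(Subgroup.zpowers t ⊔ (Subgroup.zpowers t).map (MulAut.conj g).toMonoidHom) := by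
      intro g
      obtain ⟨s, hs⟩ : ∃ s, s = g * t * g⁻¹ := ⟨_, rfl⟩
      have hs2 : s * s = 1 := by
        rw [hs]
        have : g * t * g⁻¹ * (g * t * g⁻¹) = g * (t * t) * g⁻¹ := by group
        rw [this, ht2]; group
      have hsinv : s⁻¹ = s := inv_eq_of_mul_eq_one_left hs2
      obtain ⟨w, hw⟩ : ∃ w, w = t * s := ⟨_, rfl⟩
      have htw : t * w * t⁻¹ = w⁻¹ := by
        rw [hw, htinv, mul_inv_rev, hsinv, htinv, ← mul_assoc, ht2, one_mul]
      have hwp : ∃ k : ℕ, w ^ 2 ^ k = 1 := by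
        obtain ⟨e, m, hm, hwm⟩ := Nat.exists_eq_two_pow_mul_odd (orderOf_pos w).ne'
        refine ⟨e, ?_⟩
        by_contra hne
        obtain ⟨v, hv⟩ : ∃ v, v = w ^ 2 ^ e := ⟨_, rfl⟩
        rw [← hv] at hne
        have hvm : v ^ m = 1 := by rw [hv, ← pow_mul, ← hwm]; exact pow_orderOf_eq_one w
        have hov : orderOf v ≠ 1 := fun e1 => hne (orderOf_eq_one_iff.mp e1)
        obtain ⟨q, hq, hqv⟩ := Nat.exists_prime_and_dvd hov
        haveI : Fact q.Prime := ⟨hq⟩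
        have hqm : q ∣ m := hqv.trans (orderOf_dvd_of_pow_eq_one hvm)
        have hq2 : q ≠ 2 := by
          rintro rfl
          exact (Nat.not_even_iff_odd.mpr hm) (even_iff_two_dvd.mpr hqm)
        obtain ⟨d, hd⟩ := hqv
        have hz : (v ^ d) ^ q ^ 1 = 1 := by
          rw [pow_one, ← pow_mul, mul_comm, ← hd]; exact pow_orderOf_eq_one v
        have hz1 : v ^ d ≠ 1 := by
          intro e1
          have h1 := orderOf_dvd_of_pow_eq_one e1
          have hdpos : 0 < d := by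
            rcases Nat.eq_zero_or_pos d with h0 | h0
            · rw [h0, mul_zero] at hd; exact absurd hd (orderOf_pos v).ne'
            · exact h0
          have h2 := Nat.le_of_dvd hdpos h1
          rw [hd] at h2
          have h3 := hq.two_le
          nlinarith
        have hzinv : t * v ^ d * t⁻¹ = (v ^ d)⁻¹ := by
          rw [hv, ← pow_mul, ← conj_pow, htw, inv_pow]
        exact hz1 (hrfq q hq2 (v ^ d) t ⟨1, hz⟩ hzinv)
      obtain ⟨k, hk⟩ := hwp
      have hWp : IsPGroup 2 (Subgroup.zpowers w) := isPGroup_zpowers' hk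
      have hnorm : Subgroup.zpowers t ≤ Subgroup.normalizer
          ((Subgroup.zpowers w : Subgroup (G ⧸ O)) : Set (G ⧸ O)) := by
        rw [Subgroup.zpowers_le]
        apply Cfsg.Agent.H14.mem_normalizer_of_conj_mem
        intro y hy
        obtain ⟨i, rfl⟩ := Subgroup.mem_zpowers_iff.mp hy
        rw [← conj_zpow, htw]
        exact Subgroup.zpow_mem _ (Subgroup.inv_mem _ (Subgroup.mem_zpowers w)) i
      have hD : IsPGroup 2 ↥(Subgroup.zpowers t ⊔ Subgroup.zpowers w) :=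
        IsPGroup.to_sup_of_normal_right' hXp hWp hnorm
      apply hD.to_le
      refine sup_le le_sup_left ?_
      rw [MonoidHom.map_zpowers, Subgroup.zpowers_le]
      show g * t * g⁻¹ ∈ _
      rw [← hs]
      have e1 : s = t⁻¹ * w := by rw [hw]; group
      rw [e1]
      exact Subgroup.mul_mem _
        (Subgroup.mem_sup_left (Subgroup.inv_mem _ (Subgroup.mem_zpowers t)))
        (Subgroup.mem_sup_right (Subgroup.mem_zpowers w))
    obtain ⟨N, hNn, hNp, hXN⟩ := Cfsg.Agent.H5.baer_suzuki (Subgroup.zpowers t) hXp hBS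
    have h1 : N.comap π ≤ O := by
      apply hOle _ (hNn.comap π)
      apply IsPGroup.comap_of_ker_isPGroup hNp
      rw [hπker]; exact hOp
    obtain ⟨t', rfl⟩ := hπs t
    exact ht1 ((hπ1 t').mpr (h1 (Subgroup.mem_comap.mpr (hXN (Subgroup.mem_zpowers _)))))
  have hPO : (P : Subgroup G) ≤ O := by
    intro y hy
    rw [← hπ1]
    obtain ⟨k, hk⟩ := P.isPGroup' ⟨y, hy⟩
    have hk' : y ^ 2 ^ k = 1 := by simpa using congrArg Subtype.val hk
    have h1 : orderOf (π y) ∣ 2 ^ k :=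
      orderOf_dvd_of_pow_eq_one (by rw [← map_pow, hk', map_one])
    have h2 : orderOf (π y) ∣ Nat.card (G ⧸ O) := orderOf_dvd_natCard _
    have hcop : Nat.Coprime (2 ^ k) (Nat.card (G ⧸ O)) :=
      Nat.Coprime.pow_left _ (Nat.coprime_two_left.mpr hodd)
    have h3 := Nat.dvd_gcd h1 h2
    rw [Nat.Coprime.gcd_eq_one hcop, Nat.dvd_one] at h3
    exact orderOf_eq_one_iff.mp h3
  have hOP : O ≤ (P : Subgroup G) := hOp.le_sylow_of_normal P
  have hPeq : (P : Subgroup G) = O := le_antisymm hPO hOP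
  rw [hPeq]; exact hOn

/-- Normal Sylow `2`-subgroup implies real-free for odd primes. -/
theorem rf_of_normal_sylow_two {G : Type u} [Group G] [Finite G]
    (h : ∀ P : Sylow 2 G, (P : Subgroup G).Normal) {q : ℕ} [Fact q.Prime] (hq2 : q ≠ 2) :
    RF q G := by
  intro x g ⟨k, hk⟩ hinv
  obtain ⟨e, m, hm, hgm⟩ := Nat.exists_eq_two_pow_mul_odd (orderOf_pos g).ne'
  obtain ⟨u, hu⟩ : ∃ u : G, u = g ^ m := ⟨_, rfl⟩
  have hu2 : u ^ 2 ^ e = 1 := by rw [hu, ← pow_mul, mul_comm, ← hgm, pow_orderOf_eq_one]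
  have hux : u * x * u⁻¹ = x⁻¹ := by rw [hu]; exact conj_pow_odd_inv hinv hm
  obtain ⟨Q, hQ⟩ := (isPGroup_zpowers' hu2).exists_le_sylow
  have hQn := h Q
  have huQ : u ∈ (Q : Subgroup G) := hQ (Subgroup.mem_zpowers u)
  have h1 : x⁻¹ * x⁻¹ ∈ (Q : Subgroup G) := by
    have e1 : x⁻¹ * x⁻¹ = u * (x * u⁻¹ * x⁻¹) := by
      have : u * (x * u⁻¹ * x⁻¹) = (u * x * u⁻¹) * x⁻¹ := by group
      rw [this, hux]
    rw [e1]
    exact Subgroup.mul_mem _ huQ (hQn.conj_mem _ (Subgroup.inv_mem _ huQ) x)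
  obtain ⟨j, hj⟩ := Q.isPGroup' ⟨_, h1⟩
  have hj' : (x⁻¹ * x⁻¹) ^ 2 ^ j = 1 := by simpa using congrArg Subtype.val hj
  have h2 : x ^ 2 ^ (j + 1) = 1 := by
    have e2 : x⁻¹ * x⁻¹ = (x ^ 2)⁻¹ := by rw [pow_two, mul_inv_rev]
    rw [e2, inv_pow, inv_eq_one, ← pow_mul] at hj'
    rw [pow_succ']; exact hj'
  have hcop : Nat.Coprime (2 ^ (j + 1)) (q ^ k) := by
    apply Nat.Coprime.pow
    rw [Nat.coprime_primes Nat.prime_two (Fact.out : q.Prime)]
    exact fun e => hq2 e.symm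
  have h3 := Nat.dvd_gcd (orderOf_dvd_of_pow_eq_one h2) (orderOf_dvd_of_pow_eq_one hk)
  rw [Nat.Coprime.gcd_eq_one hcop, Nat.dvd_one] at h3
  exact orderOf_eq_one_iff.mp h3

/-- Normal Sylow subgroups pass to subgroups. -/
theorem sylow_normal_subgroup {G : Type u} [Group G] [Finite G] {p : ℕ}
    (h : ∀ P : Sylow p G, (P : Subgroup G).Normal) (H : Subgroup G) (P : Sylow p ↥H) :
    (P : Subgroup ↥H).Normal := by
  obtain ⟨Q, hQ⟩ := (P.isPGroup'.map H.subtype).exists_le_sylow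
  have hQn := h Q
  have h1 : IsPGroup p ((Q : Subgroup G).subgroupOf H) := Q.isPGroup'.comap_subtype
  have h2 : (P : Subgroup ↥H) ≤ (Q : Subgroup G).subgroupOf H := by
    intro y hy
    rw [Subgroup.mem_subgroupOf]
    exact hQ ⟨y, hy, rfl⟩
  have h3 := P.is_maximal' h1 h2
  rw [← h3]
  exact hQn.subgroupOf H

end Cfsg.Agent.H57.RF
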