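import Mathlib
import Cfsg.Prelude.Def_LocalEven
import Cfsg.Prelude.Def_FusionSystem
import Cfsg.Agent.H57.QSLOdd
import Cfsg.Agent.H29.ZJCtl
import Cfsg.Agent.H29.ZJ3
import Cfsg.Agent.H88.Constrained
import Cfsg.Agent.H86.FusGroup

/-!
# The fusion system of a normalizer-`p`-stable group is constrained, `p` odd (helper57)

Let `Q = O_p(F)` for `F = F_P(G)`, `C = C_G(Q)`, `D = C_P(Q)`, `Z = Z(Q)`. The group `C / Z` is
again normalizer-`p`-stable (`stable_quotient_odd`), so `N(Z(J(D/Z)))` controls strong fusion in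
`D / Z`; the preimage `U` of `Z(J(D/Z))` is then strongly closed, and `U Q` is normal in `F` by
helper88's criterion. Maximality of `Q` forces `D ≤ Q`.
-/

set_option autoImplicit false

namespace Cfsg.Agent.H57.QSL

universe u

open scoped commutatorElement
open Cfsg

section closedSub

/-- Conjugation by an element of `N(Q)` preserves `C(Q)`. -/
theorem conj_mem_centralizer_of_mem_normalizer {Ω : Type u} [Group Ω] {Q : Subgroup Ω} {x c : Ω}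
    (hx : x ∈ Subgroup.normalizer (Q : Set Ω)) (hc : c ∈ Subgroup.centralizer (Q : Set Ω)) :
    x * c * x⁻¹ ∈ Subgroup.centralizer (Q : Set Ω) := by
  rw [Subgroup.mem_centralizer_iff]
  intro q hq
  have hq' : x⁻¹ * q * x ∈ Q := by
    have := (Subgroup.mem_normalizer_iff.mp (inv_mem hx) q).mp hq
    simpa using this
  have h1 := Subgroup.mem_centralizer_iff.mp hc _ hq'
  calc q * (x * c * x⁻¹) = x * ((x⁻¹ * q * x) * c) * x⁻¹ := by group
    _ = x * (c * (x⁻¹ * q * x)) * x⁻¹ := by rw [h1]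
    _ = x * c * x⁻¹ * q := by group

variable {Ω : Type u} [Group Ω] [Finite Ω] {p : ℕ} [Fact p.Prime]

set_option maxHeartbeats 1600000 in
/-- If `Q ≤ P` is strongly closed and `C_P(Q) ≰ Q` in a normalizer-`p`-stable group, there is a
subgroup `U ≤ C_P(Q)`, not in `Q`, abelian modulo `Q`, closed under fusion by `N(Q)`. -/
theorem exists_closed_sub (hp2 : p ≠ 2) (hst : IsNormalizerPStable p Ω) (P : Sylow p Ω)
    (Q : Subgroup Ω) (hQP : Q ≤ (P : Subgroup Ω))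
    (hsc : ∀ q ∈ Q, ∀ g : Ω, g * q * g⁻¹ ∈ (P : Subgroup Ω) → g * q * g⁻¹ ∈ Q)
    (hD : ¬ ((P : Subgroup Ω) ⊓ Subgroup.centralizer (Q : Set Ω) ≤ Q)) :
    ∃ U : Subgroup Ω, U ≤ (P : Subgroup Ω) ⊓ Subgroup.centralizer (Q : Set Ω) ∧
      (∀ u ∈ U, ∀ v ∈ U, ⁅u, v⁆ ∈ Q) ∧ ¬ U ≤ Q ∧
      ∀ x ∈ Subgroup.normalizer (Q : Set Ω), ∀ u ∈ U,
        x * u * x⁻¹ ∈ (P : Subgroup Ω) → x * u * x⁻¹ ∈ U := by
  have hPp : IsPGroup p (P : Subgroup Ω) := P.isPGroup'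
  obtain ⟨C, hC⟩ : ∃ C : Subgroup Ω, C = Subgroup.centralizer (Q : Set Ω) := ⟨_, rfl⟩
  rw [← hC] at hD ⊢
  have hCmem : ∀ c : Ω, c ∈ C ↔ ∀ q ∈ Q, q * c = c * q := by
    intro c; rw [hC, Subgroup.mem_centralizer_iff]; exact Iff.rfl
  have hnC : ∀ x ∈ Subgroup.normalizer (Q : Set Ω), ∀ c ∈ C, x * c * x⁻¹ ∈ C := by
    intro x hx c hc
    rw [hC] at hc ⊢
    exact conj_mem_centralizer_of_mem_normalizer hx hc
  have hCN : C ≤ Subgroup.normalizer (Q : Set Ω) := by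
    rw [hC]; exact Subgroup.centralizer_le_normalizer _
  obtain ⟨D, hDdef⟩ : ∃ D : Subgroup Ω, D = (P : Subgroup Ω) ⊓ C := ⟨_, rfl⟩
  rw [← hDdef] at hD ⊢
  have hDP : D ≤ (P : Subgroup Ω) := by rw [hDdef]; exact inf_le_left
  have hDC : D ≤ C := by rw [hDdef]; exact inf_le_right
  have hDmem : ∀ d, d ∈ D ↔ d ∈ (P : Subgroup Ω) ∧ d ∈ C := by
    intro d; rw [hDdef, Subgroup.mem_inf]
  -- the central subgroup `Z = Q ∩ C` of `C`
  obtain ⟨Zc, hZc⟩ : ∃ Zc : Subgroup ↥C, Zc = (Q ⊓ C).subgroupOf C := ⟨_, rfl⟩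
  have hZcmem : ∀ c : ↥C, c ∈ Zc ↔ (c : Ω) ∈ Q := by
    intro c
    rw [hZc, Subgroup.mem_subgroupOf, Subgroup.mem_inf]
    exact ⟨fun h => h.1, fun h => ⟨h, c.2⟩⟩
  have hZcentral : ∀ z ∈ Zc, ∀ c : ↥C, c * z = z * c := by
    intro z hz c
    apply Subtype.ext
    exact ((hCmem c).mp c.2 z ((hZcmem z).mp hz)).symm
  have hZn : Zc.Normal := ⟨fun z hz c => by
    have e : c * z * c⁻¹ = z := by rw [hZcentral z hz c]; group
    rw [e]; exact hz⟩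
  have hZp : IsPGroup p Zc := by
    rw [hZc]
    exact (hPp.to_le (inf_le_left.trans hQP)).comap_subtype
  have hstC : IsNormalizerPStable p ↥C := Cfsg.Agent.S3836.result hst C
  have hstCb : IsNormalizerPStable p (↥C ⧸ Zc) := by
    refine stable_quotient_odd hp2 hstC Zc hZp ?_
    intro g
    refine ⟨0, ?_⟩
    rw [pow_zero, pow_one, Subgroup.mem_centralizer_iff]
    intro z hz
    exact (hZcentral z hz g).symm
  -- `D` is a Sylow subgroup of `C`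
  have hDp : IsPGroup p (D.subgroupOf C) := (hPp.to_le hDP).comap_subtype
  obtain ⟨T, hT⟩ := hDp.exists_le_sylow
  have hTeq : (T : Subgroup ↥C) = D.subgroupOf C := by
    symm
    apply Subgroup.eq_of_le_of_card_ge hT
    obtain ⟨D', hD'⟩ : ∃ D' : Subgroup Ω, D' = (T : Subgroup ↥C).map C.subtype := ⟨_, rfl⟩
    have hD'C : D' ≤ C := by
      rw [hD']; rintro _ ⟨t, -, rfl⟩; exact t.2
    have hD'p : IsPGroup p D' := by rw [hD']; exact T.isPGroup'.map _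
    have hsup : IsPGroup p (D' ⊔ Q : Subgroup Ω) :=
      IsPGroup.to_sup_of_normal_right' hD'p (hPp.to_le hQP) (hD'C.trans hCN)
    obtain ⟨R, hR⟩ := hsup.exists_le_sylow
    obtain ⟨g, hg⟩ := MulAction.exists_smul_eq Ω R P
    have hgP : ∀ y ∈ D' ⊔ Q, g * y * g⁻¹ ∈ (P : Subgroup Ω) := by
      intro y hy
      have h0 : g * y * g⁻¹ ∈ ((g • R : Sylow p Ω) : Subgroup Ω) := by
        rw [Sylow.coe_subgroup_smul]
        exact Subgroup.smul_mem_pointwise_smul y (MulAut.conj g) (R : Subgroup Ω) (hR hy)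
      rwa [hg] at h0
    have hgN : g ∈ Subgroup.normalizer (Q : Set Ω) :=
      Cfsg.Agent.H14.mem_normalizer_of_conj_mem Q g
        (fun q hq => hsc q hq g (hgP q (le_sup_right (a := D') hq)))
    have hmap : D'.map (MulAut.conj g).toMonoidHom ≤ D := by
      rintro _ ⟨d, hd, rfl⟩
      rw [hDmem]
      exact ⟨hgP d (le_sup_left (b := Q) hd), hnC g hgN d (hD'C hd)⟩
    have h1 : Nat.card D' ≤ Nat.card D := by
      rw [← Subgroup.card_map_of_injective (K := D') (f := (MulAut.conj g).toMonoidHom)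
        (MulAut.conj g).injective]
      exact Subgroup.card_le_of_le hmap
    have h2 : Nat.card (T : Subgroup ↥C) = Nat.card D' := by
      rw [hD']; exact (Subgroup.card_subtype C (T : Subgroup ↥C)).symm
    have h3 : Nat.card (D.subgroupOf C) = Nat.card D :=
      Nat.card_congr (Subgroup.subgroupOfEquivOfLe hDC).toEquiv
    rw [h2, h3]; exact h1
  obtain ⟨Tb, hTb⟩ : ∃ Tb : Sylow p (↥C ⧸ Zc),
      (Tb : Subgroup (↥C ⧸ Zc)) = (D.subgroupOf C).map (QuotientGroup.mk' Zc) :=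
    ⟨T.mapSurjective (QuotientGroup.mk'_surjective Zc), by
      rw [Sylow.coe_mapSurjective, hTeq]⟩
  have hfsf := fsf_of_stable_odd hp2 _ (↥C ⧸ Zc) rfl hstCb Tb
  obtain ⟨Ub, hUb⟩ : ∃ Ub : Subgroup (↥C ⧸ Zc),
      Ub = Cfsg.Agent.H29.nZ 0 (Tb : Subgroup (↥C ⧸ Zc)) := ⟨_, rfl⟩
  have hUbT : Ub ≤ (Tb : Subgroup (↥C ⧸ Zc)) := by
    rw [hUb]; exact Cfsg.Agent.H29.nZ_le 0 _
  -- strong closure in the quotient
  have hclb : ∀ ub ∈ Ub, ∀ cb : ↥C ⧸ Zc, cb * ub * cb⁻¹ ∈ (Tb : Subgroup (↥C ⧸ Zc)) →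
      cb * ub * cb⁻¹ ∈ Ub := by
    intro ub hub cb hcb
    obtain ⟨x, hx, hxa⟩ := Cfsg.Agent.H29.ZC.ctl_of_fsf hfsf ({ub} : Set (↥C ⧸ Zc))
      (by intro y hy; rw [Set.mem_singleton_iff.mp hy]; exact hUbT hub) cb
      (by rintro _ ⟨y, hy, rfl⟩; rw [Set.mem_singleton_iff.mp hy]; exact hcb)
    rw [Cfsg.Agent.H29.ZC.induced_WJo, ← hUb] at hx
    rw [← hxa ub rfl]
    exact (Subgroup.mem_normalizer_iff.mp hx ub).mp hub
  obtain ⟨Uc, hUc⟩ : ∃ Uc : Subgroup ↥C, Uc = Ub.comap (QuotientGroup.mk' Zc) := ⟨_, rfl⟩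
  have hUcmem : ∀ c : ↥C, c ∈ Uc ↔ (QuotientGroup.mk' Zc c) ∈ Ub := by
    intro c; rw [hUc, Subgroup.mem_comap]
  have hTbmem : ∀ c : ↥C, QuotientGroup.mk' Zc c ∈ (Tb : Subgroup (↥C ⧸ Zc)) ↔ (c : Ω) ∈ D := by
    intro c
    rw [hTb]
    constructor
    · rintro ⟨t, ht, hte⟩
      have h1 : t⁻¹ * c ∈ Zc := QuotientGroup.eq.mp hte
      have h2 : ((t⁻¹ * c : ↥C) : Ω) ∈ Q := (hZcmem _).mp h1
      have h3 : ((t⁻¹ * c : ↥C) : Ω) ∈ D := (hDmem _).mpr ⟨hQP h2, (t⁻¹ * c).2⟩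
      have h4 : (t : Ω) ∈ D := Subgroup.mem_subgroupOf.mp ht
      have e : (c : Ω) = (t : Ω) * ((t⁻¹ * c : ↥C) : Ω) := by
        show (c : Ω) = (t : Ω) * ((t : Ω)⁻¹ * (c : Ω))
        group
      rw [e]; exact mul_mem h4 h3
    · intro hc
      exact ⟨c, Subgroup.mem_subgroupOf.mpr hc, rfl⟩
  obtain ⟨U, hU⟩ : ∃ U : Subgroup Ω, U = Uc.map C.subtype := ⟨_, rfl⟩
  have hUmem : ∀ u : Ω, u ∈ U ↔ ∃ hu : u ∈ C, (⟨u, hu⟩ : ↥C) ∈ Uc := by
    intro u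
    rw [hU]
    constructor
    · rintro ⟨c, hc, rfl⟩; exact ⟨c.2, hc⟩
    · rintro ⟨hu, h⟩; exact ⟨⟨u, hu⟩, h, rfl⟩
  have hUD : U ≤ D := by
    intro u hu
    obtain ⟨huC, h⟩ := (hUmem u).mp hu
    exact (hTbmem ⟨u, huC⟩).mp (hUbT ((hUcmem _).mp h))
  have hUU : ∀ u ∈ U, ∀ v ∈ U, ⁅u, v⁆ ∈ Q := by
    intro u hu v hv
    obtain ⟨huC, hu'⟩ := (hUmem u).mp hu
    obtain ⟨hvC, hv'⟩ := (hUmem v).mp hv
    have h1 := (hUcmem _).mp hu'
    have h2 := (hUcmem _).mp hv'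
    rw [hUb] at h1 h2
    have hcomm : QuotientGroup.mk' Zc ⟨u, huC⟩ * QuotientGroup.mk' Zc ⟨v, hvC⟩ =
        QuotientGroup.mk' Zc ⟨v, hvC⟩ * QuotientGroup.mk' Zc ⟨u, huC⟩ := by
      have hz := Cfsg.Agent.H29.nZ_le_centralizer_nJ 0 _ h1
      have hj := Cfsg.Agent.H29.nZ_le_nJ 0 _ h2
      exact (Subgroup.mem_centralizer_iff.mp hz _ hj).symm
    have h3 : (⁅(⟨u, huC⟩ : ↥C), ⟨v, hvC⟩⁆ : ↥C) ∈ Zc := by
      rw [← QuotientGroup.eq_one_iff]
      show QuotientGroup.mk' Zc ⁅(⟨u, huC⟩ : ↥C), ⟨v, hvC⟩⁆ = 1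
      rw [map_commutatorElement, commutatorElement_def, hcomm]
      group
    exact (hZcmem _).mp h3
  have hUQ : ¬ U ≤ Q := by
    intro hle
    have hTb0 : (Tb : Subgroup (↥C ⧸ Zc)) ≠ ⊥ := by
      intro h0
      apply hD
      intro d hd
      have hdC := hDC hd
      have h1 : QuotientGroup.mk' Zc ⟨d, hdC⟩ ∈ (Tb : Subgroup (↥C ⧸ Zc)) :=
        (hTbmem ⟨d, hdC⟩).mpr hd
      rw [h0, Subgroup.mem_bot] at h1
      have h2 : (⟨d, hdC⟩ : ↥C) ∈ Zc := (QuotientGroup.eq_one_iff _).mp h1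
      exact (hZcmem _).mp h2
    have hUb0 : Ub ≠ ⊥ := by
      rw [hUb]; exact Cfsg.Agent.H29.nZ_zero_ne_bot Tb.isPGroup' hTb0
    apply hUb0
    rw [eq_bot_iff]
    intro ub hub
    obtain ⟨c, rfl⟩ := QuotientGroup.mk'_surjective Zc ub
    have hcU : (c : Ω) ∈ U := (hUmem _).mpr ⟨c.2, (hUcmem _).mpr hub⟩
    have hcZ : c ∈ Zc := (hZcmem c).mpr (hle hcU)
    rw [Subgroup.mem_bot]
    exact (QuotientGroup.eq_one_iff c).mpr hcZ
  -- invariance of `U` under `N(Q) ∩ N(D)`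
  have hinv : ∀ n ∈ Subgroup.normalizer (Q : Set Ω), n ∈ Subgroup.normalizer (D : Set Ω) →
      ∀ u ∈ U, n * u * n⁻¹ ∈ U := by
    intro n hnQ hnD u hu
    obtain ⟨huC, hu'⟩ := (hUmem u).mp hu
    obtain ⟨f, hf⟩ : ∃ f : ↥C →* ↥C, ∀ c : ↥C, ((f c : ↥C) : Ω) = n * (c : Ω) * n⁻¹ :=
      ⟨((MulAut.conj n).toMonoidHom.comp C.subtype).codRestrict C (fun c => hnC n hnQ c c.2),
        fun c => rfl⟩
    have hfZ : Zc ≤ Zc.comap f := by
      intro z hz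
      rw [Subgroup.mem_comap, hZcmem, hf]
      exact (Subgroup.mem_normalizer_iff.mp hnQ _).mp ((hZcmem z).mp hz)
    obtain ⟨fb, hfb⟩ : ∃ fb : ↥C ⧸ Zc →* ↥C ⧸ Zc,
        ∀ c : ↥C, fb (QuotientGroup.mk' Zc c) = QuotientGroup.mk' Zc (f c) :=
      ⟨QuotientGroup.map Zc Zc f hfZ, fun c => rfl⟩
    have hfT : (Tb : Subgroup (↥C ⧸ Zc)).map fb = Tb := by
      apply le_antisymm
      · rintro _ ⟨tb, htb, rfl⟩
        obtain ⟨c, rfl⟩ := QuotientGroup.mk'_surjective Zc tb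
        rw [hfb, hTbmem, hf]
        exact (Subgroup.mem_normalizer_iff.mp hnD _).mp ((hTbmem c).mp htb)
      · intro tb htb
        obtain ⟨c, rfl⟩ := QuotientGroup.mk'_surjective Zc tb
        have hcD := (hTbmem c).mp htb
        have hc' : n⁻¹ * (c : Ω) * n ∈ D := by
          have := (Subgroup.mem_normalizer_iff.mp (inv_mem hnD) (c : Ω)).mp hcD
          simpa using this
        refine ⟨QuotientGroup.mk' Zc ⟨n⁻¹ * (c : Ω) * n, hDC hc'⟩, (hTbmem _).mpr hc', ?_⟩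
        rw [hfb]
        congr 1
        apply Subtype.ext
        rw [hf]
        show n * (n⁻¹ * (c : Ω) * n) * n⁻¹ = c
        group
    have hinj : ∀ xb ∈ (Tb : Subgroup (↥C ⧸ Zc)), fb xb = 1 → xb = 1 := by
      intro xb _ hxb
      obtain ⟨c, rfl⟩ := QuotientGroup.mk'_surjective Zc xb
      rw [hfb] at hxb
      have h1 : f c ∈ Zc := (QuotientGroup.eq_one_iff _).mp hxb
      have h2 : n * (c : Ω) * n⁻¹ ∈ Q := by rw [← hf]; exact (hZcmem _).mp h1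
      have h3 : (c : Ω) ∈ Q := (Subgroup.mem_normalizer_iff.mp hnQ _).mpr h2
      exact (QuotientGroup.eq_one_iff c).mpr ((hZcmem c).mpr h3)
    have hmapU : Ub.map fb = Ub := by
      rw [hUb, Cfsg.Agent.H29.nZ_map_hom fb hinj, hfT]
    have h1 : QuotientGroup.mk' Zc (f ⟨u, huC⟩) ∈ Ub := by
      rw [← hfb, ← hmapU]
      exact Subgroup.mem_map_of_mem fb ((hUcmem _).mp hu')
    have h2 : f ⟨u, huC⟩ ∈ Uc := (hUcmem _).mpr h1
    rw [hUmem]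
    refine ⟨hnC n hnQ u huC, ?_⟩
    have e : (⟨n * u * n⁻¹, hnC n hnQ u huC⟩ : ↥C) = f ⟨u, huC⟩ := Subtype.ext (hf ⟨u, huC⟩).symm
    rw [e]; exact h2
  refine ⟨U, hUD.trans (by rw [hDdef]), hUU, hUQ, ?_⟩
  intro x hxQ u hu hxu
  obtain ⟨huC, hu'⟩ := (hUmem u).mp hu
  -- the Sylow subgroup `x D x⁻¹` of `C`
  obtain ⟨Dx, hDx⟩ : ∃ Dx : Subgroup Ω, Dx = D.map (MulAut.conj x).toMonoidHom := ⟨_, rfl⟩
  have hDxC : Dx ≤ C := by
    rw [hDx]; rintro _ ⟨d, hd, rfl⟩; exact hnC x hxQ d (hDC hd)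
  have hcardT : Nat.card (T : Subgroup ↥C) = Nat.card D := by
    rw [hTeq]; exact Nat.card_congr (Subgroup.subgroupOfEquivOfLe hDC).toEquiv
  have hcardx : Nat.card (Dx.subgroupOf C) = p ^ (Nat.card ↥C).factorization p := by
    rw [← T.card_eq_multiplicity, hcardT,
      Nat.card_congr (Subgroup.subgroupOfEquivOfLe hDxC).toEquiv, hDx]
    exact Subgroup.card_map_of_injective (f := (MulAut.conj x).toMonoidHom)
      (MulAut.conj x).injective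
  obtain ⟨c, hc⟩ := MulAction.exists_smul_eq ↥C T (Sylow.ofCard (Dx.subgroupOf C) hcardx)
  have hcD : ∀ d ∈ D, (c : Ω) * d * (c : Ω)⁻¹ ∈ Dx := by
    intro d hd
    have hdT : (⟨d, hDC hd⟩ : ↥C) ∈ (T : Subgroup ↥C) := by
      rw [hTeq]; exact Subgroup.mem_subgroupOf.mpr hd
    have h0 : c * ⟨d, hDC hd⟩ * c⁻¹ ∈ ((c • T : Sylow p ↥C) : Subgroup ↥C) := by
      rw [Sylow.coe_subgroup_smul]
      exact Subgroup.smul_mem_pointwise_smul _ (MulAut.conj c) (T : Subgroup ↥C) hdT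
    rw [hc, Sylow.coe_ofCard] at h0
    exact Subgroup.mem_subgroupOf.mp h0
  have hcQ : (c : Ω) ∈ Subgroup.normalizer (Q : Set Ω) := hCN c.2
  have hn'D : x⁻¹ * (c : Ω) ∈ Subgroup.normalizer (D : Set Ω) := by
    apply Cfsg.Agent.H14.mem_normalizer_of_conj_mem
    intro d hd
    have h1 := hcD d hd
    rw [hDx] at h1
    obtain ⟨d', hd', he⟩ := h1
    have he' : x * d' * x⁻¹ = (c : Ω) * d * (c : Ω)⁻¹ := he
    have e : x⁻¹ * (c : Ω) * d * (x⁻¹ * (c : Ω))⁻¹ = d' := by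
      calc x⁻¹ * (c : Ω) * d * (x⁻¹ * (c : Ω))⁻¹ = x⁻¹ * ((c : Ω) * d * (c : Ω)⁻¹) * x := by group
        _ = x⁻¹ * (x * d' * x⁻¹) * x := by rw [he']
        _ = d' := by group
    rw [e]; exact hd'
  obtain ⟨n, hn⟩ : ∃ n : Ω, n = (c : Ω)⁻¹ * x := ⟨_, rfl⟩
  have hnQ : n ∈ Subgroup.normalizer (Q : Set Ω) := by
    rw [hn]; exact mul_mem (inv_mem hcQ) hxQ
  have hnD : n ∈ Subgroup.normalizer (D : Set Ω) := by
    have e : n = (x⁻¹ * (c : Ω))⁻¹ := by rw [hn]; group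
    rw [e]; exact inv_mem hn'D
  have h1 : n * u * n⁻¹ ∈ U := hinv n hnQ hnD u hu
  obtain ⟨h1C, h1'⟩ := (hUmem _).mp h1
  have hxuC : x * u * x⁻¹ ∈ C := hnC x hxQ u huC
  have hxuD : x * u * x⁻¹ ∈ D := (hDmem _).mpr ⟨hxu, hxuC⟩
  have e : (⟨x * u * x⁻¹, hxuC⟩ : ↥C) = c * ⟨n * u * n⁻¹, h1C⟩ * c⁻¹ := by
    apply Subtype.ext
    show x * u * x⁻¹ = (c : Ω) * (n * u * n⁻¹) * (c : Ω)⁻¹
    rw [hn]; group
  have h2 : QuotientGroup.mk' Zc ⟨x * u * x⁻¹, hxuC⟩ ∈ Ub := by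
    rw [e, map_mul, map_mul, map_inv]
    apply hclb _ ((hUcmem _).mp h1')
    rw [← map_inv, ← map_mul, ← map_mul, ← e]
    exact (hTbmem _).mpr hxuD
  rw [hUmem]
  exact ⟨hxuC, (hUcmem _).mpr h2⟩

end closedSub

section constrained

open Cfsg.FusionSystem

variable {Ω : Type u} [Group Ω] [Finite Ω] {p : ℕ} [Fact p.Prime]

set_option maxHeartbeats 1600000 in
/-- The fusion system of a normalizer-`p`-stable group on a Sylow `p`-subgroup is constrained,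
`p` odd. -/
theorem isConstrained_of_stable (hp2 : p ≠ 2) (hst : IsNormalizerPStable p Ω) (P : Sylow p Ω) :
    (groupFusionSystem (P : Subgroup Ω)).IsConstrained p := by
  have hS : IsPGroup p (P : Subgroup Ω) := P.isPGroup'
  have hF : (groupFusionSystem (P : Subgroup Ω)).IsSaturated p :=
    Cfsg.Agent.H86.groupFusionSystem_saturated p P
  obtain ⟨F, hFdef⟩ : ∃ F : FusionSystem (P : Subgroup Ω),
      F = groupFusionSystem (P : Subgroup Ω) := ⟨_, rfl⟩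
  rw [← hFdef] at hF ⊢
  have hQn : F.IsNormal F.core := Cfsg.Agent.H88.isNormal_core F
  obtain ⟨Q, hQ⟩ : ∃ Q : Subgroup Ω, Q = F.core := ⟨_, rfl⟩
  rw [← hQ] at hQn
  have hQcl : F.StronglyClosed Q := Cfsg.Agent.H86.IsNormal.stronglyClosed hQn
  have hQS : Q ≤ (P : Subgroup Ω) := hQn.1
  -- elementwise strong closure
  have hsc : ∀ q ∈ Q, ∀ g : Ω, g * q * g⁻¹ ∈ (P : Subgroup Ω) → g * q * g⁻¹ ∈ Q := by
    intro q hq g hg
    have hzQ : Subgroup.zpowers q ≤ Q := Subgroup.zpowers_le.mpr hq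
    have hφ : conjHom (Subgroup.zpowers q) g ∈ F.Hom (Subgroup.zpowers q) := by
      rw [hFdef]
      refine ⟨hzQ.trans hQS, ?_, g, fun x => rfl⟩
      rintro ⟨x, hx⟩
      obtain ⟨k, rfl⟩ := Subgroup.mem_zpowers_iff.mp hx
      show g * q ^ k * g⁻¹ ∈ (P : Subgroup Ω)
      have e : g * q ^ k * g⁻¹ = (g * q * g⁻¹) ^ k := by rw [conj_zpow]
      rw [e]; exact zpow_mem hg k
    exact hQcl.2 _ hzQ _ hφ ⟨q, Subgroup.mem_zpowers q⟩
  have hcent : centralizerIn (P : Subgroup Ω) Q ≤ Q := by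
    by_contra hnot
    obtain ⟨U, hUD, hUU, hUQ, hUsc⟩ := exists_closed_sub hp2 hst P Q hQS hsc hnot
    have hUP : U ≤ (P : Subgroup Ω) := hUD.trans inf_le_left
    have hUN : U ≤ Subgroup.normalizer (Q : Set Ω) :=
      (hUD.trans inf_le_right).trans (Subgroup.centralizer_le_normalizer _)
    have hdec : ∀ y ∈ U ⊔ Q, ∃ u ∈ U, ∃ q ∈ Q, y = u * q := by
      intro y hy
      have h1 : y ∈ ((U ⊔ Q : Subgroup Ω) : Set Ω) := hy
      rw [Subgroup.coe_mul_of_left_le_normalizer_right U Q hUN] at h1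
      obtain ⟨u, hu, q, hq, rfl⟩ := Set.mem_mul.mp h1
      exact ⟨u, hu, q, hq, rfl⟩
    have hQnormP : ∀ s ∈ (P : Subgroup Ω), ∀ q ∈ Q, s * q * s⁻¹ ∈ Q := by
      intro s hs q hq
      exact hsc q hq s (mul_mem (mul_mem hs (hQS hq)) (inv_mem hs))
    have hAcl : F.StronglyClosed (U ⊔ Q) := by
      refine ⟨sup_le hUP hQS, ?_⟩
      intro R hR φ hφ y
      obtain ⟨ψ, hψ, hψφ, hψQ⟩ := hQn.2 R φ hφ
      have hψ' := hψ
      rw [hFdef] at hψ'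
      obtain ⟨-, hψP, x, hx⟩ := hψ'
      have hxN : x ∈ Subgroup.normalizer (Q : Set Ω) := by
        apply Cfsg.Agent.H14.mem_normalizer_of_conj_mem
        intro q hq
        have h1 : ψ ⟨q, le_sup_right (a := R) hq⟩ ∈ (Q.subgroupOf (R ⊔ Q)).map ψ :=
          Subgroup.mem_map_of_mem ψ (Subgroup.mem_subgroupOf.mpr hq)
        rw [hψQ, hx] at h1
        exact h1
      obtain ⟨u, hu, q, hq, hy⟩ := hdec y (hR y.2)
      have huRQ : u ∈ R ⊔ Q := by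
        have e : u = (y : Ω) * q⁻¹ := by rw [hy]; group
        rw [e]
        exact mul_mem (le_sup_left (b := Q) y.2) (le_sup_right (a := R) (inv_mem hq))
      have hxu : x * u * x⁻¹ ∈ (P : Subgroup Ω) := by
        have := hψP ⟨u, huRQ⟩
        rwa [hx] at this
      have h2 : x * u * x⁻¹ ∈ U := hUsc x hxN u hu hxu
      have h3 : x * q * x⁻¹ ∈ Q := (Subgroup.mem_normalizer_iff.mp hxN q).mp hq
      have h4 : φ y = x * (y : Ω) * x⁻¹ := by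
        rw [← hψφ y, hx]
        rfl
      rw [h4, hy]
      have e : x * (u * q) * x⁻¹ = (x * u * x⁻¹) * (x * q * x⁻¹) := by group
      rw [e]
      exact mul_mem (le_sup_left (b := Q) h2) (le_sup_right (a := U) h3)
    have hAR : U ⊔ Q ≤ Q ⊔ centralizerIn (P : Subgroup Ω) Q :=
      sup_le (hUD.trans le_sup_right) le_sup_left
    have hAA : ⁅U ⊔ Q, U ⊔ Q⁆ ≤ Q := by
      rw [Subgroup.commutator_le]
      intro a ha b hb
      obtain ⟨a₁, ha₁, q₁, hq₁, rfl⟩ := hdec a ha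
      obtain ⟨a₂, ha₂, q₂, hq₂, rfl⟩ := hdec b hb
      have e : ⁅a₁ * q₁, a₂ * q₂⁆ = (a₁ * q₁ * a₁⁻¹) *
          ((a₁ * a₂) * (q₂ * q₁⁻¹) * (a₁ * a₂)⁻¹) *
          ((a₁ * a₂ * a₁⁻¹) * q₂⁻¹ * (a₁ * a₂ * a₁⁻¹)⁻¹) * (a₁ * a₂ * a₁⁻¹ * a₂⁻¹) := by
        rw [commutatorElement_def]
        group
      rw [e]
      have hP1 := hUP ha₁
      have hP2 := hUP ha₂
      refine mul_mem (mul_mem (mul_mem (hQnormP _ hP1 _ hq₁)
        (hQnormP _ (mul_mem hP1 hP2) _ (mul_mem hq₂ (inv_mem hq₁))))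
        (hQnormP _ (mul_mem (mul_mem hP1 hP2) (inv_mem hP1)) _ (inv_mem hq₂))) ?_
      have h5 := hUU a₁ ha₁ a₂ ha₂
      rwa [commutatorElement_def] at h5
    have hWn := Cfsg.Agent.H88.isNormal_sup_of_commutator_le hS hF hQn hAcl hAR hAA
    have hle : U ⊔ Q ⊔ Q ≤ F.core := le_sSup hWn
    rw [← hQ] at hle
    exact hUQ (le_sup_left.trans (le_sup_left.trans hle))
  refine ⟨hF, Q, hQn, hQS, fun Q' hconj => ?_⟩
  obtain ⟨φ, hφ, hrange⟩ := hconj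
  have hwc := Cfsg.Agent.H89.weaklyClosed_of_stronglyClosed hQcl
  have hQ' : Q' = Q := by rw [← hrange]; exact hwc.2 φ hφ
  rw [hQ']; exact hcent

end constrained

end Cfsg.Agent.H57.QSL
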