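import Mathlib
import Cfsg.Agent.H4.TnDefs

/-!
# TN-PAIRSLOC (S3805 team project, lead helper4): pairs of conjugates of an involution with
product in `S₁` (helper57)
-/

set_option autoImplicit false

namespace Cfsg.Agent.H57.Tn

open Subgroup Cfsg.Agent.H4.Tn

universe u

section aux

variable {G : Type u} [Group G] {T : Subgroup G} {a b u v : G}

theorem pl_a_ne_one (cfg : Cfg G T a b u v) : a ≠ 1 := by
  intro h
  have := (cfg.indep 1 0 (by simpa using h)).1
  omega

theorem pl_aa_ne_one (cfg : Cfg G T a b u v) : a * a ≠ 1 := by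
  intro h
  have := (cfg.indep 2 0 (by simpa [pow_two] using h)).1
  omega

theorem pl_a_ne_inv (cfg : Cfg G T a b u v) : a ≠ a⁻¹ := by
  intro h
  exact pl_aa_ne_one cfg (by rw [eq_inv_iff_mul_eq_one] at h; exact h)

theorem pl_aa (cfg : Cfg G T a b u v) : a * a = a⁻¹ := by
  have h := cfg.a3
  rw [pow_succ, pow_two] at h
  exact eq_inv_of_mul_eq_one_left h

theorem pl_ii (cfg : Cfg G T a b u v) : a⁻¹ * a⁻¹ = a := by
  rw [← mul_inv_rev, pl_aa cfg, inv_inv]

theorem pl_pow (cfg : Cfg G T a b u v) (i : ℕ) : a ^ i = 1 ∨ a ^ i = a ∨ a ^ i = a⁻¹ := by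
  have h : a ^ i = a ^ (i % 3) := pow_eq_pow_mod i cfg.a3
  have h3 : i % 3 = 0 ∨ i % 3 = 1 ∨ i % 3 = 2 := by omega
  rcases h3 with h3 | h3 | h3
  · left; rw [h, h3, pow_zero]
  · right; left; rw [h, h3, pow_one]
  · right; right; rw [h, h3, pow_two, pl_aa cfg]

/-- `⟨b,u⟩` centralizes `a`. -/
theorem pl_A2_comm (cfg : Cfg G T a b u v) :
    ∀ w ∈ closure ({b, u} : Set G), Commute w a := by
  have h : closure ({b, u} : Set G) ≤ centralizer ({a} : Set G) := by
    rw [closure_le]
    rintro x (rfl | rfl)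
    · rw [SetLike.mem_coe, mem_centralizer_iff]
      rintro y rfl
      exact cfg.comm _ cfg.aT _ cfg.bT
    · rw [SetLike.mem_coe, mem_centralizer_iff]
      rintro y rfl
      exact cfg.ua.symm
  intro w hw
  have := h hw
  rw [mem_centralizer_iff] at this
  exact (this a rfl).symm

/-- `a ∉ ⟨b,u⟩`. -/
theorem pl_a_notMem (cfg : Cfg G T a b u v) : a ∉ closure ({b, u} : Set G) := by
  have h : closure ({b, u} : Set G) ≤ centralizer ({v} : Set G) := by
    rw [closure_le]
    rintro x (rfl | rfl)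
    · rw [SetLike.mem_coe, mem_centralizer_iff]
      rintro y rfl
      exact cfg.vb
    · rw [SetLike.mem_coe, mem_centralizer_iff]
      rintro y rfl
      exact cfg.uv.symm
  intro ha
  have := h ha
  rw [mem_centralizer_iff] at this
  have h1 : v * a = a * v := this v rfl
  rw [cfg.va] at h1
  exact pl_a_ne_inv cfg (mul_right_cancel h1).symm

theorem pl_ainv_notMem (cfg : Cfg G T a b u v) : a⁻¹ ∉ closure ({b, u} : Set G) := by
  intro h
  exact pl_a_notMem cfg (by simpa using (closure ({b, u} : Set G)).inv_mem h)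

/-- The dichotomy for elements of `N`. -/
theorem pl_dich (cfg : Cfg G T a b u v) (n : G) (hn : n ∈ normalizer (T : Set G)) :
    (n * a = a * n ∧ ∃ w ∈ closure ({b, u} : Set G), n = w ∨ n = a * w ∨ n = a⁻¹ * w) ∨
      n * a = a⁻¹ * n := by
  obtain ⟨t, ht, h⟩ := cfg.Nelts n hn
  obtain ⟨i, j, rfl⟩ := cfg.Telts t ht
  have hta : Commute (a ^ i * b ^ j) a := cfg.comm _ ht _ cfg.aT
  have hbj : b ^ j ∈ closure ({b, u} : Set G) := pow_mem (subset_closure (by simp)) j
  have hu : u ∈ closure ({b, u} : Set G) := subset_closure (by simp)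
  have key : ∀ w ∈ closure ({b, u} : Set G),
      a ^ i * w = w ∨ a ^ i * w = a * w ∨ a ^ i * w = a⁻¹ * w := by
    intro w _
    rcases pl_pow cfg i with h | h | h
    · left; rw [h, one_mul]
    · right; left; rw [h]
    · right; right; rw [h]
  rcases h with rfl | rfl | rfl | rfl
  · left
    exact ⟨hta.eq, b ^ j, hbj, key _ hbj⟩
  · left
    refine ⟨?_, b ^ j * u, mul_mem hbj hu, ?_⟩
    · calc a ^ i * b ^ j * u * a = a ^ i * b ^ j * (u * a) := mul_assoc _ _ _
        _ = a ^ i * b ^ j * (a * u) := by rw [cfg.ua]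
        _ = a ^ i * b ^ j * a * u := (mul_assoc _ _ _).symm
        _ = a * (a ^ i * b ^ j) * u := by rw [hta.eq]
        _ = a * (a ^ i * b ^ j * u) := mul_assoc _ _ _
    · rw [mul_assoc]
      exact key _ (mul_mem hbj hu)
  · right
    calc a ^ i * b ^ j * v * a = a ^ i * b ^ j * (v * a) := mul_assoc _ _ _
      _ = a ^ i * b ^ j * (a⁻¹ * v) := by rw [cfg.va]
      _ = a ^ i * b ^ j * a⁻¹ * v := (mul_assoc _ _ _).symm
      _ = a⁻¹ * (a ^ i * b ^ j) * v := by rw [hta.inv_right.eq]
      _ = a⁻¹ * (a ^ i * b ^ j * v) := mul_assoc _ _ _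
  · right
    have huv : u * v * a = a⁻¹ * (u * v) := by
      calc u * v * a = u * (v * a) := mul_assoc _ _ _
        _ = u * (a⁻¹ * v) := by rw [cfg.va]
        _ = u * a⁻¹ * v := (mul_assoc _ _ _).symm
        _ = a⁻¹ * u * v := by
          have : Commute u a := cfg.ua
          rw [this.inv_right.eq]
        _ = a⁻¹ * (u * v) := mul_assoc _ _ _
    calc a ^ i * b ^ j * (u * v) * a = a ^ i * b ^ j * (u * v * a) := mul_assoc _ _ _
      _ = a ^ i * b ^ j * (a⁻¹ * (u * v)) := by rw [huv]
      _ = a ^ i * b ^ j * a⁻¹ * (u * v) := (mul_assoc _ _ _).symm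
      _ = a⁻¹ * (a ^ i * b ^ j) * (u * v) := by rw [hta.inv_right.eq]
      _ = a⁻¹ * (a ^ i * b ^ j * (u * v)) := mul_assoc _ _ _

/-- An element of `N` of square one commuting with `a` lies in `⟨b,u⟩`. -/
theorem pl_invol_mem (cfg : Cfg G T a b u v) (m : G) (hm : m * m = 1)
    (h : ∃ w ∈ closure ({b, u} : Set G), m = w ∨ m = a * w ∨ m = a⁻¹ * w) :
    m ∈ closure ({b, u} : Set G) := by
  obtain ⟨w, hw, rfl | rfl | rfl⟩ := h
  · exact hw
  · exfalso
    have hc : Commute w a := pl_A2_comm cfg w hw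
    have h1 : a * w * (a * w) = a * a * (w * w) := by
      calc a * w * (a * w) = a * (w * a) * w := by group
        _ = a * (a * w) * w := by rw [hc.eq]
        _ = a * a * (w * w) := by group
    rw [h1, pl_aa cfg] at hm
    have h2 : a⁻¹ = (w * w)⁻¹ := eq_inv_of_mul_eq_one_left hm
    exact pl_ainv_notMem cfg (h2 ▸ inv_mem (mul_mem hw hw))
  · exfalso
    have hc : Commute w a⁻¹ := (pl_A2_comm cfg w hw).inv_right
    have h1 : a⁻¹ * w * (a⁻¹ * w) = a⁻¹ * a⁻¹ * (w * w) := by
      calc a⁻¹ * w * (a⁻¹ * w) = a⁻¹ * (w * a⁻¹) * w := by group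
        _ = a⁻¹ * (a⁻¹ * w) * w := by rw [hc.eq]
        _ = a⁻¹ * a⁻¹ * (w * w) := by group
    rw [h1, pl_ii cfg] at hm
    have h2 : a = (w * w)⁻¹ := eq_inv_of_mul_eq_one_left hm
    exact pl_a_notMem cfg (h2 ▸ inv_mem (mul_mem hw hw))

/-- Two elements of `N` of square one whose product commutes with `a` and is outside `⟨b,u⟩`:
the first inverts `a`. -/
theorem pl_inv_of_pair (cfg : Cfg G T a b u v) (y y' : G) (hy : y * y = 1) (hy' : y' * y' = 1)
    (hyN : y ∈ normalizer (T : Set G)) (hy'N : y' ∈ normalizer (T : Set G))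
    (hz : y * y' ∉ closure ({b, u} : Set G)) (hc : Commute (y * y') a) :
    y * a = a⁻¹ * y := by
  rcases pl_dich cfg y hyN with ⟨h1, h2⟩ | h
  · exfalso
    have hyA : y ∈ closure ({b, u} : Set G) := pl_invol_mem cfg y hy h2
    have hc' : Commute y' a := by
      have h3 : Commute (y⁻¹ * (y * y')) a := (Commute.inv_left (show Commute y a from h1)).mul_left hc
      rwa [inv_mul_cancel_left] at h3
    rcases pl_dich cfg y' hy'N with ⟨_, h4⟩ | h4
    · exact hz (mul_mem hyA (pl_invol_mem cfg y' hy' h4))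
    · rw [hc'.eq] at h4
      exact pl_a_ne_inv cfg (mul_right_cancel h4)
  · exact h

end aux

theorem pairsLoc (hS : StS1.{u}) (hTI : StTI.{u}) (hT : StTIT.{u}) : StPairsLoc.{u} := by
  intro G _ _ T a b u v cfg x hx
  classical
  haveI : Fintype G := Fintype.ofFinite G
  obtain ⟨hS1, -, hS3, -, -⟩ := hS G T a b u v cfg
  have hTI' := hTI G T a b u v cfg
  have hT' := hT G T a b u v cfg
  set A2 : Subgroup G := closure ({b, u} : Set G) with hA2
  have ha1 := pl_a_ne_one cfg
  -- conjugates of `x` have square one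
  have hsq : ∀ y, IsConj x y → y * y = 1 := by
    intro y hy
    obtain ⟨c, rfl⟩ := isConj_iff.1 hy
    calc c * x * c⁻¹ * (c * x * c⁻¹) = c * (x * x) * c⁻¹ := by group
      _ = 1 := by rw [hx]; group
  -- elements inverting `a` lie in `N`
  have hIN : ∀ y, y * a = a⁻¹ * y → y ∈ normalizer (T : Set G) := by
    intro y hy
    refine hT' a cfg.aT ha1 y ?_
    rw [hy, mul_inv_cancel_right]
    exact T.inv_mem cfg.aT
  -- product of two elements inverting `a` commutes with `a`
  have hprod : ∀ y y', y * a = a⁻¹ * y → y' * a = a⁻¹ * y' → Commute (y * y') a := by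
    intro y y' hy hy'
    have h1 : y * a⁻¹ = a * y := by
      rw [mul_inv_eq_iff_eq_mul, mul_assoc, hy, mul_inv_cancel_left]
    show y * y' * a = a * (y * y')
    calc y * y' * a = y * (y' * a) := mul_assoc _ _ _
      _ = y * (a⁻¹ * y') := by rw [hy']
      _ = y * a⁻¹ * y' := (mul_assoc _ _ _).symm
      _ = a * y * y' := by rw [h1]
      _ = a * (y * y') := mul_assoc _ _ _
  -- product of two elements inverting `a`: trichotomy
  have htri : ∀ y y', y * a = a⁻¹ * y → y' * a = a⁻¹ * y' → y * y' ∉ A2 →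
      (a⁻¹ * (y * y') ∈ A2 ∨ a * (y * y') ∈ A2) := by
    intro y y' hy hy' hz
    have hzN : y * y' ∈ normalizer (T : Set G) := mul_mem (hIN y hy) (hIN y' hy')
    rcases pl_dich cfg (y * y') hzN with ⟨_, w, hw, h | h | h⟩ | h
    · exact absurd (h ▸ hw) hz
    · left; rw [h, inv_mul_cancel_left]; exact hw
    · right; rw [h, mul_inv_cancel_left]; exact hw
    · exfalso
      rw [(hprod y y' hy hy').eq] at h
      exact pl_a_ne_inv cfg (mul_right_cancel h)
  set I : Finset G := Finset.univ.filter (fun y => IsConj x y ∧ y * a * y⁻¹ = a⁻¹) with hI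
  have hmemI : ∀ y, y ∈ I ↔ IsConj x y ∧ y * a = a⁻¹ * y := by
    intro y
    rw [hI, Finset.mem_filter, mul_inv_eq_iff_eq_mul]
    simp
  have hcardI : Nat.card {y : G // IsConj x y ∧ y * a * y⁻¹ = a⁻¹} = I.card := by
    rw [Nat.card_eq_fintype_card, Fintype.card_subtype]
  have hcardP : Nat.card {p : G × G // IsConj x p.1 ∧ IsConj x p.2 ∧ p.1 * p.2 ∈ S1 a b u} =
      ((I ×ˢ I).filter (fun p : G × G => ¬ (p.1 * p.2 ∈ A2))).card := by
    rw [Nat.card_eq_fintype_card, Fintype.card_subtype]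
    congr 1
    ext p
    obtain ⟨y, y'⟩ := p
    simp only [Finset.mem_filter, Finset.mem_univ, true_and, Finset.mem_product, hmemI]
    constructor
    · rintro ⟨h1, h2, h3⟩
      have hy := hsq y h1
      have hy' := hsq y' h2
      have hyi : y⁻¹ = y := inv_eq_of_mul_eq_one_left hy
      have hy'i : y'⁻¹ = y' := inv_eq_of_mul_eq_one_left hy'
      have hzN : y * y' ∈ normalizer (T : Set G) := hS1 _ h3
      have hyN : y ∈ normalizer (T : Set G) := by
        refine hTI' (y * y') h3 y ?_
        have h4 : y * (y * y') * y⁻¹ = (y * y')⁻¹ := by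
          rw [mul_inv_rev, hyi, hy'i, ← mul_assoc, hy, one_mul]
        rw [h4]
        exact hS3 _ h3
      have hy'N : y' ∈ normalizer (T : Set G) := by
        have h5 : y' = y⁻¹ * (y * y') := by rw [inv_mul_cancel_left]
        rw [h5]
        exact mul_mem (inv_mem hyN) hzN
      -- the product commutes with `a` and is outside `A2`
      obtain ⟨w, hw, h6⟩ := h3
      have hwc : Commute w a := pl_A2_comm cfg w hw
      have hzc : Commute (y * y') a := by
        rcases h6 with h6 | h6
        · rw [h6]; exact (Commute.refl a).mul_left hwc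
        · rw [h6]; exact ((Commute.refl a).inv_left).mul_left hwc
      have hzA : y * y' ∉ A2 := by
        intro h7
        rcases h6 with h6 | h6
        · rw [h6] at h7
          have : a ∈ A2 := by
            have := mul_mem h7 (inv_mem hw)
            rwa [mul_inv_cancel_right] at this
          exact pl_a_notMem cfg this
        · rw [h6] at h7
          have : a⁻¹ ∈ A2 := by
            have := mul_mem h7 (inv_mem hw)
            rwa [mul_inv_cancel_right] at this
          exact pl_ainv_notMem cfg this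
      have hz' : y' * y = (y * y')⁻¹ := by rw [mul_inv_rev, hyi, hy'i]
      refine ⟨⟨⟨h1, pl_inv_of_pair cfg y y' hy hy' hyN hy'N hzA hzc⟩,
        ⟨h2, pl_inv_of_pair cfg y' y hy' hy hy'N hyN ?_ ?_⟩⟩, hzA⟩
      · rw [hz']
        intro h8
        exact hzA (by simpa using A2.inv_mem h8)
      · rw [hz']
        exact hzc.inv_left
    · rintro ⟨⟨⟨h1, h1'⟩, ⟨h2, h2'⟩⟩, h3⟩
      refine ⟨h1, h2, ?_⟩
      rcases htri y y' h1' h2' h3 with h | h
      · exact ⟨a⁻¹ * (y * y'), h, Or.inl (by rw [mul_inv_cancel_left])⟩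
      · exact ⟨a * (y * y'), h, Or.inr (by rw [inv_mul_cancel_left])⟩
  have hsum : ((I ×ˢ I).filter (fun p : G × G => ¬ (p.1 * p.2 ∈ A2))).card
      = ∑ y' ∈ I, (I.filter (fun y => ¬ (y * y' ∈ A2))).card := by
    rw [Finset.card_filter, Finset.sum_product_right]
    refine Finset.sum_congr rfl fun y' _ => ?_
    rw [Finset.card_filter]
  have key : ∀ y' ∈ I, 3 * (I.filter (fun y => ¬ (y * y' ∈ A2))).card = 2 * I.card := by
    intro y' hy'
    rw [hmemI] at hy'
    obtain ⟨hy'1, hy'2⟩ := hy'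
    set D0 := I.filter (fun y => y * y' ∈ A2) with hD0
    set D1 := I.filter (fun y => a⁻¹ * (y * y') ∈ A2) with hD1
    set D2 := I.filter (fun y => a * (y * y') ∈ A2) with hD2
    have hDn : I.filter (fun y => ¬ (y * y' ∈ A2)) = D1 ∪ D2 := by
      ext y
      simp only [Finset.mem_filter, Finset.mem_union, hD1, hD2]
      constructor
      · rintro ⟨h1, h2⟩
        rcases htri y y' ((hmemI y).1 h1).2 hy'2 h2 with h | h
        · exact Or.inl ⟨h1, h⟩
        · exact Or.inr ⟨h1, h⟩
      · rintro (⟨h1, h2⟩ | ⟨h1, h2⟩)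
        · refine ⟨h1, fun h3 => ?_⟩
          have : a⁻¹ ∈ A2 := by
            have := mul_mem h2 (inv_mem h3)
            rwa [mul_inv_cancel_right] at this
          exact pl_ainv_notMem cfg this
        · refine ⟨h1, fun h3 => ?_⟩
          have : a ∈ A2 := by
            have := mul_mem h2 (inv_mem h3)
            rwa [mul_inv_cancel_right] at this
          exact pl_a_notMem cfg this
    have hdisj : Disjoint D1 D2 := by
      rw [Finset.disjoint_left]
      intro y h1 h2
      rw [hD1, Finset.mem_filter] at h1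
      rw [hD2, Finset.mem_filter] at h2
      have : a * a ∈ A2 := by
        have := mul_mem h2.2 (inv_mem h1.2)
        rwa [mul_inv_rev, inv_inv, mul_assoc, mul_inv_cancel_left] at this
      rw [pl_aa cfg] at this
      exact pl_ainv_notMem cfg this
    -- the shift `y ↦ a⁻¹ * y`
    have hshift : ∀ y ∈ I, a⁻¹ * y ∈ I := by
      intro y hy
      rw [hmemI] at hy ⊢
      obtain ⟨h1, h2⟩ := hy
      have h3 : y * a⁻¹ = a * y := by
        rw [mul_inv_eq_iff_eq_mul, mul_assoc, h2, mul_inv_cancel_left]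
      have h4 : a⁻¹ * y = a * y * a⁻¹ := by
        rw [mul_assoc, h3, ← mul_assoc, pl_aa cfg]
      refine ⟨?_, ?_⟩
      · rw [h4]
        exact h1.trans (isConj_iff.2 ⟨a, rfl⟩)
      · rw [mul_assoc, h2]
    have hinj : ∀ s : Finset G, Set.InjOn (fun y : G => a⁻¹ * y) (s : Set G) :=
      fun s y _ y2 _ h => mul_left_cancel h
    have h10 : D1.card ≤ D0.card := by
      refine Finset.card_le_card_of_injOn (fun y => a⁻¹ * y) ?_ (hinj _)
      intro y hy
      rw [Finset.mem_coe, hD1, Finset.mem_filter] at hy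
      rw [Finset.mem_coe, hD0, Finset.mem_filter]
      refine ⟨hshift y hy.1, ?_⟩
      rw [mul_assoc]
      exact hy.2
    have h02 : D0.card ≤ D2.card := by
      refine Finset.card_le_card_of_injOn (fun y => a⁻¹ * y) ?_ (hinj _)
      intro y hy
      rw [Finset.mem_coe, hD0, Finset.mem_filter] at hy
      rw [Finset.mem_coe, hD2, Finset.mem_filter]
      refine ⟨hshift y hy.1, ?_⟩
      rw [mul_assoc, mul_inv_cancel_left]
      exact hy.2
    have h21 : D2.card ≤ D1.card := by
      refine Finset.card_le_card_of_injOn (fun y => a⁻¹ * y) ?_ (hinj _)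
      intro y hy
      rw [Finset.mem_coe, hD2, Finset.mem_filter] at hy
      rw [Finset.mem_coe, hD1, Finset.mem_filter]
      refine ⟨hshift y hy.1, ?_⟩
      rw [mul_assoc, ← mul_assoc a⁻¹ a⁻¹, pl_ii cfg]
      exact hy.2
    have hsplit : D0.card + (I.filter (fun y => ¬ (y * y' ∈ A2))).card = I.card :=
      Finset.card_filter_add_card_filter_not (s := I) (fun y => y * y' ∈ A2)
    rw [hDn, Finset.card_union_of_disjoint hdisj] at hsplit ⊢
    omega
  rw [hcardP, hcardI, hsum, Finset.mul_sum, Finset.sum_congr rfl key, Finset.sum_const,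
    smul_eq_mul]
  ring

example (hS : StS1.{u}) (hTI : StTI.{u}) (hT : StTIT.{u}) : StPairsLoc.{u} :=
  pairsLoc hS hTI hT

end Cfsg.Agent.H57.Tn
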