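import Mathlib
import Cfsg.Agent.H64.TtDefs

set_option autoImplicit false
set_option linter.style.haveILetI false
set_option linter.unusedSectionVars false
set_option linter.unusedVariables false

/-!
# Piece TT-REG (helper57, for helper64's S3385 project): abstract regularity on paths
-/

namespace Cfsg.Agent.H57.Tt

open MulAction Cfsg.Agent.H64.Tt

universe u v

/-- pointwise stabilizer of the first `n` vertices of `p` -/
def T (G : Type u) [Group G] {E : Type v} [MulAction G E] (n : ℕ) (p : ℕ → E) : Subgroup G :=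
  ⨅ j ∈ Finset.range n, stabilizer G (p j)

theorem mem_T {G : Type u} [Group G] {E : Type v} [MulAction G E] {n : ℕ} {p : ℕ → E} {h : G} :
    h ∈ T G n p ↔ ∀ j, j < n → h • p j = p j := by
  unfold T
  simp only [Subgroup.mem_iInf, Finset.mem_range, mem_stabilizer_iff]

set_option maxHeartbeats 1600000 in
theorem reg : RegStmt.{u, v} := by
  intro G _ _ E _ R k htrans hfaith hinv htwo hconn hcard e₀ g hR
  classical
  haveI := htrans
  set e : ℕ → E := fun j => g ^ j • e₀ with he
  have hpath : ∀ j, R (e j) (e (j + 1)) := by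
    intro j
    have h1 := hinv (g ^ j) e₀ (g • e₀) hR
    have h2 : g ^ j • g • e₀ = g ^ (j + 1) • e₀ := by rw [pow_succ, mul_smul]
    rw [h2] at h1
    exact h1
  -- successors
  have hsucc2 : ∀ v a b : E, R v a → R v b → a ≠ b → ∀ c, R v c → c = a ∨ c = b := by
    intro v a b ha hb hab c hc
    obtain ⟨x, y, hxy, hs⟩ := Set.ncard_eq_two.mp (htwo v)
    have hm : ∀ w, R v w ↔ w = x ∨ w = y := by
      intro w
      have : w ∈ {e' : E | R v e'} ↔ w ∈ ({x, y} : Set E) := by rw [hs]
      simpa using this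
    rcases (hm a).mp ha with h1 | h1 <;> rcases (hm b).mp hb with h2 | h2 <;>
      rcases (hm c).mp hc with h3 | h3
    · exact absurd (h1.trans h2.symm) hab
    · exact absurd (h1.trans h2.symm) hab
    · left; rw [h3, h1]
    · right; rw [h3, h2]
    · right; rw [h3, h2]
    · left; rw [h3, h1]
    · exact absurd (h1.trans h2.symm) hab
    · exact absurd (h1.trans h2.symm) hab
  have hsuccex : ∀ v : E, ∃ a, R v a := by
    intro v
    obtain ⟨x, y, hxy, hs⟩ := Set.ncard_eq_two.mp (htwo v)
    refine ⟨x, ?_⟩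
    have : x ∈ {e' : E | R v e'} := by rw [hs]; simp
    exact this
  have hfixR : ∀ (s : G) (v a : E), s • v = v → R v a → R v (s • a) := by
    intro s v a hs ha
    have := hinv s v a ha
    rwa [hs] at this
  have hpredex : ∀ v : E, ∃ a, R a v := by
    intro v
    obtain ⟨h, hh⟩ := MulAction.exists_smul_eq G (g • e₀) v
    exact ⟨h • e₀, hh ▸ hinv h e₀ (g • e₀) hR⟩
  have hTsucc : ∀ m, T G (m + 1) e = T G m e ⊓ stabilizer G (e m) := by
    intro m
    ext t
    simp only [mem_T, Subgroup.mem_inf, mem_stabilizer_iff]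
    constructor
    · intro h
      exact ⟨fun j hj => h j (by omega), h m (by omega)⟩
    · rintro ⟨h1, h2⟩ j hj
      rcases Nat.lt_succ_iff_lt_or_eq.mp hj with h | rfl
      · exact h1 j h
      · exact h2
  have hTle : ∀ m, T G (m + 1) e ≤ T G m e := fun m => by rw [hTsucc]; exact inf_le_left
  have hstep : ∀ m, 1 ≤ m → T G (m + 1) e ≠ T G m e →
      (∃ s ∈ T G m e, s • e m ≠ e m) ∧
        Nat.card (T G m e) = 2 * Nat.card (T G (m + 1) e) := by
    intro m hm hne
    have hex : ∃ s ∈ T G m e, s • e m ≠ e m := by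
      by_contra hcon
      push_neg at hcon
      apply hne
      apply le_antisymm (hTle m)
      intro t ht
      rw [hTsucc, Subgroup.mem_inf]
      exact ⟨ht, mem_stabilizer_iff.mpr (hcon t ht)⟩
    refine ⟨hex, ?_⟩
    obtain ⟨s, hs, hsm⟩ := hex
    have hcov : ((T G m e : Subgroup G) : Set G) ⊆
        ((T G (m + 1) e : Subgroup G) : Set G) ∪
          (fun b => s * b) '' ((T G (m + 1) e : Subgroup G) : Set G) := by
      intro a ha
      have ha' : a ∈ T G m e := ha
      have hfix : a • e (m - 1) = e (m - 1) := mem_T.mp ha' (m - 1) (by omega)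
      have hR1 : R (e (m - 1)) (e m) := by
        have := hpath (m - 1)
        rwa [Nat.sub_add_cancel hm] at this
      have hsfix : s • e (m - 1) = e (m - 1) := mem_T.mp hs (m - 1) (by omega)
      have hR2 : R (e (m - 1)) (s • e m) := hfixR s _ _ hsfix hR1
      have hR3 : R (e (m - 1)) (a • e m) := hfixR a _ _ hfix hR1
      rcases hsucc2 _ _ _ hR1 hR2 (Ne.symm hsm) _ hR3 with h | h
      · left
        show a ∈ T G (m + 1) e
        rw [hTsucc, Subgroup.mem_inf]; exact ⟨ha', mem_stabilizer_iff.mpr h⟩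
      · right
        refine ⟨s⁻¹ * a, ?_, by group⟩
        show s⁻¹ * a ∈ T G (m + 1) e
        rw [hTsucc, Subgroup.mem_inf]
        refine ⟨(T G m e).mul_mem ((T G m e).inv_mem hs) ha', ?_⟩
        rw [mem_stabilizer_iff, mul_smul, h, inv_smul_smul]
    have hle2 : Nat.card (T G m e) ≤ 2 * Nat.card (T G (m + 1) e) := by
      have e1 : Nat.card (T G m e) = ((T G m e : Subgroup G) : Set G).ncard :=
        (Nat.card_coe_set_eq _)
      have e2 : Nat.card (T G (m + 1) e) = ((T G (m + 1) e : Subgroup G) : Set G).ncard :=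
        (Nat.card_coe_set_eq _)
      rw [e1, e2]
      calc ((T G m e : Subgroup G) : Set G).ncard
          ≤ (((T G (m + 1) e : Subgroup G) : Set G) ∪
              (fun b => s * b) '' ((T G (m + 1) e : Subgroup G) : Set G)).ncard :=
            Set.ncard_le_ncard hcov (Set.toFinite _)
        _ ≤ ((T G (m + 1) e : Subgroup G) : Set G).ncard +
              ((fun b => s * b) '' ((T G (m + 1) e : Subgroup G) : Set G)).ncard :=
            Set.ncard_union_le _ _
        _ ≤ ((T G (m + 1) e : Subgroup G) : Set G).ncard +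
              ((T G (m + 1) e : Subgroup G) : Set G).ncard :=
            Nat.add_le_add_left (Set.ncard_image_le (Set.toFinite _)) _
        _ = 2 * ((T G (m + 1) e : Subgroup G) : Set G).ncard := by ring
    have hdvd : Nat.card (T G (m + 1) e) ∣ Nat.card (T G m e) :=
      Subgroup.card_dvd_of_le (hTle m)
    have hlt : Nat.card (T G (m + 1) e) < Nat.card (T G m e) := by
      by_contra hcon
      exact hne (Subgroup.eq_of_le_of_card_ge (hTle m) (not_lt.mp hcon))
    have hpos : 0 < Nat.card (T G (m + 1) e) := Nat.card_pos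
    obtain ⟨c, hc⟩ := hdvd
    rw [hc] at hle2 hlt ⊢
    have hc2 : c ≤ 2 := by
      by_contra hcon
      have h3 : 3 ≤ c := by omega
      have : Nat.card (T G (m + 1) e) * 3 ≤ Nat.card (T G (m + 1) e) * c :=
        Nat.mul_le_mul_left _ h3
      omega
    have hc1 : 2 ≤ c := by
      by_contra hcon
      have h3 : c ≤ 1 := by omega
      have : Nat.card (T G (m + 1) e) * c ≤ Nat.card (T G (m + 1) e) * 1 :=
        Nat.mul_le_mul_left _ h3
      omega
    have : c = 2 := by omega
    rw [this, mul_comm]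
  have hex0 : ∃ m, 1 ≤ m ∧ T G (m + 1) e = T G m e := by
    by_contra hcon
    push_neg at hcon
    have hdec : ∀ m, 1 ≤ m → Nat.card (T G m e) + m ≤ Nat.card (T G 1 e) + 1 := by
      intro m hm
      induction m, hm using Nat.le_induction with
      | base => exact le_refl _
      | succ m hm ih =>
        have h2 := (hstep m hm (hcon m hm)).2
        have hpos : 0 < Nat.card (T G (m + 1) e) := Nat.card_pos
        omega
    have h1 := hdec (Nat.card (T G 1 e) + 2) (by omega)
    omega
  have hm0 : 1 ≤ Nat.find hex0 ∧ T G (Nat.find hex0 + 1) e = T G (Nat.find hex0) e :=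
    Nat.find_spec hex0
  have hmin : ∀ m, 1 ≤ m → m < Nat.find hex0 → T G (m + 1) e ≠ T G m e := by
    intro m hm hlt heq
    exact Nat.find_min hex0 hlt ⟨hm, heq⟩
  generalize Nat.find hex0 = n at hm0 hmin
  obtain ⟨hn1, hn2⟩ := hm0
  have hT1 : Nat.card (T G 1 e) = 2 ^ k := by
    have h0 : T G 1 e = stabilizer G e₀ := by
      ext t
      rw [mem_T, mem_stabilizer_iff]
      constructor
      · intro h
        have := h 0 (by omega)
        simpa [he] using this
      · intro h j hj
        have hj0 : j = 0 := by omega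
        subst hj0
        simpa [he] using h
    rw [h0]; exact hcard e₀
  have hcount : ∀ m, 1 ≤ m → m ≤ n → Nat.card (T G m e) = 2 ^ (k + 1 - m) ∧ m ≤ k + 1 := by
    intro m hm
    induction m, hm using Nat.le_induction with
    | base => intro _; exact ⟨by simpa using hT1, by omega⟩
    | succ m hm ih =>
      intro hle
      obtain ⟨h1, h2⟩ := ih (by omega)
      have h3 := (hstep m hm (hmin m hm (by omega))).2
      have hpos : 0 < Nat.card (T G (m + 1) e) := Nat.card_pos
      rw [h1] at h3
      have hk : m + 1 ≤ k + 1 := by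
        by_contra hcon
        have h4 : k + 1 - m = 0 := by omega
        rw [h4, pow_zero] at h3
        omega
      refine ⟨?_, hk⟩
      have h4 : k + 1 - m = (k + 1 - (m + 1)) + 1 := by omega
      rw [h4, pow_succ] at h3
      linarith
  have hA : ∀ m, 1 ≤ m → m ≤ n → ∀ p : ℕ → E, (∀ j, j + 1 < m → R (p j) (p (j + 1))) →
      ∃ h : G, ∀ j, j < m → h • p j = e j := by
    intro m hm
    induction m, hm using Nat.le_induction with
    | base =>
      intro _ p _
      obtain ⟨h, hh⟩ := MulAction.exists_smul_eq G (p 0) (e 0)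
      refine ⟨h, fun j hj => ?_⟩
      have hj0 : j = 0 := by omega
      subst hj0
      exact hh
    | succ m hm ih =>
      intro hle p hp
      obtain ⟨h, hh⟩ := ih (by omega) p (fun j hj => hp j (by omega))
      obtain ⟨s, hs, hsm⟩ := (hstep m hm (hmin m hm (by omega))).1
      have hR1 : R (e (m - 1)) (e m) := by
        have := hpath (m - 1)
        rwa [Nat.sub_add_cancel hm] at this
      have hsfix : s • e (m - 1) = e (m - 1) := mem_T.mp hs (m - 1) (by omega)
      have hR2 : R (e (m - 1)) (s • e m) := hfixR s _ _ hsfix hR1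
      have hR3 : R (e (m - 1)) (h • p m) := by
        have h1 := hinv h _ _ (hp (m - 1) (by omega))
        rw [Nat.sub_add_cancel hm] at h1
        rwa [hh (m - 1) (by omega)] at h1
      rcases hsucc2 _ _ _ hR1 hR2 (Ne.symm hsm) _ hR3 with h4 | h4
      · refine ⟨h, fun j hj => ?_⟩
        rcases Nat.lt_succ_iff_lt_or_eq.mp hj with h5 | rfl
        · exact hh j h5
        · exact h4
      · refine ⟨s⁻¹ * h, fun j hj => ?_⟩
        rw [mul_smul]
        rcases Nat.lt_succ_iff_lt_or_eq.mp hj with h5 | rfl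
        · rw [hh j h5, inv_smul_eq_iff]
          exact (mem_T.mp hs j h5).symm
        · rw [h4, inv_smul_smul]
  have hNfix : ∀ t ∈ T G n e, t • e n = e n := by
    intro t ht
    have : t ∈ T G (n + 1) e := by rw [hn2]; exact ht
    exact mem_T.mp this n (by omega)
  have hconj : ∀ (p : ℕ → E) (h : G), (∀ j, j < n → h • p j = e j) → ∀ t ∈ T G n p,
      h * t * h⁻¹ ∈ T G n e := by
    intro p h hh t ht
    rw [mem_T]; intro j hj
    rw [mul_smul, mul_smul, ← hh j hj, inv_smul_smul, mem_T.mp ht j hj]
  have hcardT : ∀ p : ℕ → E, (∀ j, j + 1 < n → R (p j) (p (j + 1))) →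
      Nat.card (T G n p) = Nat.card (T G n e) := by
    intro p hp
    obtain ⟨h, hh⟩ := hA n hn1 le_rfl p hp
    have h0 : T G n p = (T G n e).map (MulAut.conj h⁻¹).toMonoidHom := by
      ext t
      rw [Subgroup.mem_map]
      constructor
      · intro ht
        refine ⟨h * t * h⁻¹, hconj p h hh t ht, ?_⟩
        simp only [MulEquiv.coe_toMonoidHom, MulAut.conj_apply, inv_inv]
        group
      · rintro ⟨t', ht', rfl⟩
        rw [mem_T]
        intro j hj
        have h1 := mem_T.mp ht' j hj
        simp only [MulEquiv.coe_toMonoidHom, MulAut.conj_apply, inv_inv]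
        rw [mul_smul, mul_smul, hh j hj, h1, ← hh j hj, inv_smul_smul]
    rw [h0]
    exact Subgroup.card_map_of_injective (MulEquiv.injective _)
  have hB : ∀ p : ℕ → E, (∀ j, j + 1 < n → R (p j) (p (j + 1))) → ∀ f, R (p (n - 1)) f →
      T G n p ≤ stabilizer G f := by
    intro p hp f hf t ht
    obtain ⟨h, hh⟩ := hA n hn1 le_rfl p hp
    have ht' : h * t * h⁻¹ ∈ T G n e := hconj p h hh t ht
    have hR1 : R (e (n - 1)) (e n) := by
      have := hpath (n - 1); rwa [Nat.sub_add_cancel hn1] at this
    have hR3 : R (e (n - 1)) (h • f) := by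
      have h1 := hinv h _ _ hf
      rwa [hh (n - 1) (by omega)] at h1
    have hfix : (h * t * h⁻¹) • e (n - 1) = e (n - 1) := mem_T.mp ht' (n - 1) (by omega)
    have hkey : (h * t * h⁻¹) • (h • f) = h • f := by
      by_cases hc : h • f = e n
      · rw [hc]; exact hNfix _ ht'
      · have hR4 : R (e (n - 1)) ((h * t * h⁻¹) • (h • f)) := hfixR _ _ _ hfix hR3
        rcases hsucc2 _ _ _ hR1 hR3 (Ne.symm hc) _ hR4 with h5 | h5
        · exfalso
          apply hc
          have h6 : (h * t * h⁻¹)⁻¹ • e n = e n := by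
            rw [inv_smul_eq_iff]; exact (hNfix _ ht').symm
          rw [← h6, ← h5, inv_smul_smul]
        · exact h5
    rw [mem_stabilizer_iff]
    have h7 : (h * t * h⁻¹) • (h • f) = h • (t • f) := by
      rw [mul_smul, mul_smul, inv_smul_smul]
    rw [h7] at hkey
    exact smul_left_cancel h hkey
  have hshift : ∀ p : ℕ → E, (∀ j, j + 1 < n → R (p j) (p (j + 1))) → ∀ f, R (p (n - 1)) f →
      ∀ q : ℕ → E, (∀ j, j + 1 < n → q j = p (j + 1)) → q (n - 1) = f →
      (∀ j, j + 1 < n → R (q j) (q (j + 1))) ∧ T G n q = T G n p := by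
    intro p hp f hf q hq1 hq2
    have hqpath : ∀ j, j + 1 < n → R (q j) (q (j + 1)) := by
      intro j hj
      rw [hq1 j hj]
      by_cases h2 : j + 2 < n
      · rw [hq1 (j + 1) h2]; exact hp (j + 1) h2
      · have h3 : j + 1 = n - 1 := by omega
        rw [h3, hq2]
        exact hf
    refine ⟨hqpath, ?_⟩
    symm
    apply Subgroup.eq_of_le_of_card_ge
    · intro t ht
      rw [mem_T]; intro j hj
      by_cases h1 : j + 1 < n
      · rw [hq1 j h1]; exact mem_T.mp ht (j + 1) h1
      · have h3 : j = n - 1 := by omega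
        rw [h3, hq2]
        exact hB p hp f hf ht
    · rw [hcardT p hp, hcardT q hqpath]
  -- the good paths
  let W : (ℕ → E) → Prop := fun p => (∀ j, j + 1 < n → R (p j) (p (j + 1))) ∧ T G n p = T G n e
  have hWe : W e := ⟨fun j _ => hpath j, rfl⟩
  have hfwd : ∀ p, W p → ∀ f, R (p (n - 1)) f → ∃ q, W q ∧ q (n - 1) = f ∧
      ∀ j, j + 1 < n → q j = p (j + 1) := by
    intro p hp f hf
    refine ⟨fun j => if j + 1 < n then p (j + 1) else f, ?_, ?_, ?_⟩
    · have h1 := hshift p hp.1 f hf (fun j => if j + 1 < n then p (j + 1) else f)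
        (fun j hj => by simp [hj]) (by simp; omega)
      exact ⟨h1.1, h1.2.trans hp.2⟩
    · simp; omega
    · intro j hj; simp [hj]
  have hbwd : ∀ p, W p → ∀ f, R f (p 0) → ∃ q, W q ∧ q 0 = f ∧
      ∀ j, j + 1 < n → q (j + 1) = p j := by
    intro p hp f hf
    have hqpath : ∀ j, j + 1 < n →
        R ((fun j => if j = 0 then f else p (j - 1)) j)
          ((fun j => if j = 0 then f else p (j - 1)) (j + 1)) := by
      intro j hj
      by_cases hj0 : j = 0
      · subst hj0
        simpa using hf
      · have h1 := hp.1 (j - 1) (by omega)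
        rw [Nat.sub_add_cancel (by omega : 1 ≤ j)] at h1
        simpa [hj0] using h1
    have hlast : R ((fun j => if j = 0 then f else p (j - 1)) (n - 1)) (p (n - 1)) := by
      by_cases hn0 : n - 1 = 0
      · rw [hn0]; simpa using hf
      · have h1 := hp.1 (n - 1 - 1) (by omega)
        rw [Nat.sub_add_cancel (by omega : 1 ≤ n - 1)] at h1
        simpa [hn0] using h1
    have h2 := hshift (fun j => if j = 0 then f else p (j - 1)) hqpath (p (n - 1)) hlast p
      (fun j hj => by simp) rfl
    refine ⟨fun j => if j = 0 then f else p (j - 1), ⟨hqpath, ?_⟩, by simp, fun j hj => by simp⟩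
    rw [← h2.2]; exact hp.2
  have hL1 : ∀ d : ℕ, ∀ p, W p → ∀ j, j + d = n - 1 → ∃ q, W q ∧ q (n - 1) = p j := by
    intro d
    induction d with
    | zero =>
      intro p hp j hj
      have : j = n - 1 := by omega
      exact ⟨p, hp, by rw [this]⟩
    | succ d ih =>
      intro p hp j hj
      obtain ⟨f, hf⟩ := hpredex (p 0)
      obtain ⟨q, hq, -, hq2⟩ := hbwd p hp f hf
      obtain ⟨q', hq', hq'2⟩ := ih q hq (j + 1) (by omega)
      exact ⟨q', hq', by rw [hq'2, hq2 j (by omega)]⟩
  have hL2 : ∀ j : ℕ, ∀ p, W p → j < n → ∃ q, W q ∧ q 0 = p j := by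
    intro j
    induction j with
    | zero => intro p hp _; exact ⟨p, hp, rfl⟩
    | succ j ih =>
      intro p hp hj
      obtain ⟨f, hf⟩ := hsuccex (p (n - 1))
      obtain ⟨q, hq, -, hq2⟩ := hfwd p hp f hf
      obtain ⟨q', hq', hq'2⟩ := ih q hq (by omega)
      exact ⟨q', hq', by rw [hq'2, hq2 j hj]⟩
  have hCuniv : {v : E | ∃ p, W p ∧ ∃ j, j < n ∧ p j = v} = Set.univ := by
    apply hconn
    · exact ⟨e 0, e, hWe, 0, by omega, rfl⟩
    · intro v v' hvv'
      constructor
      · rintro ⟨p, hp, j, hj, rfl⟩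
        obtain ⟨q, hq, hq2⟩ := hL1 (n - 1 - j) p hp j (by omega)
        obtain ⟨q', hq', hq'2, -⟩ := hfwd q hq v' (by rw [hq2]; exact hvv')
        exact ⟨q', hq', n - 1, by omega, hq'2⟩
      · rintro ⟨p, hp, j, hj, rfl⟩
        obtain ⟨q, hq, hq2⟩ := hL2 j p hp hj
        obtain ⟨q', hq', hq'2, -⟩ := hbwd q hq v (by rw [hq2]; exact hvv')
        exact ⟨q', hq', 0, by omega, hq'2⟩
  have hbot : T G n e = ⊥ := by
    rw [Subgroup.eq_bot_iff_forall]
    intro t ht
    apply hfaith
    intro v
    have hv : v ∈ {v : E | ∃ p, W p ∧ ∃ j, j < n ∧ p j = v} := by rw [hCuniv]; trivial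
    obtain ⟨p, hp, j, hj, rfl⟩ := hv
    have ht' : t ∈ T G n p := by rw [hp.2]; exact ht
    exact mem_T.mp ht' j hj
  have hnk : n = k + 1 := by
    obtain ⟨h1, h2⟩ := hcount n hn1 le_rfl
    rw [hbot, Subgroup.card_bot] at h1
    have h3 : k + 1 - n = 0 := by
      by_contra hcon
      have : 2 ≤ 2 ^ (k + 1 - n) := by
        calc 2 = 2 ^ 1 := by norm_num
          _ ≤ 2 ^ (k + 1 - n) := Nat.pow_le_pow_right (by norm_num) (by omega)
      omega
    omega
  intro m hm1 hm2
  exact (hcount m hm1 (by omega)).1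

example : Cfsg.Agent.H64.Tt.RegStmt.{u, v} := reg

end Cfsg.Agent.H57.Tt
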