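import Cfsg.Agent.H57.W4Defs

/-!
# W4: assembly of the pieces (`|W_K| = 4`)
-/

set_option autoImplicit false
open Cfsg

namespace Cfsg.Agent.H57.W4

universe u

theorem w4 (hCore : StCore.{u}) (hBasic : StBasic.{u}) (hFpf : StFpf.{u}) (hAct : StAct.{u}) :
    StW4.{u} := by
  intro G _ _ T K hJK h3 hWT hW1
  obtain ⟨hOK, hO2, hNO, hNU, hUab, hUsq, hOU, hUO⟩ := hBasic K
  obtain ⟨A, hAT, hAN, hAab, hAsq, hAmax, a, haA, x, hxK, hax⟩ := hAct T K hJK h3
  have haN : a ∈ Subgroup.normalizer (K : Set G) := hAN haA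
  have hKN : K ≤ Subgroup.normalizer (K : Set G) := Subgroup.le_normalizer
  have hxN : x ∈ Subgroup.normalizer (K : Set G) := hKN hxK
  have hxO : x ∉ pCoreOf 2 K := by
    intro hx
    apply hax
    exact (pCoreOf 2 K).mul_mem (hNO a haN x hx) ((pCoreOf 2 K).inv_mem hx)
  obtain ⟨hx3, hfpf, htri⟩ := hFpf K h3 x hxK hxO
  have hconjK : ∀ g ∈ Subgroup.normalizer (K : Set G), ∀ k ∈ K, g * k * g⁻¹ ∈ K := by
    intro g hg k hk
    exact (Subgroup.mem_normalizer_iff.mp hg k).mp hk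
  -- elements of N(K) either centralize or invert x modulo O
  have hinvx : ∀ g ∈ Subgroup.normalizer (K : Set G), g * x * g⁻¹ * x⁻¹ ∉ pCoreOf 2 K →
      g * x * g⁻¹ * x ∈ pCoreOf 2 K := by
    intro g hg hgx
    rcases htri (g * x * g⁻¹) (hconjK g hg x hxK) with h | h | h
    · exfalso; apply hxO
      have h2 := hNO g⁻¹ (Subgroup.inv_mem _ hg) _ h
      have e : g⁻¹ * (g * x * g⁻¹) * g⁻¹⁻¹ = x := by group
      rw [e] at h2; exact h2
    · exact absurd h hgx
    · exact h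
  have hax' : a * x * a⁻¹ * x ∈ pCoreOf 2 K := hinvx a haN hax
  -- the subgroup A0
  let A0 : Subgroup G :=
    { carrier := {b | b ∈ A ∧ b * x * b⁻¹ * x⁻¹ ∈ pCoreOf 2 K}
      mul_mem' := by
        rintro b c ⟨hb, hb'⟩ ⟨hc, hc'⟩
        refine ⟨A.mul_mem hb hc, ?_⟩
        have e : (b * c) * x * (b * c)⁻¹ * x⁻¹ =
            (b * (c * x * c⁻¹ * x⁻¹) * b⁻¹) * (b * x * b⁻¹ * x⁻¹) := by group
        rw [e]
        exact (pCoreOf 2 K).mul_mem (hNO b (hAN hb) _ hc') hb'
      one_mem' := by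
        refine ⟨A.one_mem, ?_⟩
        have e : (1 : G) * x * 1⁻¹ * x⁻¹ = 1 := by group
        rw [e]; exact (pCoreOf 2 K).one_mem
      inv_mem' := by
        rintro b ⟨hb, hb'⟩
        have e : b⁻¹ = b := inv_eq_of_mul_eq_one_left (hAsq b hb)
        rw [e]
        exact ⟨hb, hb'⟩ }
  have hA0A : A0 ≤ A := fun b hb => hb.1
  have hA0mem : ∀ b, b ∈ A0 ↔ b ∈ A ∧ b * x * b⁻¹ * x⁻¹ ∈ pCoreOf 2 K := fun b => Iff.rfl
  -- |A| ≤ 2 |A0|
  have hcardA : Nat.card ↥A ≤ 2 * Nat.card ↥A0 := by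
    have hsub : (A : Set G) ⊆ (A0 : Set G) ∪ (fun b => a * b) '' (A0 : Set G) := by
      intro b hb
      by_cases hb0 : b * x * b⁻¹ * x⁻¹ ∈ pCoreOf 2 K
      · left; exact ⟨hb, hb0⟩
      · right
        have hbx := hinvx b (hAN hb) hb0
        refine ⟨a * b, ⟨A.mul_mem haA hb, ?_⟩, ?_⟩
        · have e : (a * b) * x * (a * b)⁻¹ * x⁻¹ =
              (a * (b * x * b⁻¹ * x) * a⁻¹) * (x * (a * x * a⁻¹ * x)⁻¹ * x⁻¹) := by group
          rw [e]
          exact (pCoreOf 2 K).mul_mem (hNO a haN _ hbx)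
            (hNO x hxN _ ((pCoreOf 2 K).inv_mem hax'))
        · show a * (a * b) = b
          rw [← mul_assoc, hAsq a haA, one_mul]
    have h1 : Nat.card ↥A = (A : Set G).ncard := Nat.card_coe_set_eq (A : Set G)
    have h2 : Nat.card ↥A0 = (A0 : Set G).ncard := Nat.card_coe_set_eq (A0 : Set G)
    rw [h1, h2]
    calc (A : Set G).ncard ≤ ((A0 : Set G) ∪ (fun b => a * b) '' (A0 : Set G)).ncard :=
          Set.ncard_le_ncard hsub (Set.toFinite _)
      _ ≤ (A0 : Set G).ncard + ((fun b => a * b) '' (A0 : Set G)).ncard := Set.ncard_union_le _ _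
      _ ≤ (A0 : Set G).ncard + (A0 : Set G).ncard :=
          Nat.add_le_add_left (Set.ncard_image_le (Set.toFinite _)) _
      _ = 2 * (A0 : Set G).ncard := by ring
  -- apply the core
  have hcard : Nat.card ↥(wOf K) ≤ 4 := by
    refine hCore A0 (wOf K) x a hUab hUsq (hNU x hxN) hfpf ?_ (hNU a haN) ?_ ?_ ?_ ?_ ?_ ?_ ?_ ?_
    · intro u hu
      have e : x * (x * (x * u * x⁻¹) * x⁻¹) * x⁻¹ = (x * x * x) * u * (x * x * x)⁻¹ := by group
      rw [e]
      exact hOU _ hx3 u hu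
    · intro u hu
      have e : a * (a * u * a⁻¹) * a⁻¹ = (a * a) * u * (a * a)⁻¹ := by group
      rw [e, hAsq a haA]
      group
    · intro u hu
      have hmem : x⁻¹ * u * x ∈ wOf K := by
        have := hNU x⁻¹ (Subgroup.inv_mem _ hxN) u hu
        rwa [inv_inv] at this
      have e : a * (x * (a⁻¹ * u * a) * x⁻¹) * a⁻¹ =
          (a * x * a⁻¹ * x) * (x⁻¹ * u * x) * (a * x * a⁻¹ * x)⁻¹ := by group
      rw [e]
      exact hOU _ hax' _ hmem
    · intro b hb c hc
      exact hAab b hb.1 c hc.1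
    · intro b hb
      exact hAsq b hb.1
    · intro b hb u hu
      exact hNU b (hAN hb.1) u hu
    · intro b hb
      exact hAab b hb.1 a haA
    · intro b hb u hu
      have hmem : x * (b * u * b⁻¹) * x⁻¹ ∈ wOf K := hNU x hxN _ (hNU b (hAN hb.1) u hu)
      have e : b * (x * u * x⁻¹) * b⁻¹ =
          (b * x * b⁻¹ * x⁻¹) * (x * (b * u * b⁻¹) * x⁻¹) * (b * x * b⁻¹ * x⁻¹)⁻¹ := by group
      rw [e]
      exact hOU _ hb.2 _ hmem
    · intro B hB hBab hBsq
      have hBT : B ≤ T := hB.trans (sup_le (hA0A.trans hAT) hWT)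
      exact (hAmax B hBT hBab hBsq).trans hcardA
  refine ⟨?_, hUsq⟩
  -- the order is a power of 2, at most 4, not 1 and not 2
  have hU2 : IsPGroup 2 ↥(wOf K) := by
    intro g
    refine ⟨1, ?_⟩
    have := hUsq g.1 g.2
    apply Subtype.ext
    simp only [pow_one, Subgroup.coe_pow, Subgroup.coe_one]
    rw [pow_two]; exact this
  obtain ⟨n, hn⟩ := IsPGroup.exists_card_eq hU2
  have hn2 : n ≤ 2 := by
    by_contra hcon
    push_neg at hcon
    have : 2 ^ 3 ≤ 2 ^ n := Nat.pow_le_pow_right (by norm_num) hcon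
    omega
  obtain ⟨u, huU, hu1⟩ : ∃ u ∈ wOf K, u ≠ 1 := by
    by_contra hcon
    push_neg at hcon
    apply hW1
    rw [eq_bot_iff]
    intro v hv
    rw [Subgroup.mem_bot]
    exact hcon v hv
  interval_cases n
  · exfalso
    apply hW1
    exact Subgroup.card_eq_one.mp (by simpa using hn)
  · exfalso
    -- |U| = 2: U = {1, u}, so x fixes u
    have hord : orderOf u = 2 := orderOf_eq_prime (by rw [pow_two]; exact hUsq u huU) hu1
    have hz : Subgroup.zpowers u = wOf K := by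
      apply Subgroup.eq_of_le_of_card_ge
      · rw [Subgroup.zpowers_le]; exact huU
      · rw [Nat.card_zpowers, hord, hn]; norm_num
    have hxu : x * u * x⁻¹ ∈ Subgroup.zpowers u := by
      rw [hz]; exact hNU x hxN u huU
    rw [Subgroup.mem_zpowers_iff] at hxu
    obtain ⟨k, hk⟩ := hxu
    have hk2 : u ^ k = 1 ∨ u ^ k = u := by
      rcases Int.emod_two_eq_zero_or_one k with h | h
      · left
        have : k = 2 * (k / 2) := by omega
        rw [this, zpow_mul, zpow_ofNat, pow_two, hUsq u huU, one_zpow]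
      · right
        have : k = 2 * (k / 2) + 1 := by omega
        rw [this, zpow_add, zpow_mul, zpow_ofNat, pow_two, hUsq u huU, one_zpow, one_mul,
          zpow_one]
    rcases hk2 with h | h
    · rw [h] at hk
      apply hu1
      have : x * u * x⁻¹ = 1 := hk.symm
      have e : u = x⁻¹ * (x * u * x⁻¹) * x := by group
      rw [e, this]; group
    · rw [h] at hk
      exact hu1 (hfpf u huU hk.symm)
  · simpa using hn

end Cfsg.Agent.H57.W4
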