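import Cfsg.Agent.H57.W4Defs
import Cfsg.Agent.H59.SoConj

/-!
# W4-BASIC: canonical facts about `O₂(K)` and `W_K`
-/

set_option autoImplicit false
open Cfsg

namespace Cfsg.Agent.H57.W4

universe u

theorem map_conj_of_mem_normalizer {G : Type u} [Group G] (K : Subgroup G) (g : G)
    (hg : g ∈ Subgroup.normalizer (K : Set G)) : K.map (MulAut.conj g).toMonoidHom = K := by
  ext y
  constructor
  · rintro ⟨k, hk, rfl⟩
    exact (Subgroup.mem_normalizer_iff.mp hg k).mp hk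
  · intro hy
    refine ⟨g⁻¹ * y * g, ?_, ?_⟩
    · have h := (Subgroup.mem_normalizer_iff.mp (Subgroup.inv_mem _ hg) y).mp hy
      rwa [inv_inv] at h
    · simp only [MulEquiv.toMonoidHom_eq_coe, MonoidHom.coe_coe, MulAut.conj_apply]
      group

theorem basic : StBasic.{u} := by
  intro G _ _ K
  have hOK : pCoreOf 2 K ≤ K := by
    unfold pCoreOf
    exact Subgroup.map_subtype_le _
  have hO2 : IsPGroup 2 ↥(pCoreOf 2 K) := by
    have h1 : IsPGroup 2 ↥(pCore 2 ↥K) :=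
      Sylow.sSup_of_normal _ (fun _ h => h.2) (fun _ h => h.1)
    unfold pCoreOf
    exact h1.map _
  have hNO : ∀ g ∈ Subgroup.normalizer (K : Set G), ∀ o ∈ pCoreOf 2 K,
      g * o * g⁻¹ ∈ pCoreOf 2 K := by
    intro g hg o ho
    have h1 := Cfsg.Agent.H51.pCoreOf_map 2 K (MulAut.conj g)
    have h2 : g * o * g⁻¹ ∈ (pCoreOf 2 K).map (MulAut.conj g).toMonoidHom := ⟨o, ho, rfl⟩
    have h3 := map_conj_of_mem_normalizer K g hg
    simp only [MulEquiv.toMonoidHom_eq_coe] at h1 h2 h3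
    rw [← h1, h3] at h2
    exact h2
  have hNU : ∀ g ∈ Subgroup.normalizer (K : Set G), ∀ u ∈ wOf K, g * u * g⁻¹ ∈ wOf K := by
    intro g hg u hu
    have h1 := Cfsg.Agent.H59.So.wOf_map_conj g K
    have h2 : g * u * g⁻¹ ∈ (wOf K).map (MulAut.conj g).toMonoidHom := ⟨u, hu, rfl⟩
    rw [← h1, map_conj_of_mem_normalizer K g hg] at h2
    exact h2
  -- the involutions of the centre of `O` form a subgroup
  let Z2 : Subgroup G :=
    { carrier := {z | z ∈ pCoreOf 2 K ∧ z ∈ Subgroup.centralizer (pCoreOf 2 K : Set G) ∧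
        z * z = 1}
      mul_mem' := by
        rintro z w ⟨hz, hzc, hz2⟩ ⟨hw, hwc, hw2⟩
        refine ⟨Subgroup.mul_mem _ hz hw, Subgroup.mul_mem _ hzc hwc, ?_⟩
        have hc : w * z = z * w := Subgroup.mem_centralizer_iff.mp hzc w hw
        calc z * w * (z * w) = z * (w * z) * w := by group
          _ = z * (z * w) * w := by rw [hc]
          _ = (z * z) * (w * w) := by group
          _ = 1 := by rw [hz2, hw2, one_mul]
      one_mem' := ⟨Subgroup.one_mem _, Subgroup.one_mem _, one_mul 1⟩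
      inv_mem' := by
        rintro z ⟨hz, hzc, hz2⟩
        have e : z⁻¹ = z := inv_eq_of_mul_eq_one_left hz2
        rw [e]
        exact ⟨hz, hzc, hz2⟩ }
  have hZ2 : omegaCenterOf (pCoreOf 2 K) ≤ Z2 := by
    unfold omegaCenterOf omegaOne
    rw [Subgroup.closure_le]
    rintro z ⟨⟨hz, hzc⟩, hz2⟩
    exact ⟨hz, hzc, by rw [← pow_two]; exact hz2⟩
  have hKZ : ∀ k ∈ K, ∀ z ∈ omegaCenterOf (pCoreOf 2 K),
      k * z * k⁻¹ ∈ omegaCenterOf (pCoreOf 2 K) := by
    intro k hk z hz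
    have hkN : k ∈ Subgroup.normalizer (K : Set G) := Subgroup.le_normalizer hk
    have h1 := Cfsg.Agent.H59.So.omegaCenterOf_map_conj k (pCoreOf 2 K)
    have h0 : (pCoreOf 2 K).map (MulAut.conj k).toMonoidHom = pCoreOf 2 K := by
      have h1' := Cfsg.Agent.H51.pCoreOf_map 2 K (MulAut.conj k)
      have h3 := map_conj_of_mem_normalizer K k hkN
      simp only [MulEquiv.toMonoidHom_eq_coe] at h1' h3 ⊢
      rw [← h1', h3]
    have h2 : k * z * k⁻¹ ∈ (omegaCenterOf (pCoreOf 2 K)).map (MulAut.conj k).toMonoidHom :=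
      ⟨z, hz, rfl⟩
    rw [← h1, h0] at h2
    exact h2
  have hWZ : wOf K ≤ omegaCenterOf (pCoreOf 2 K) := by
    unfold wOf
    rw [Subgroup.commutator_le]
    intro z hz k hk
    have h1 := hKZ k hk z⁻¹ (Subgroup.inv_mem _ hz)
    show z * k * z⁻¹ * k⁻¹ ∈ _
    have e : z * k * z⁻¹ * k⁻¹ = z * (k * z⁻¹ * k⁻¹) := by group
    rw [e]
    exact Subgroup.mul_mem _ hz h1
  have hW2 : wOf K ≤ Z2 := hWZ.trans hZ2
  refine ⟨hOK, hO2, hNO, hNU, ?_, ?_, ?_, ?_⟩
  · intro u hu v hv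
    have h1 := hW2 hu
    have h2 := hW2 hv
    exact (Subgroup.mem_centralizer_iff.mp h2.2.1 u h1.1)
  · intro u hu
    exact (hW2 hu).2.2
  · intro o ho u hu
    have h1 := hW2 hu
    have hc : o * u = u * o := Subgroup.mem_centralizer_iff.mp h1.2.1 o ho
    rw [hc]; group
  · intro u hu
    exact (hW2 hu).1

example : StBasic.{u} := basic

end Cfsg.Agent.H57.W4
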