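import Mathlib
import Cfsg.Prelude.Def_Local
import Cfsg.Prelude.Def_LocalEven
import Cfsg.Agent.H57.ZJLocal
import Cfsg.Agent.H57.AGStrong

set_option autoImplicit false

/-!
# `N(Ω_n Z J_n(D))` controls strong fusion, for `D` strongly closed (helper57)

`main1`: `p` odd, `P` a Sylow `p`-subgroup, `D ≠ 1` strongly closed in `P`, `G` normalizer-`p`-stable
with `p`-constrained `p`-local subgroups: every `G`-fusion of subsets of `P` is induced by
`N_G(Ω_n(Z(J_n(D))))` up to centralizers (`n = 0` or `n = p`).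
-/

namespace Cfsg.Agent.H57.ZJF

open Cfsg Subgroup
open Cfsg.Agent.H40.Alp (cj rc)
open Cfsg.Agent.H29 (nZ)

variable {G : Type*} [Group G]

/-- `g` is a centralizing element times an element of `M`. -/
def Rel1 (M : Subgroup G) (A : Set G) (g : G) : Prop :=
  ∃ c ∈ centralizer A, ∃ y ∈ M, g = c * y

theorem rel1_mono (M : Subgroup G) {A B : Set G} (h : A ⊆ B) {g : G} :
    Rel1 M B g → Rel1 M A g
  | ⟨c, hc, y, hy, hg⟩ => ⟨c, Subgroup.centralizer_le h hc, y, hy, hg⟩

theorem rel1_centralizer_mul (M : Subgroup G) {A : Set G} {c g : G} (hc : c ∈ centralizer A) :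
    Rel1 M A g → Rel1 M A (c * g)
  | ⟨c', hc', y, hy, hg⟩ => ⟨c * c', mul_mem hc hc', y, hy, by rw [hg, mul_assoc]⟩

theorem rel1_mem (M : Subgroup G) (A : Set G) {y : G} (hy : y ∈ M) : Rel1 M A y :=
  ⟨1, one_mem _, y, hy, by simp⟩

theorem rel1_mul (M : Subgroup G) {A : Set G} {g h : G} :
    Rel1 M A g → Rel1 M (cj g A) h → Rel1 M A (g * h)
  | ⟨c, hc, y, hy, hg⟩, ⟨c', hc', y', hy', hh⟩ => by
    have hcj : cj g A = cj y A := by
      rw [hg, Cfsg.Agent.H40.Alp.cj_mul, Cfsg.Agent.H37.AG.cj_of_mem_centralizer hc]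
    rw [hcj] at hc'
    have h1 : y * c' * y⁻¹ ∈ centralizer A := by
      have := Cfsg.Agent.H57.FP.conj_mem_centralizer_cj y⁻¹ hc'
      rw [Cfsg.Agent.H57.FP.cj_inv_cj] at this
      simpa using this
    exact ⟨c * (y * c' * y⁻¹), mul_mem hc h1, y * y', mul_mem hy hy', by rw [hg, hh]; group⟩

theorem rel1_inv (M : Subgroup G) {A : Set G} {g : G} : Rel1 M A g → Rel1 M (cj g A) g⁻¹
  | ⟨c, hc, y, hy, hg⟩ => by
    have hcj : cj g A = cj y A := by
      rw [hg, Cfsg.Agent.H40.Alp.cj_mul, Cfsg.Agent.H37.AG.cj_of_mem_centralizer hc]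
    rw [hcj]
    exact ⟨y⁻¹ * c⁻¹ * y, Cfsg.Agent.H57.FP.conj_mem_centralizer_cj y (inv_mem hc), y⁻¹,
      inv_mem hy, by rw [hg]; group⟩

/-- Fusion inside `R` by elements of `N_G(Ω_n Z J_n(D ∩ R))`, for sets of size at least `m`. -/
def TProp1 (M D : Subgroup G) (n m : ℕ) (R : Subgroup G) : Prop :=
  ∀ y ∈ normalizer ((nZ n (D ⊓ R) : Subgroup G) : Set G), ∀ X : Set G, X ⊆ (R : Set G) →
    m ≤ Nat.card X → cj y X ⊆ (R : Set G) → Rel1 M X y

theorem local_step1 [Finite G] {p : ℕ} [Fact p.Prime] (hp : p ≠ 2) (n : ℕ) (P : Sylow p G)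
    (D : Subgroup G) (hD : Cfsg.IsStronglyClosed D (P : Subgroup G))
    (hst : Cfsg.IsNormalizerPStable p G)
    (hc : ∀ U : Subgroup G, U ≤ (P : Subgroup G) → U ≠ ⊥ →
      Cfsg.IsPConstrained p ↥(normalizer (U : Set G)))
    (M : Subgroup G) (m : ℕ) (H : Subgroup G) (hHP : H ≤ (P : Subgroup G)) (hHne : H ≠ ⊥)
    (hconj : ∀ u : G,
      cj u ((((P : Subgroup G) ⊓ normalizer (H : Set G) : Subgroup G)) : Set G) ⊆
        ((P : Subgroup G) : Set G) →
      Rel1 M ((((P : Subgroup G) ⊓ normalizer (H : Set G) : Subgroup G)) : Set G) u)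
    (hT : ∀ R₂ : Subgroup G, R₂ ≤ (P : Subgroup G) →
      (P : Subgroup G) ⊓ centralizer ((P : Subgroup G) : Set G) ≤ R₂ →
      Nat.card ((P : Subgroup G) ⊓ normalizer (H : Set G) : Subgroup G) ≤ Nat.card R₂ →
      TProp1 M D n m R₂) :
    ∀ b ∈ normalizer (H : Set G), ∀ X : Set G,
      X ⊆ ((((P : Subgroup G) ⊓ normalizer (H : Set G) : Subgroup G)) : Set G) →
      m ≤ Nat.card X →
      cj b X ⊆ ((((P : Subgroup G) ⊓ normalizer (H : Set G) : Subgroup G)) : Set G) →
      Rel1 M X b := by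
  intro b hb X hX hm hbX
  have hNPp : IsPGroup p ((P : Subgroup G) ⊓ normalizer (H : Set G) : Subgroup G) :=
    P.isPGroup'.to_le inf_le_left
  have hNPp' : IsPGroup p (((P : Subgroup G) ⊓ normalizer (H : Set G)).subgroupOf
      (normalizer (H : Set G))) := hNPp.comap_subtype
  obtain ⟨S₀, hS₀⟩ := hNPp'.exists_le_sylow
  obtain ⟨Q₀, hQ₀def⟩ : ∃ Q₀ : Subgroup G, Q₀ =
      (S₀ : Subgroup ↥(normalizer (H : Set G))).map (normalizer (H : Set G)).subtype := ⟨_, rfl⟩
  have hQ₀N : Q₀ ≤ normalizer (H : Set G) := by rw [hQ₀def]; exact Subgroup.map_subtype_le _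
  have hQ₀p : IsPGroup p Q₀ := by rw [hQ₀def]; exact S₀.isPGroup'.map _
  have hQ₀i : ¬ p ∣ Q₀.relIndex (normalizer (H : Set G)) := by
    rw [hQ₀def, Cfsg.Agent.H40.relIndex_map_subtype_self]; exact S₀.not_dvd_index
  have hNPQ₀ : (P : Subgroup G) ⊓ normalizer (H : Set G) ≤ Q₀ := by
    intro x hx
    rw [hQ₀def]
    exact ⟨⟨x, hx.2⟩, hS₀ hx, rfl⟩
  obtain ⟨e, -, he⟩ := Cfsg.Agent.H57.FP.conj_into_of_relIndex (⊤ : Subgroup G) (P : Subgroup G)
    Q₀ le_top P.isPGroup' (by rw [Subgroup.relIndex_top_right]; exact P.not_dvd_index) le_top hQ₀p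
  have hHQ₀ : H ≤ Q₀ := fun x hx => hNPQ₀ ⟨hHP hx, Subgroup.le_normalizer hx⟩
  obtain ⟨R₂, hR₂⟩ : ∃ R₂ : Subgroup G, R₂ = Q₀.map (MulAut.conj e).toMonoidHom := ⟨_, rfl⟩
  obtain ⟨D₂, hD₂⟩ : ∃ D₂ : Subgroup G, D₂ = H.map (MulAut.conj e).toMonoidHom := ⟨_, rfl⟩
  have hR₂P : R₂ ≤ (P : Subgroup G) := by
    rw [hR₂]; rintro _ ⟨q, hq, rfl⟩; exact he q hq
  have hD₂R₂ : D₂ ≤ R₂ := by rw [hR₂, hD₂]; exact Subgroup.map_mono hHQ₀
  have hND₂ : normalizer (D₂ : Set G) =
      (normalizer (H : Set G)).map (MulAut.conj e).toMonoidHom := by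
    rw [hD₂]; exact Cfsg.Agent.H40.normalizer_map_conj H e
  have hR₂N : R₂ ≤ normalizer (D₂ : Set G) := by
    rw [hND₂, hR₂]; exact Subgroup.map_mono hQ₀N
  have hR₂i : ¬ p ∣ R₂.relIndex (normalizer (D₂ : Set G)) := by
    rw [hND₂, hR₂, Cfsg.Agent.H40.relIndex_map_conj]; exact hQ₀i
  have hR₂eq : (P : Subgroup G) ⊓ normalizer (D₂ : Set G) ≤ R₂ := by
    have hle : R₂ ≤ (P : Subgroup G) ⊓ normalizer (D₂ : Set G) := le_inf hR₂P hR₂N
    have h1 : R₂.relIndex ((P : Subgroup G) ⊓ normalizer (D₂ : Set G)) *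
        ((P : Subgroup G) ⊓ normalizer (D₂ : Set G)).relIndex (normalizer (D₂ : Set G)) =
        R₂.relIndex (normalizer (D₂ : Set G)) :=
      Subgroup.relIndex_mul_relIndex _ _ _ hle inf_le_right
    have h2 : R₂.relIndex ((P : Subgroup G) ⊓ normalizer (D₂ : Set G)) ∣
        Nat.card ((P : Subgroup G) ⊓ normalizer (D₂ : Set G) : Subgroup G) :=
      Subgroup.relIndex_dvd_card _ _
    obtain ⟨k, hk⟩ := IsPGroup.iff_card.mp
      (P.isPGroup'.to_le (inf_le_left : (P : Subgroup G) ⊓ normalizer (D₂ : Set G) ≤ P))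
    rw [hk] at h2
    obtain ⟨j, -, hj⟩ := (Nat.dvd_prime_pow Fact.out).mp h2
    have hj0 : j = 0 := by
      by_contra hne
      apply hR₂i
      rw [← h1, hj]
      exact Dvd.dvd.mul_right (dvd_pow_self p hne) _
    rw [hj0, pow_zero] at hj
    exact Subgroup.relIndex_eq_one.mp hj
  have hD₂P : D₂ ≤ (P : Subgroup G) := hD₂R₂.trans hR₂P
  have hZR₂ : (P : Subgroup G) ⊓ centralizer ((P : Subgroup G) : Set G) ≤ R₂ := by
    refine le_trans (le_inf inf_le_left ?_) hR₂eq
    intro z hz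
    have hz1 : z ∈ centralizer (D₂ : Set G) :=
      Subgroup.centralizer_le (show (D₂ : Set G) ⊆ ((P : Subgroup G) : Set G) from hD₂P) hz.2
    exact Subgroup.centralizer_le_normalizer _ hz1
  have hcardR₂ : Nat.card ((P : Subgroup G) ⊓ normalizer (H : Set G) : Subgroup G) ≤
      Nat.card R₂ := by
    have h2 := Subgroup.card_le_of_le hNPQ₀
    rw [hR₂, Subgroup.card_map_of_injective (MulAut.conj e).injective]; exact h2
  have hR₂p : IsPGroup p R₂ := P.isPGroup'.to_le hR₂P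
  have hD₂ne : D₂ ≠ ⊥ := by
    rw [hD₂, Ne, Subgroup.map_eq_bot_iff_of_injective H (MulAut.conj e).injective]; exact hHne
  have hcon := hc D₂ hD₂P hD₂ne
  have hsc : ∀ x ∈ D ⊓ R₂, ∀ g ∈ normalizer (D₂ : Set G), g * x * g⁻¹ ∈ R₂ →
      g * x * g⁻¹ ∈ D ⊓ R₂ := fun x hx g _ hgx => ⟨hD.2 x hx.1 g (hR₂P hgx), hgx⟩
  have hfac := Cfsg.Agent.H57.ZJL.factorization hp n hst (normalizer (D₂ : Set G)) hcon R₂ hR₂N
    hR₂p hR₂i (D ⊓ R₂) inf_le_right hsc
  have hKc : (Nat.card ((Cfsg.pPrimeCore p ↥(normalizer (D₂ : Set G))).map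
      (normalizer (D₂ : Set G)).subtype)).Coprime p := by
    rw [Subgroup.card_map_of_injective (Subgroup.subtype_injective _)]
    exact Cfsg.Agent.H37.card_pPrimeCore_coprime p
  have hKnorm : normalizer (D₂ : Set G) ≤ normalizer
      (((Cfsg.pPrimeCore p ↥(normalizer (D₂ : Set G))).map
        (normalizer (D₂ : Set G)).subtype : Subgroup G) : Set G) := by
    intro g hg
    apply Cfsg.Agent.H14.mem_normalizer_of_conj_mem
    rintro _ ⟨x, hx, rfl⟩
    exact ⟨⟨g, hg⟩ * x * ⟨g, hg⟩⁻¹,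
      (Cfsg.Agent.H14.pPrimeCore_normal p _).conj_mem x hx _, by simp⟩
  have hR₂D : R₂ ≤ normalizer ((D ⊓ R₂ : Subgroup G) : Set G) := by
    intro r hr
    apply Cfsg.Agent.H14.mem_normalizer_of_conj_mem
    rintro x ⟨hxD, hxR⟩
    have h1 : r * x * r⁻¹ ∈ R₂ := R₂.mul_mem (R₂.mul_mem hr hxR) (R₂.inv_mem hr)
    exact ⟨hD.2 x hxD r (hR₂P h1), h1⟩
  have hR₂M : R₂ ≤ normalizer (D₂ : Set G) ⊓
      normalizer ((nZ n (D ⊓ R₂) : Subgroup G) : Set G) :=
    le_inf hR₂N (hR₂D.trans (Cfsg.Agent.H29.normalizer_le_normalizer_nZ n _))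
  have hLC := Cfsg.Agent.H57.ZJL.local_control (normalizer (D₂ : Set G)) _
    (normalizer (D₂ : Set G) ⊓ normalizer ((nZ n (D ⊓ R₂) : Subgroup G) : Set G))
    hKnorm hKc inf_le_left hfac R₂ hR₂p hR₂M
  -- transport by `u = e⁻¹`
  have hX' : cj e⁻¹ X ⊆ (R₂ : Set G) := by
    rw [hR₂]
    rintro _ ⟨x, hx, rfl⟩
    exact ⟨x, hNPQ₀ (hX hx), by simp [MulAut.conj_apply]⟩
  have hb' : e⁻¹⁻¹ * b * e⁻¹ ∈ normalizer (D₂ : Set G) := by
    rw [hND₂]
    exact ⟨b, hb, by simp [MulAut.conj_apply]⟩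
  have hbX' : cj (e⁻¹⁻¹ * b * e⁻¹) (cj e⁻¹ X) ⊆ (R₂ : Set G) := by
    rw [← Cfsg.Agent.H40.Alp.cj_mul, show e⁻¹ * (e⁻¹⁻¹ * b * e⁻¹) = b * e⁻¹ by group,
      Cfsg.Agent.H40.Alp.cj_mul, hR₂]
    rintro _ ⟨x, hx, rfl⟩
    exact ⟨x, hNPQ₀ (hbX hx), by simp [MulAut.conj_apply]⟩
  obtain ⟨c, hcX, y, hy, hcy⟩ := hLC (cj e⁻¹ X) (e⁻¹⁻¹ * b * e⁻¹) hX' hb' hbX'
  have hyX : cj y (cj e⁻¹ X) ⊆ (R₂ : Set G) := by
    have h1 : cj (e⁻¹⁻¹ * b * e⁻¹) (cj e⁻¹ X) = cj y (cj e⁻¹ X) := by
      rw [hcy, Cfsg.Agent.H40.Alp.cj_mul, Cfsg.Agent.H37.AG.cj_of_mem_centralizer hcX]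
    rw [← h1]; exact hbX'
  have hmX : m ≤ Nat.card (cj e⁻¹ X) := by
    rw [Cfsg.Agent.H37.AG.card_cj]; exact hm
  have hrel1 : Rel1 M (cj e⁻¹ X) y :=
    hT R₂ hR₂P hZR₂ hcardR₂ y hy.2 (cj e⁻¹ X) hX' hmX hyX
  have hrel2 : Rel1 M (cj e⁻¹ X) (e⁻¹⁻¹ * b * e⁻¹) := by
    rw [hcy]; exact rel1_centralizer_mul M hcX hrel1
  have hNPu : cj e⁻¹ ((((P : Subgroup G) ⊓ normalizer (H : Set G) : Subgroup G)) : Set G) ⊆
      ((P : Subgroup G) : Set G) := by
    rintro _ ⟨x, hx, rfl⟩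
    have h2 := he x (hNPQ₀ hx)
    show e⁻¹⁻¹ * x * e⁻¹ ∈ (P : Subgroup G)
    rw [inv_inv]; exact h2
  have hrelu := hconj e⁻¹ hNPu
  have hrel3 : Rel1 M X e⁻¹ := rel1_mono M hX hrelu
  have hrel4 : Rel1 M (cj e⁻¹ (cj b X)) e⁻¹⁻¹ := rel1_inv M (rel1_mono M hbX hrelu)
  have hb_eq : b = e⁻¹ * (e⁻¹⁻¹ * b * e⁻¹) * e⁻¹⁻¹ := by group
  rw [hb_eq]
  refine rel1_mul M (rel1_mul M hrel3 hrel2) ?_
  have h5 : cj (e⁻¹ * (e⁻¹⁻¹ * b * e⁻¹)) X = cj e⁻¹ (cj b X) := by
    rw [show e⁻¹ * (e⁻¹⁻¹ * b * e⁻¹) = b * e⁻¹ by group, Cfsg.Agent.H40.Alp.cj_mul]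
  rw [h5]; exact hrel4

/-- `N_G(Ω_n(Z(J_n(D))))` controls strong fusion in `P`. -/
theorem main1 [Finite G] {p : ℕ} [Fact p.Prime] (hp : p ≠ 2) {n : ℕ} (hn : n = 0 ∨ n = p)
    (P : Sylow p G) (D : Subgroup G) (hD : Cfsg.IsStronglyClosed D (P : Subgroup G))
    (hDne : D ≠ ⊥) (hst : Cfsg.IsNormalizerPStable p G)
    (hc : ∀ U : Subgroup G, U ≤ (P : Subgroup G) → U ≠ ⊥ →
      Cfsg.IsPConstrained p ↥(normalizer (U : Set G))) :
    ∀ (X : Set G) (a : G), X ⊆ ((P : Subgroup G) : Set G) →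
      cj a X ⊆ ((P : Subgroup G) : Set G) →
      Rel1 (normalizer ((nZ n D : Subgroup G) : Set G)) X a := by
  have hPD : (P : Subgroup G) ≤ normalizer (D : Set G) := by
    intro r hr
    apply Cfsg.Agent.H14.mem_normalizer_of_conj_mem
    intro x hx
    exact hD.2 x hx r ((P : Subgroup G).mul_mem ((P : Subgroup G).mul_mem hr (hD.1 hx))
      ((P : Subgroup G).inv_mem hr))
  have hNPD : normalizer ((P : Subgroup G) : Set G) ≤ normalizer (D : Set G) := by
    intro g hg
    apply Cfsg.Agent.H14.mem_normalizer_of_conj_mem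
    intro x hx
    exact hD.2 x hx g ((Subgroup.mem_normalizer_iff.mp hg x).mp (hD.1 hx))
  -- a nontrivial element of `D ∩ Z(P)`
  obtain ⟨z₀, hz₀D, hz₀Z, hz₀1⟩ : ∃ z₀ ∈ D,
      z₀ ∈ (P : Subgroup G) ⊓ centralizer ((P : Subgroup G) : Set G) ∧ z₀ ≠ 1 := by
    haveI hn' : (D.subgroupOf (P : Subgroup G)).Normal := by
      constructor
      intro x hx g
      rw [Subgroup.mem_subgroupOf] at hx ⊢
      have h2 := (Subgroup.mem_normalizer_iff.mp (hPD g.2) (x : G)).mp hx
      simpa using h2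
    have hne' : D.subgroupOf (P : Subgroup G) ≠ ⊥ := by
      obtain ⟨d, hd1⟩ := (Subgroup.ne_bot_iff_exists_ne_one).mp hDne
      intro h0
      have h1 : (⟨(d : G), hD.1 d.2⟩ : ↥(P : Subgroup G)) ∈ D.subgroupOf (P : Subgroup G) := d.2
      rw [h0, Subgroup.mem_bot] at h1
      apply hd1
      apply Subtype.ext
      have := congrArg Subtype.val h1
      simpa using this
    obtain ⟨z, hzD, hzc, hz1⟩ := Cfsg.Agent.H3.normal_inf_center_ne_bot P.isPGroup'
      (D.subgroupOf (P : Subgroup G)) hne'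
    refine ⟨(z : G), hzD, Subgroup.mem_inf.mpr ⟨z.2, ?_⟩, fun h => hz1 (Subtype.ext h)⟩
    rw [Subgroup.mem_centralizer_iff]
    intro g hg
    have := (Subgroup.mem_center_iff.mp hzc) ⟨g, hg⟩
    exact congrArg Subtype.val this
  have key : ∀ k m : ℕ, m + k = Nat.card P + 1 → ∀ (X : Set G) (a : G),
      X ⊆ ((P : Subgroup G) : Set G) → m ≤ Nat.card X →
      cj a X ⊆ ((P : Subgroup G) : Set G) →
      Rel1 (normalizer ((nZ n D : Subgroup G) : Set G)) X a := by
    intro k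
    induction k with
    | zero =>
      intro m hm X a hX hmX _
      exfalso
      have : Nat.card X ≤ Nat.card P := Nat.card_mono (Set.toFinite _) hX
      omega
    | succ k IH =>
      intro m hm
      have IH' := IH (m + 1) (by omega)
      have hconjP : ∀ u : G, cj u ((P : Subgroup G) : Set G) ⊆ ((P : Subgroup G) : Set G) →
          Rel1 (normalizer ((nZ n D : Subgroup G) : Set G)) ((P : Subgroup G) : Set G) u := by
        intro u hu
        have h1 : rc u (P : Subgroup G) ≤ (P : Subgroup G) := by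
          intro x hx
          have hx' : x ∈ ((rc u (P : Subgroup G) : Subgroup G) : Set G) := hx
          rw [Cfsg.Agent.H40.Alp.coe_rc] at hx'
          exact hu hx'
        have h2 : rc u (P : Subgroup G) = (P : Subgroup G) :=
          Subgroup.eq_of_le_of_card_ge h1 (Cfsg.Agent.H40.Alp.card_rc u _).ge
        have huN : u ∈ normalizer ((P : Subgroup G) : Set G) :=
          Cfsg.Agent.H40.Alp.mem_normalizer_of_rc_eq_self h2
        exact rel1_mem _ _ (Cfsg.Agent.H29.normalizer_le_normalizer_nZ n D (hNPD huN))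
      have hTall : ∀ j : ℕ, ∀ R : Subgroup G, R ≤ (P : Subgroup G) →
          (P : Subgroup G) ⊓ centralizer ((P : Subgroup G) : Set G) ≤ R →
          Nat.card P - Nat.card R = j →
          TProp1 (normalizer ((nZ n D : Subgroup G) : Set G)) D n m R := by
        intro j
        induction j using Nat.strong_induction_on with
        | _ j IHj =>
          intro R hRP hZR hj
          by_cases hRP' : R = (P : Subgroup G)
          · intro y hy X _ _ _
            rw [hRP', inf_eq_left.mpr hD.1] at hy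
            exact rel1_mem _ _ hy
          · intro y hy X hX hmX hyX
            have hRp : IsPGroup p R := P.isPGroup'.to_le hRP
            have hcardX : Nat.card X ≤ Nat.card R := Nat.card_mono (Set.toFinite _) hX
            have hDR : D ⊓ R ≠ ⊥ := by
              intro h0
              have h1 : z₀ ∈ D ⊓ R := ⟨hz₀D, hZR hz₀Z⟩
              rw [h0, Subgroup.mem_bot] at h1
              exact hz₀1 h1
            have hDRp : IsPGroup p (D ⊓ R : Subgroup G) := hRp.to_le inf_le_right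
            have hHne : nZ n (D ⊓ R) ≠ ⊥ := Cfsg.Agent.H57.ZJL.nZ_ne_bot hn (D ⊓ R) hDRp hDR
            have hHP : nZ n (D ⊓ R) ≤ (P : Subgroup G) :=
              (Cfsg.Agent.H29.nZ_le n _).trans (inf_le_right.trans hRP)
            have hlt : Nat.card R <
                Nat.card ((P : Subgroup G) ⊓ normalizer (R : Set G) : Subgroup G) :=
              Cfsg.Agent.H40.Alp.card_lt_card_inf_normalizer (P : Subgroup G) P.isPGroup' R hRP hRP'
            have hNR : (P : Subgroup G) ⊓ normalizer (R : Set G) ≤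
                normalizer ((nZ n (D ⊓ R) : Subgroup G) : Set G) := by
              intro g hg
              exact Cfsg.Agent.H29.normalizer_le_normalizer_nZ n _
                (Cfsg.Agent.H57.ZJL.mem_normalizer_inf (hPD hg.1) hg.2)
            have hle : (P : Subgroup G) ⊓ normalizer (R : Set G) ≤
                (P : Subgroup G) ⊓ normalizer ((nZ n (D ⊓ R) : Subgroup G) : Set G) :=
              le_inf inf_le_left hNR
            have hlt' : Nat.card R < Nat.card ((P : Subgroup G) ⊓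
                normalizer ((nZ n (D ⊓ R) : Subgroup G) : Set G) : Subgroup G) :=
              lt_of_lt_of_le hlt (Subgroup.card_le_of_le hle)
            have hRN : R ≤ (P : Subgroup G) ⊓
                normalizer ((nZ n (D ⊓ R) : Subgroup G) : Set G) :=
              le_inf hRP (fun r hr => hNR ⟨hRP hr, Subgroup.le_normalizer hr⟩)
            have hRN' : (R : Set G) ⊆ ((((P : Subgroup G) ⊓
                normalizer ((nZ n (D ⊓ R) : Subgroup G) : Set G) : Subgroup G)) : Set G) := hRN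
            refine local_step1 hp n P D hD hst hc _ m (nZ n (D ⊓ R)) hHP hHne ?_ ?_
              y hy X (hX.trans hRN') hmX (hyX.trans hRN')
            · intro u hu
              refine IH' _ u (show ((((P : Subgroup G) ⊓
                normalizer ((nZ n (D ⊓ R) : Subgroup G) : Set G) : Subgroup G)) : Set G) ⊆
                  ((P : Subgroup G) : Set G) from
                  (inf_le_left : (P : Subgroup G) ⊓
                    normalizer ((nZ n (D ⊓ R) : Subgroup G) : Set G) ≤ P)) ?_ hu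
              have : Nat.card ((((P : Subgroup G) ⊓
                  normalizer ((nZ n (D ⊓ R) : Subgroup G) : Set G) : Subgroup G)) : Set G) =
                  Nat.card ((P : Subgroup G) ⊓
                    normalizer ((nZ n (D ⊓ R) : Subgroup G) : Set G) : Subgroup G) := rfl
              omega
            · intro R₂ hR₂P hZR₂ hcard
              have h1 : Nat.card R₂ ≤ Nat.card P := Subgroup.card_le_of_le hR₂P
              exact IHj (Nat.card P - Nat.card R₂) (by omega) R₂ hR₂P hZR₂ rfl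
      have hgood : ∀ D₀ : Subgroup G, Cfsg.Agent.H37.AG.Good P D₀ → m ≤ Nat.card D₀ →
          ∀ x ∈ normalizer (D₀ : Set G),
            Rel1 (normalizer ((nZ n D : Subgroup G) : Set G)) (D₀ : Set G) x := by
        intro D₀ hD₀ hmD x hx
        have hDP : D₀ ≤ (P : Subgroup G) := hD₀.1
        have hZD : (P : Subgroup G) ⊓ centralizer ((P : Subgroup G) : Set G) ≤ D₀ :=
          le_trans (inf_le_inf_left _ (Subgroup.centralizer_le hDP))
            (Cfsg.Agent.H57.AGS.good_conds P hD₀).1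
        have hD₀ne : D₀ ≠ ⊥ := by
          intro h0
          have h1 : z₀ ∈ D₀ := hZD hz₀Z
          rw [h0, Subgroup.mem_bot] at h1
          exact hz₀1 h1
        have hDN : D₀ ≤ (P : Subgroup G) ⊓ normalizer (D₀ : Set G) :=
          le_inf hDP Subgroup.le_normalizer
        have hDN' : (D₀ : Set G) ⊆
            ((((P : Subgroup G) ⊓ normalizer (D₀ : Set G) : Subgroup G)) : Set G) := hDN
        refine local_step1 hp n P D hD hst hc _ m D₀ hDP hD₀ne ?_ ?_
          x hx (D₀ : Set G) hDN' hmD ?_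
        · intro u hu
          by_cases hDP' : D₀ = (P : Subgroup G)
          · have hNP : (P : Subgroup G) ⊓ normalizer (D₀ : Set G) = (P : Subgroup G) := by
              rw [hDP']; exact inf_eq_left.mpr Subgroup.le_normalizer
            rw [hNP] at hu ⊢
            exact hconjP u hu
          · have hlt := Cfsg.Agent.H40.Alp.card_lt_card_inf_normalizer (P : Subgroup G)
              P.isPGroup' D₀ hDP hDP'
            refine IH' _ u (show ((((P : Subgroup G) ⊓ normalizer (D₀ : Set G) :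
                Subgroup G)) : Set G) ⊆ ((P : Subgroup G) : Set G) from
                  (inf_le_left : (P : Subgroup G) ⊓ normalizer (D₀ : Set G) ≤ P)) ?_ hu
            have : Nat.card ((((P : Subgroup G) ⊓ normalizer (D₀ : Set G) :
                Subgroup G)) : Set G) = Nat.card ((P : Subgroup G) ⊓
                  normalizer (D₀ : Set G) : Subgroup G) := rfl
            have hmD' : m ≤ Nat.card (D₀ : Subgroup G) := hmD
            omega
        · intro R₂ hR₂P hZR₂ _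
          exact hTall _ R₂ hR₂P hZR₂ rfl
        · rw [← Cfsg.Agent.H40.Alp.coe_rc, Cfsg.Agent.H40.Alp.rc_eq_self_of_mem_normalizer hx]
          exact hDN'
      have hchain : ∀ (l : List (Subgroup G × G)) (A : Set G), m ≤ Nat.card A →
          Cfsg.Agent.H37.AG.AChain P A l →
          Rel1 (normalizer ((nZ n D : Subgroup G) : Set G)) A (Cfsg.Agent.H37.AG.aprod l) := by
        intro l
        induction l with
        | nil =>
          intro A _ _
          rw [Cfsg.Agent.H37.AG.aprod_nil]; exact rel1_mem _ A (one_mem _)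
        | cons s l ih =>
          intro A hmA h
          rw [Cfsg.Agent.H37.AG.aprod_cons]
          obtain ⟨hgd, hsN, hAs, hrest⟩ := h
          have hmD : m ≤ Nat.card ((s.1 : Subgroup G) : Set G) :=
            le_trans hmA (Nat.card_mono (Set.toFinite _) hAs)
          exact rel1_mul _ (rel1_mono _ hAs (hgood s.1 hgd hmD s.2 hsN))
            (ih (cj s.2 A) (by rw [Cfsg.Agent.H37.AG.card_cj]; exact hmA) hrest)
      intro X a hX hmX haX
      obtain ⟨l, c, hl, hc', hg⟩ := Cfsg.Agent.H37.AG.rel_of_cj_subset P X a hX haX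
      rw [hg]
      exact rel1_centralizer_mul _ hc' (hchain l X hmX hl)
  intro X a hX haX
  exact key (Nat.card P + 1) 0 (by omega) X a hX (Nat.zero_le _) haX

end Cfsg.Agent.H57.ZJF
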